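import Mathlib

/-! Shared vocabulary for consequences of the odd order theorem. -/

namespace CfsgLib.FTApps

universe u

/-- Every finite group of odd order in universe `u` is solvable. -/
def OddSolvable : Prop :=
  ∀ (X : Type u) [Group X] [Finite X], Odd (Nat.card X) → Group.IsSolvable X

/-- A group with a solvable normal subgroup of odd index is solvable. -/
theorem isSolvable_of_odd_index (hFT : OddSolvable.{u}) {G : Type u} [Group G] [Finite G]
    (N : Subgroup G) [N.Normal] (hN : Group.IsSolvable N) (hodd : Odd N.index) :
    Group.IsSolvable G := by
  haveI : Group.IsSolvable N := hN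
  haveI : Group.IsSolvable (G ⧸ N) := hFT _ (by rwa [← Subgroup.index_eq_card])
  exact Group.isSolvable_of_ker_le_range N.subtype (QuotientGroup.mk' N) (by simp)

end CfsgLib.FTApps
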