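import Mathlib
import Cfsg.Prelude.Def_CaseTheorems
import Cfsg.Prelude.Def_OddOrderLocal

/-! Cyclic quotients by cyclic subgroups of two-generator exceptions. -/

namespace CfsgLib.FTApps

variable {S : Type*} [Group S]

theorem commute_of_cyclic {Q : Type*} [Group Q] [IsCyclic Q] (a b : Q) : Commute a b := by
  haveI : IsMulCommutative Q := IsCyclic.isMulCommutative
  exact mul_comm' a b

/-- A cyclic group whose elements square to one has at most two elements. -/
theorem card_le_two_of_sq {Q : Type*} [Group Q] [Finite Q] [IsCyclic Q]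
    (h : ∀ q : Q, q ^ 2 = 1) : Nat.card Q ≤ 2 := by
  classical
  letI := Fintype.ofFinite Q
  have h1 := IsCyclic.card_pow_eq_one_le (α := Q) (n := 2) two_pos
  simpa [h, Nat.card_eq_fintype_card] using h1

theorem dihedral_quotient {m : ℕ} (e : S ≃* DihedralGroup m) {Q : Type*} [Group Q] [Finite Q]
    [IsCyclic Q] (f : S →* Q) (hf : Function.Surjective f) : Nat.card Q ≤ 2 := by
  refine card_le_two_of_sq fun q => ?_
  obtain ⟨s, rfl⟩ := hf q
  set g := f.comp e.symm.toMonoidHom with hg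
  have hsr : ∀ i, (g (DihedralGroup.sr i)) ^ 2 = 1 := fun i => by
    rw [← map_pow, pow_two, DihedralGroup.sr_mul_self, map_one]
  have key : ∀ d, (g d) ^ 2 = 1 := by
    rintro (i | i)
    · have hi : DihedralGroup.r i = DihedralGroup.sr 0 * DihedralGroup.sr i := by simp
      rw [hi, map_mul, (commute_of_cyclic _ _).mul_pow,
        hsr, hsr, one_mul]
    · exact hsr i
  have := key (e s)
  simpa [hg] using this

theorem quaternion_quotient {m : ℕ} (hm : Even m) (e : S ≃* QuaternionGroup m) {Q : Type*}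
    [Group Q] [Finite Q] [IsCyclic Q] (f : S →* Q) (hf : Function.Surjective f) :
    Nat.card Q ≤ 2 := by
  refine card_le_two_of_sq fun q => ?_
  obtain ⟨s, rfl⟩ := hf q
  set g := f.comp e.symm.toMonoidHom with hg
  set A := g (QuaternionGroup.a (m : ZMod (2 * m))) with hA
  have hxa : ∀ i, (g (QuaternionGroup.xa i)) ^ 2 = A := fun i => by
    rw [← map_pow, QuaternionGroup.xa_sq]
  have hm2 : ((m : ZMod (2 * m)) + m) = 0 := by
    rw [← Nat.cast_add, show m + m = 2 * m by ring, ZMod.natCast_self]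
  have hAA : A * A = 1 := by
    rw [hA, ← map_mul, QuaternionGroup.a_mul_a, hm2, ← QuaternionGroup.one_def, map_one]
  have ha : ∀ i, (g (QuaternionGroup.a i)) ^ 2 = 1 := fun i => by
    have hi : QuaternionGroup.a i =
        QuaternionGroup.xa 0 * QuaternionGroup.xa (i - (m : ZMod (2 * m))) := by
      simp
    rw [hi, map_mul, (commute_of_cyclic _ _).mul_pow,
      hxa, hxa, hAA]
  obtain ⟨j, rfl⟩ := hm
  have hA1 : A = 1 := by
    rw [← ha (j : ZMod (2 * (j + j))), pow_two, ← map_mul, QuaternionGroup.a_mul_a, hA,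
      Nat.cast_add]
  have key : ∀ d, (g d) ^ 2 = 1 := by
    rintro (i | i)
    · exact ha i
    · rw [hxa, hA1]
  have := key (e s)
  simpa [hg] using this

theorem quaternion_cyclic {m a : ℕ} (hm : ¬ Even m) (e : S ≃* QuaternionGroup m)
    (hc : Nat.card S = 2 ^ a) : IsCyclic S := by
  haveI : NeZero m := ⟨by rintro rfl; exact hm ⟨0, rfl⟩⟩
  have h4 : 4 * m = 2 ^ a := by
    rw [← hc, Nat.card_congr e.toEquiv, Nat.card_eq_fintype_card, QuaternionGroup.card]
  obtain ⟨b, -, hb⟩ := (Nat.dvd_prime_pow Nat.prime_two).1 (Dvd.intro_left 4 h4)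
  obtain rfl : b = 0 := by
    by_contra hb0
    exact hm (by rw [hb]; exact (Nat.even_pow.2 ⟨even_two, hb0⟩))
  have hc4 : Nat.card S = 4 := by rw [hc, ← h4, hb]; norm_num
  haveI : Finite S := Nat.finite_of_card_ne_zero (by rw [hc4]; norm_num)
  refine isCyclic_of_orderOf_eq_card (e.symm (QuaternionGroup.xa 0)) ?_
  rw [MulEquiv.orderOf_eq, QuaternionGroup.orderOf_xa, hc4]

theorem quasiDihedral_quotient (hS : Cfsg.IsQuasiDihedral S) {Q : Type*} [Group Q] [Finite Q]
    [IsCyclic Q] (f : S →* Q) (hf : Function.Surjective f) : Nat.card Q ≤ 2 := by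
  obtain ⟨n, hn, hc, x, y, hx, hy, hxy⟩ := hS
  haveI : Finite S := Nat.finite_of_card_ne_zero (by rw [hc]; positivity)
  have hy2 : y ^ 2 = 1 := by rw [← hy, pow_orderOf_eq_one]
  obtain ⟨i, rfl⟩ : ∃ i, n = i + 3 := ⟨n - 3, by omega⟩
  have h4 : 2 ^ (i + 2) = 4 * 2 ^ i := by ring
  rw [show i + 3 - 1 = i + 2 by omega, h4] at hxy
  have hpos := Nat.two_pow_pos i
  have hyx : y ∉ Subgroup.zpowers x := by
    intro h
    obtain ⟨k, hk⟩ := Subgroup.mem_zpowers_iff.1 h
    have h1 : x ^ (4 * 2 ^ i - 1) = x ^ 1 := by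
      rw [← hxy, ← hk, pow_one]
      group
    have h2 := pow_inj_mod.1 h1
    rw [hx, pow_add, Nat.mod_eq_of_lt (by norm_num; omega), Nat.mod_eq_of_lt (by norm_num; omega)]
      at h2
    omega
  have htop : Subgroup.closure {x, y} = (⊤ : Subgroup S) := by
    refine Subgroup.eq_top_of_card_eq _ ?_
    have hle : Subgroup.zpowers x ≤ Subgroup.closure {x, y} :=
      Subgroup.zpowers_le.2 (Subgroup.subset_closure (Or.inl rfl))
    obtain ⟨b, hb, hb'⟩ := (Nat.dvd_prime_pow Nat.prime_two).1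
      (hc ▸ (Subgroup.closure {x, y}).card_subgroup_dvd_card)
    have hlt : Nat.card (Subgroup.zpowers x) < Nat.card (Subgroup.closure {x, y}) := by
      refine lt_of_le_of_ne (Subgroup.card_le_of_le hle) fun he => hyx ?_
      rw [Subgroup.eq_of_le_of_card_ge hle he.ge]
      exact Subgroup.subset_closure (Or.inr rfl)
    rw [Nat.card_zpowers, hx, hb'] at hlt
    have := (Nat.pow_lt_pow_iff_right (le_refl 2)).1 hlt
    rw [hb', hc, show b = i + 3 + 1 by omega]
  refine card_le_two_of_sq fun q => ?_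
  obtain ⟨s, rfl⟩ := hf q
  have hs : s ∈ Subgroup.closure {x, y} := htop ▸ Subgroup.mem_top s
  induction hs using Subgroup.closure_induction with
  | mem z hz =>
    rcases hz with rfl | rfl
    · have h8 : (f z) ^ (2 ^ (i + 3)) = 1 := by
        rw [← map_pow, ← hx, pow_orderOf_eq_one, map_one]
      have h5 : (f z) ^ (4 * 2 ^ i - 1) = (f z) ^ 1 := by
        rw [← map_pow, ← hxy, map_mul, map_mul, map_inv, pow_one,
          (commute_of_cyclic (f y) _).eq, mul_inv_cancel_right]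
      have h6 : (f z) ^ (4 * 2 ^ i - 2) = 1 := by
        have h7 : (f z) ^ (4 * 2 ^ i - 2) * f z = 1 * f z := by
          rw [one_mul, ← pow_succ, show 4 * 2 ^ i - 2 + 1 = 4 * 2 ^ i - 1 by omega, h5, pow_one]
        exact mul_right_cancel h7
      have h9 := pow_gcd_eq_one.2 ⟨h8, h6⟩
      obtain ⟨k, hk⟩ : ∃ k, Nat.gcd (2 ^ (i + 3)) (4 * 2 ^ i - 2) = 2 ^ k := by
        obtain ⟨k, -, hk⟩ := (Nat.dvd_prime_pow Nat.prime_two).1
          (Nat.gcd_dvd_left (2 ^ (i + 3)) (4 * 2 ^ i - 2))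
        exact ⟨k, hk⟩
      have hk1 : k ≤ 1 := by
        by_contra hlt
        have h10 : 2 ^ 2 ∣ 4 * 2 ^ i - 2 :=
          (pow_dvd_pow 2 (not_le.1 hlt)).trans (hk ▸ Nat.gcd_dvd_right _ _)
        omega
      rw [hk] at h9
      exact pow_eq_one_of_dvd' (pow_dvd_pow 2 hk1) h9
    · rw [← map_pow, hy2, map_one]
  | one => simp
  | mul a b _ _ ha hb =>
    rw [map_mul, (commute_of_cyclic _ _).mul_pow, ha, hb, one_mul]
  | inv a _ ha => rw [map_inv, inv_pow, ha, inv_one]
where
  pow_eq_one_of_dvd' {Q : Type _} [Monoid Q] {z : Q} {a b : ℕ} (hd : a ∣ b) (h : z ^ a = 1) :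
      z ^ b = 1 := by
    obtain ⟨c, rfl⟩ := hd
    rw [pow_mul, h, one_pow]

/-- Abelian metacyclic 2-groups have rank at most two. -/
theorem homocyclic_rank {n k : ℕ} (hn : n ≠ 0) (e : S ≃* Multiplicative (Fin k → ZMod (2 ^ n)))
    (N : Subgroup S) [N.Normal] (hN : IsCyclic N) (hQ : IsCyclic (S ⧸ N)) : k ≤ 2 := by
  obtain ⟨a, ha⟩ := hN.exists_generator
  obtain ⟨b, hb⟩ := hQ.exists_generator
  obtain ⟨b, rfl⟩ := QuotientGroup.mk'_surjective N b
  let π : ZMod (2 ^ n) →+* ZMod 2 := ZMod.castHom (dvd_pow_self 2 hn) _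
  let r : S → (Fin k → ZMod 2) := fun s i => π (Multiplicative.toAdd (e s) i)
  let φ : ZMod 2 × ZMod 2 → (Fin k → ZMod 2) :=
    fun ij => ij.1 • r (a : S) + ij.2 • r b
  have hsurj : Function.Surjective φ := by
    intro v
    set w : Fin k → ZMod (2 ^ n) := fun i => ((v i).val : ZMod (2 ^ n))
    set s := e.symm (Multiplicative.ofAdd w) with hs
    obtain ⟨j, hj⟩ := Subgroup.mem_zpowers_iff.1 (hb (QuotientGroup.mk' N s))
    have hmem : s * (b ^ j)⁻¹ ∈ N := by
      rw [← QuotientGroup.eq_one_iff]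
      change QuotientGroup.mk' N (s * (b ^ j)⁻¹) = 1
      rw [map_mul, map_inv, map_zpow, hj, mul_inv_cancel]
    obtain ⟨l, hl⟩ := Subgroup.mem_zpowers_iff.1 (ha ⟨_, hmem⟩)
    have hs' : (a : S) ^ l * b ^ j = s := by
      have := congrArg Subtype.val hl
      rw [Subgroup.coe_zpow] at this
      rw [this, inv_mul_cancel_right]
    refine ⟨((l : ZMod 2), (j : ZMod 2)), funext fun i => ?_⟩
    have h2 : Multiplicative.toAdd (e s) i = w i := by simp [hs]
    rw [← hs', map_mul, map_zpow, map_zpow] at h2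
    simp only [toAdd_mul, toAdd_zpow, Pi.add_apply, Pi.smul_apply] at h2
    have h3 := congrArg π h2
    rw [map_add, map_zsmul, map_zsmul] at h3
    simp only [φ, r, Pi.add_apply, Pi.smul_apply, smul_eq_mul]
    rw [zsmul_eq_mul, zsmul_eq_mul] at h3
    rw [h3]
    simp [w, π]
  have := Nat.card_le_card_of_surjective φ hsurj
  simp only [Nat.card_eq_fintype_card, Fintype.card_prod, ZMod.card, Fintype.card_fun,
    Fintype.card_fin] at this
  exact (Nat.pow_le_pow_iff_right (le_refl 2)).1 (by simpa using this)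

end CfsgLib.FTApps
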