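import Cfsg.Agent.Lib.FTApps.Basic
import Cfsg.Agent.Lib.FTApps.MetacyclicQuotient
import Cfsg.Agent.S5212
import Cfsg.Agent.S0949
import Cfsg.Agent.Lib.FusionSystem.Group
import Cfsg.Agent.Lib.Fusion.Transfer
import Cfsg.Agent.Lib.Fusion.Abelian
import Cfsg.Agent.Lib.Coprime.OneClassInvolutions

/-! A metacyclic Sylow 2-subgroup with a large cyclic quotient forces solvability (given FT). -/

namespace CfsgLib.FTApps

universe u

open CfsgLib.Fsys in
/-- If the group system on a Sylow subgroup is inner, the Sylow subgroup controls its fusion. -/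
theorem controls_of_inner {G : Type u} [Group G] [Finite G] {p : ℕ} [Fact p.Prime]
    (S : Sylow p G)
    (h : ∀ P : Subgroup G, (Cfsg.groupFusionSystem (S : Subgroup G)).Hom P =
      (Cfsg.innerFusionSystem (S : Subgroup G)).Hom P) :
    CfsgLib.Fusion.Transfer.Controls (S : Subgroup G) S := by
  intro x hx g hgx
  have hmem : (MulAut.conj g).toMonoidHom.comp (Subgroup.zpowers x).subtype ∈
      (Cfsg.groupFusionSystem (S : Subgroup G)).Hom (Subgroup.zpowers x) := by
    refine ⟨Subgroup.zpowers_le.2 hx, fun y => ?_, g, fun y => rfl⟩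
    obtain ⟨j, hj⟩ := Subgroup.mem_zpowers_iff.1 y.2
    show g * (y : G) * g⁻¹ ∈ (S : Subgroup G)
    rw [← hj, ← conj_zpow]
    exact zpow_mem hgx j
  rw [h] at hmem
  obtain ⟨-, s, hs, hs'⟩ := hmem
  exact ⟨s, hs, (hs' ⟨x, Subgroup.mem_zpowers x⟩).symm⟩

/-- Given FT, a group with a normal 2-complement is solvable. -/
theorem solvable_of_npc (hFT : OddSolvable.{u}) {G : Type u} [Group G] [Finite G]
    (h : Cfsg.HasNormalPComplement 2 G) : Group.IsSolvable G := by
  obtain ⟨P, K, hK, hKP⟩ := h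
  haveI := hK
  haveI : Fact (Nat.Prime 2) := ⟨Nat.prime_two⟩
  obtain ⟨a, ha⟩ := IsPGroup.iff_card.1 P.isPGroup'
  haveI hKs : Group.IsSolvable K := by
    refine hFT _ ?_
    rw [Nat.odd_iff]
    have h1 : ¬ 2 ∣ Nat.card K := by
      rw [← hKP.index_eq_card]
      exact Sylow.not_dvd_index P
    omega
  haveI : Group.IsSolvable (G ⧸ K) := by
    have hq : IsPGroup 2 (G ⧸ K) := IsPGroup.of_card (n := a) (by
      rw [← Subgroup.index_eq_card, hKP.symm.index_eq_card]; exact ha)
    haveI := hq.isNilpotent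
    infer_instance
  exact Group.isSolvable_of_ker_le_range K.subtype (QuotientGroup.mk' K) (by simp)

/-- Given FT, an abelian homocyclic Sylow 2-subgroup of rank 2 and exponent at least 4 forces
solvability. -/
theorem solvable_of_homocyclic (hFT : OddSolvable.{u}) {G : Type u} [Group G] [Finite G]
    (P : Sylow 2 G) (m : ℕ) (hm : 2 ≤ m)
    (e : (P : Subgroup G) ≃* Multiplicative (ZMod (2 ^ m) × ZMod (2 ^ m))) :
    Group.IsSolvable G := by
  haveI : Fact (Nat.Prime 2) := ⟨Nat.prime_two⟩
  set U := Cfsg.pPrimeCore 2 G with hU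
  have hUodd : (Nat.card U).Coprime 2 := CfsgLib.Solvable.Cores.coprime_card_pPrimeCore 2
  haveI hUs : Group.IsSolvable U := hFT _ (Nat.coprime_two_right.1 hUodd)
  set f := QuotientGroup.mk' U with hf
  let P' := P.mapSurjective (QuotientGroup.mk'_surjective U)
  let g : (P : Subgroup G) →* (P' : Subgroup (G ⧸ U)) := f.subgroupMap P
  have hg : Function.Bijective g := by
    refine ⟨?_, MonoidHom.subgroupMap_surjective _ _⟩
    rw [injective_iff_map_eq_one]
    intro x hx
    have hxU : (x : G) ∈ U := (QuotientGroup.eq_one_iff (N := U) _).1 (congrArg Subtype.val hx)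
    obtain ⟨a, ha⟩ := IsPGroup.iff_card.1 P.isPGroup'
    have h1 : Disjoint (P : Subgroup G) U := Subgroup.disjoint_of_coprime_natCard (by
      rw [ha]; exact Nat.Coprime.pow_left _ hUodd.symm)
    exact Subtype.ext (Subgroup.disjoint_def.1 h1 x.2 hxU)
  have hO : ∀ N : Subgroup (G ⧸ U), N.Normal → Odd (Nat.card N) → N = ⊥ := fun N hN hodd => by
    have h1 : N ≤ Cfsg.pPrimeCore 2 (G ⧸ U) :=
      le_sSup ⟨hN, Nat.coprime_two_right.2 hodd⟩
    exact eq_bot_iff.2 (h1.trans_eq CfsgLib.Coprime.OneClassInvolutions.pPrimeCore_quotient_self)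
  obtain ⟨hn, -, hi⟩ := Cfsg.Agent.S0949.result P' m hm ((MulEquiv.ofBijective g hg).symm.trans e) hO
  haveI := hn
  haveI : Group.IsSolvable (P' : Subgroup (G ⧸ U)) := by
    haveI := P'.isPGroup'.isNilpotent
    infer_instance
  haveI : Group.IsSolvable ((G ⧸ U) ⧸ (P' : Subgroup (G ⧸ U))) := by
    rcases hi with h | h
    · haveI : Subsingleton ((G ⧸ U) ⧸ (P' : Subgroup (G ⧸ U))) :=
        Finite.card_le_one_iff_subsingleton.1 (by rw [← Subgroup.index_eq_card, h])
      infer_instance
    · haveI : IsCyclic ((G ⧸ U) ⧸ (P' : Subgroup (G ⧸ U))) := by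
        haveI : Fact (Nat.Prime 3) := ⟨Nat.prime_three⟩
        exact isCyclic_of_prime_card (p := 3) (by rw [← Subgroup.index_eq_card, h])
      exact Group.isSolvable_of_comm fun a b => (commute_of_cyclic a b).eq
  haveI : Group.IsSolvable (G ⧸ U) := Group.isSolvable_of_ker_le_range
    (P' : Subgroup (G ⧸ U)).subtype (QuotientGroup.mk' (P' : Subgroup (G ⧸ U))) (by simp)
  exact Group.isSolvable_of_ker_le_range U.subtype (QuotientGroup.mk' U) (by simp)

/-- The statement of S4418, given FT. -/
theorem solvable_of_metacyclic_sylow (hFT : OddSolvable.{u}) {G : Type u} [Group G] [Finite G]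
    (S : Sylow 2 G) (N : Subgroup ↥(S : Subgroup G)) [N.Normal] (hNc : IsCyclic N)
    (hQc : IsCyclic (↥(S : Subgroup G) ⧸ N)) (hQ : 2 < Nat.card (↥(S : Subgroup G) ⧸ N)) :
    Group.IsSolvable G := by
  haveI : Fact (Nat.Prime 2) := ⟨Nat.prime_two⟩
  obtain ⟨a, hac⟩ := IsPGroup.iff_card.1 S.isPGroup'
  have hmk := QuotientGroup.mk'_surjective N
  by_cases hcyc : IsCyclic (S : Subgroup G)
  · by_cases hmin : (Nat.card G).minFac = 2
    · haveI := hcyc
      exact solvable_of_npc hFT (CfsgLib.Fusion.Abelian.npc_of_normalizer_le_centralizer S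
        (hcyc.normalizer_le_centralizer hmin))
    · refine hFT G ?_
      rw [Nat.odd_iff]
      by_contra hh
      exact hmin ((Nat.minFac_eq_two_iff _).2 (by omega))
  by_cases hh : ∃ n k : ℕ, Nonempty (↥(S : Subgroup G) ≃* Multiplicative (Fin k → ZMod (2 ^ n)))
  · obtain ⟨n, k, ⟨e⟩⟩ := hh
    have hpow : ∀ s : (S : Subgroup G), s ^ 2 ^ n = 1 := fun s => by
      refine e.injective ?_
      rw [map_pow, map_one]
      refine Multiplicative.toAdd.injective (funext fun i => ?_)
      simp
    have hn2 : 2 ≤ n := by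
      by_contra hlt
      haveI := hQc
      have : ∀ q : ↥(S : Subgroup G) ⧸ N, q ^ 2 = 1 := fun q => by
        obtain ⟨s, rfl⟩ := hmk q
        rw [← map_pow]
        have h1 : s ^ 2 = 1 := by
          interval_cases n
          · have := hpow s; rw [pow_zero, pow_one] at this; rw [this, one_pow]
          · simpa using hpow s
        rw [h1, map_one]
      have := card_le_two_of_sq this
      omega
    have hk : k ≤ 2 := homocyclic_rank (by omega) e N hNc hQc
    interval_cases k
    · haveI : Subsingleton ↥(S : Subgroup G) :=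
        e.toEquiv.subsingleton_congr.2 inferInstance
      exact (hcyc inferInstance).elim
    · exact absurd (e.isCyclic.2 (isCyclic_of_surjective
        (AddEquiv.funUnique (Fin 1) (ZMod (2 ^ n))).toMultiplicative.symm.toMonoidHom
        (AddEquiv.funUnique (Fin 1) (ZMod (2 ^ n))).toMultiplicative.symm.surjective)) hcyc
    · exact solvable_of_homocyclic hFT S n hn2 (e.trans
        (RingEquiv.piFinTwo (fun _ : Fin 2 => ZMod (2 ^ n))).toAddEquiv.toMultiplicative)
  have hd : ¬ ∃ m : ℕ, Nonempty (↥(S : Subgroup G) ≃* DihedralGroup m) := fun ⟨m, ⟨e⟩⟩ => by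
    haveI := hQc
    have := dihedral_quotient e (QuotientGroup.mk' N) hmk
    omega
  have hq : ¬ ∃ m : ℕ, Nonempty (↥(S : Subgroup G) ≃* QuaternionGroup m) := fun ⟨m, ⟨e⟩⟩ => by
    haveI := hQc
    by_cases hm : Even m
    · have := quaternion_quotient hm e (QuotientGroup.mk' N) hmk
      omega
    · exact hcyc (quaternion_cyclic hm e hac)
  have hsd : ¬ Cfsg.IsQuasiDihedral ↥(S : Subgroup G) := fun h => by
    haveI := hQc
    have := quasiDihedral_quotient h (QuotientGroup.mk' N) hmk
    omega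
  exact solvable_of_npc hFT (CfsgLib.Fusion.Transfer.npc_of_controls_self S (controls_of_inner S
    (Cfsg.Agent.S5212.result S.isPGroup' _ (CfsgLib.Fsys.group_isSaturated S)
      ⟨N, inferInstance, hNc, hQc⟩ hh hd hq hsd)))

end CfsgLib.FTApps
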