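import Cfsg.Agent.Lib.FTApps.CoprimeFixedGeneration

/-! The statement of S1329, given FT. -/

namespace CfsgLib.FTApps

universe u

open Subgroup

/-- `C_Y(B)` for an abelian 2-group `A` acting on `Y = [Y, A]` of odd order. -/
theorem odd_fixed_generation (hFT : OddSolvable.{u}) {G : Type u} [Group G] [Finite G]
    (A B Y : Subgroup G) (hA2 : IsPGroup 2 ↥A) (hAc : IsMulCommutative ↥A) (hB : B ≤ A)
    (hYodd : Odd (Nat.card ↥Y)) (hAY : A ≤ Subgroup.normalizer (Y : Set G)) (hYA : ⁅Y, A⁆ = Y) :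
    Y ⊓ Subgroup.centralizer (B : Set G) =
      ⨆ B₀ : {B₀ : Subgroup G // B₀ ≤ B ∧ ∀ [(B₀.subgroupOf B).Normal], IsCyclic (↥B ⧸ B₀.subgroupOf B)},
        Y ⊓ Subgroup.centralizer (B : Set G) ⊓
          ⁅Y ⊓ Subgroup.centralizer ((B₀ : Subgroup G) : Set G), A⁆ := by
  haveI : Fact (Nat.Prime 2) := ⟨Nat.prime_two⟩
  refine le_antisymm ?_ (iSup_le fun _ => inf_le_left)
  obtain ⟨a, ha⟩ := IsPGroup.iff_card.1 hA2
  refine (FixedGen.main _ A B Y rfl (hFT _ hYodd) hAc hB hAY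
    (by rw [ha]; exact Nat.Coprime.pow_left _ (Nat.coprime_two_left.2 hYodd)) hYA).trans
    (iSup_le fun B₀ => ?_)
  obtain ⟨hle, b, hb, hgen⟩ := B₀.2
  refine le_iSup_of_le ⟨B₀, hle, fun {hn} => ⟨QuotientGroup.mk (⟨b, hb⟩ : B), fun q => ?_⟩⟩ le_rfl
  obtain ⟨⟨β, hβ⟩, rfl⟩ := QuotientGroup.mk'_surjective _ q
  have hnorm : zpowers b ≤ normalizer ((B₀ : Subgroup G) : Set G) := by
    refine zpowers_le.2 (mem_normalizer_iff.2 fun u => ?_)
    have key := fun (x : G) (hx : x ∈ B) =>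
      setLike_mul_comm (s := A) (hB hb) (hB hx)
    constructor
    · intro hu
      rwa [key u (hle hu), mul_inv_cancel_right]
    · intro hu
      have huB : u ∈ B := by
        have := mul_mem (mul_mem (Subgroup.inv_mem _ hb) (hle hu)) hb
        simpa [mul_assoc] using this
      rwa [key u huB, mul_inv_cancel_right] at hu
  obtain ⟨u, hu, v, hv, huv⟩ := (CfsgLib.Coprime.mem_sup_of_le_normalizer hnorm).1 (hgen.ge hβ)
  obtain ⟨i, rfl⟩ := mem_zpowers_iff.1 hv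
  refine ⟨i, ?_⟩
  show (QuotientGroup.mk (⟨b, hb⟩ : B)) ^ i = QuotientGroup.mk (⟨β, hβ⟩ : B)
  rw [← QuotientGroup.mk_zpow, QuotientGroup.eq, mem_subgroupOf]
  have hc : u * b ^ i = b ^ i * u :=
    setLike_mul_comm (s := A) (hB (hle hu)) (zpow_mem (hB hb) i)
  simp only [Subgroup.coe_mul, Subgroup.coe_inv, Subgroup.coe_zpow]
  rw [← huv, hc, inv_mul_cancel_left]
  exact hu

end CfsgLib.FTApps
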