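import Cfsg.Agent.Lib.FTApps.KleinFour
import Cfsg.Agent.Lib.PGroup.IndexPow
import Cfsg.Agent.Lib.Solvable.Cores
import Cfsg.Agent.Lib.Coprime.PrimePowerOrbits.Basic

/-!
A perfect finite group with abelian Sylow subgroups has no proper subgroup of two-power index (given
the odd order theorem).

In a minimal counterexample the group is simple and such a subgroup `H` has odd order, so that two
Sylow 2-subgroups meet trivially and `H` permutes them transitively. An element `k` of odd prime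
order `r` fixing two of them and inverted by an involution has centralizer of odd order; a Sylow
`r`-subgroup of a two-point stabilizer containing `k` then fixes exactly one Sylow 2-subgroup, so it is
a Sylow subgroup of the group, and the involution inverting `k` gives a contradiction.
-/

set_option autoImplicit false

universe u

namespace CfsgLib.FTApps.AbelianSylowIndex

open Subgroup

/-- All Sylow subgroups are abelian. -/
abbrev AbSyl (G : Type u) [Group G] : Prop :=
  ∀ (p : ℕ), p.Prime → ∀ P : Subgroup G, IsPGroup p P → ∀ a ∈ P, ∀ b ∈ P, a * b = b * a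

theorem absyl_of_sylow {G : Type u} [Group G] [Finite G]
    (h : ∀ (p : ℕ) [Fact p.Prime] (P : Sylow p G), IsMulCommutative (P : Subgroup G)) : AbSyl G := by
  intro p hp P hP a ha b hb
  haveI := Fact.mk hp
  obtain ⟨Q, hQ⟩ := hP.exists_le_sylow
  exact congrArg Subtype.val ((h p Q).is_comm.comm ⟨a, hQ ha⟩ ⟨b, hQ hb⟩)

theorem absyl_subgroup {G : Type u} [Group G] (h : AbSyl G) (M : Subgroup G) : AbSyl ↥M := by
  intro p hp P hP a ha b hb
  exact Subtype.ext (h p hp (P.map M.subtype) (hP.map _) a (mem_map_of_mem _ ha) b (mem_map_of_mem _ hb))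

/-- Membership in a conjugate Sylow subgroup. -/
theorem mem_smul_sylow {G : Type*} [Group G] {p : ℕ} (g x : G) (P : Sylow p G) :
    x ∈ g • P ↔ g⁻¹ * x * g ∈ P := by
  change x ∈ ((g • P : Sylow p G) : Subgroup G) ↔ g⁻¹ * x * g ∈ (P : Subgroup G)
  rw [Sylow.coe_subgroup_smul, Subgroup.mem_pointwise_smul_iff_inv_smul_mem, MulAut.smul_def,
    ← map_inv, MulAut.conj_apply, inv_inv]

theorem conj_mem_smul {G : Type*} [Group G] {p : ℕ} (g : G) {x : G} {P : Sylow p G} (hx : x ∈ P) :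
    g * x * g⁻¹ ∈ g • P := by
  rw [mem_smul_sylow, show g⁻¹ * (g * x * g⁻¹) * g = x by group]; exact hx

theorem absyl_quotient {G : Type u} [Group G] [Finite G] (h : AbSyl G) (N : Subgroup G) [N.Normal] :
    AbSyl (G ⧸ N) := by
  intro p hp P hP a ha b hb
  haveI := Fact.mk hp
  obtain ⟨S⟩ : Nonempty (Sylow p G) := inferInstance
  obtain ⟨Q, hQ⟩ := hP.exists_le_sylow
  obtain ⟨g, hg⟩ := MulAction.exists_smul_eq (G ⧸ N)
    (S.mapSurjective (QuotientGroup.mk'_surjective N)) Q
  have hlift : ∀ z ∈ P, ∃ y ∈ S, z = g * QuotientGroup.mk' N y * g⁻¹ := by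
    intro z hz
    have h1 : z ∈ g • S.mapSurjective (QuotientGroup.mk'_surjective N) := by rw [hg]; exact hQ hz
    rw [mem_smul_sylow] at h1
    obtain ⟨y, hy, e⟩ := h1
    refine ⟨y, hy, ?_⟩
    rw [e]; group
  obtain ⟨x, hx, rfl⟩ := hlift a ha
  obtain ⟨y, hy, rfl⟩ := hlift b hb
  have hxy := congrArg (QuotientGroup.mk' N) (h p hp S S.isPGroup' x hx y hy)
  rw [map_mul, map_mul] at hxy
  calc g * QuotientGroup.mk' N x * g⁻¹ * (g * QuotientGroup.mk' N y * g⁻¹)
      = g * (QuotientGroup.mk' N x * QuotientGroup.mk' N y) * g⁻¹ := by group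
    _ = g * (QuotientGroup.mk' N y * QuotientGroup.mk' N x) * g⁻¹ := by rw [hxy]
    _ = _ := by group

/-- Transfer: a perfect group with abelian Sylow subgroups has trivial centre. -/
theorem center_eq_bot {G : Type u} [Group G] [Finite G] (h : AbSyl G) (hperf : commutator G = ⊤) :
    center G = ⊥ := by
  classical
  by_contra hne
  obtain ⟨p, hp, hpd⟩ := Nat.exists_prime_and_dvd (n := Nat.card (center G))
    (fun e => hne (card_eq_one.1 e))
  haveI := Fact.mk hp
  obtain ⟨z, hz⟩ := exists_prime_orderOf_dvd_card' p hpd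
  have hzp : IsPGroup p (zpowers (z : G)) := IsPGroup.of_card (n := 1) (by
    rw [Nat.card_zpowers, Subgroup.orderOf_coe, hz, pow_one])
  obtain ⟨S, hS⟩ := hzp.exists_le_sylow
  have hzS : (z : G) ∈ S := hS (mem_zpowers _)
  letI : CommGroup ↥(S : Subgroup G) :=
    { (inferInstance : Group ↥(S : Subgroup G)) with
      mul_comm := fun a b => Subtype.ext (h p hp S S.isPGroup' a a.2 b b.2) }
  let ψ : G →* ↥(S : Subgroup G) := MonoidHom.transfer (H := (S : Subgroup G)) (MonoidHom.id _)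
  have key : ∀ (k : ℕ) (g₀ : G), g₀⁻¹ * (z : G) ^ k * g₀ ∈ (S : Subgroup G) →
      g₀⁻¹ * (z : G) ^ k * g₀ = (z : G) ^ k := by
    intro k g₀ _
    have h1 : g₀ * (z : G) ^ k = (z : G) ^ k * g₀ := mem_center_iff.1 (pow_mem z.2 k) g₀
    rw [mul_assoc, ← h1, ← mul_assoc, inv_mul_cancel, one_mul]
  have hψ : ψ (z : G) = 1 := by
    have h1 : (z : G) ∈ ψ.ker := Abelianization.commutator_subset_ker ψ (hperf ▸ mem_top _)
    exact h1
  rw [show ψ (z : G) = (MonoidHom.id ↥(S : Subgroup G)) ⟨_, MonoidHom.transfer_eq_pow_aux (z : G) key⟩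
    from MonoidHom.transfer_eq_pow _ (z : G) key] at hψ
  have h1 : (z : G) ^ (S : Subgroup G).index = 1 := congrArg Subtype.val hψ
  have h2 : p ∣ (S : Subgroup G).index := by
    have h3 := orderOf_dvd_of_pow_eq_one h1
    rwa [Subgroup.orderOf_coe, hz] at h3
  exact S.not_dvd_index h2

/-- A group that is not solvable has a nontrivial perfect normal subgroup. -/
theorem exists_perfect_normal {G : Type u} [Group G] [Finite G] (hns : ¬ Group.IsSolvable G) :
    ∃ R : Subgroup G, R.Normal ∧ R ≠ ⊥ ∧ commutator ↥R = ⊤ := by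
  obtain ⟨n, hn⟩ := Nat.sInf_mem (Set.range_nonempty fun n => Nat.card (derivedSeries G n))
  refine ⟨derivedSeries G n, derivedSeries_normal G n, fun hb => hns ⟨n, hb⟩, ?_⟩
  apply Subgroup.map_injective (derivedSeries G n).subtype_injective
  rw [Subgroup.map_subtype_commutator, ← MonoidHom.range_eq_map, Subgroup.range_subtype,
    ← derivedSeries_succ]
  exact Subgroup.eq_of_le_of_card_ge (derivedSeries_antitone G (Nat.le_succ n))
    (hn.le.trans (Nat.sInf_le ⟨n + 1, rfl⟩))

/-- A nontrivial perfect group is not solvable. -/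
theorem not_solvable_of_perfect {G : Type u} [Group G] [Nontrivial G] (hperf : commutator G = ⊤) :
    ¬ Group.IsSolvable G := fun hs => by
  haveI := hs
  exact (Group.IsSolvable.commutator_lt_top_of_nontrivial G).ne hperf

theorem relIndex_pow {G : Type u} [Group G] [Finite G] {p e : ℕ} [Fact p.Prime] {K : Subgroup G}
    (hK : K.index = p ^ e) (N : Subgroup G) [N.Normal] : ∃ j, K.relIndex N = p ^ j := by
  obtain ⟨j, -, hj⟩ := (Nat.dvd_prime_pow (Fact.out : p.Prime)).1
    ((CfsgLib.Coprime.PrimePowerOrbits.relIndex_dvd_index K N).trans hK.dvd)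
  exact ⟨j, hj⟩

/-! ## The simple case -/

section Simple

variable {T : Type u} [Group T] [Finite T]

/-- An element of two-power order normalizing a Sylow 2-subgroup lies in it. -/
theorem mem_of_fix {w : T} {n : ℕ} (hw : orderOf w = 2 ^ n) {Q : Sylow 2 T} (h : w • Q = Q) :
    w ∈ Q := by
  have h1 : IsPGroup 2 (zpowers w) := IsPGroup.of_card (n := n) (by rw [Nat.card_zpowers, hw])
  exact ((h1.inf_normalizer_sylow Q).le ⟨mem_zpowers w, Sylow.smul_eq_iff_mem_normalizer.1 h⟩).2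

/-- Being in a Sylow 2-subgroup and in a subgroup of odd order forces triviality. -/
theorem eq_one_of_coprime {p q : ℕ} [hp : Fact p.Prime] [hq : Fact q.Prime] (hpq : p ≠ q)
    {P Q : Subgroup T} (hP : IsPGroup p P) (hQ : IsPGroup q Q) {x : T} (h1 : x ∈ P) (h2 : x ∈ Q) :
    x = 1 :=
  Subgroup.disjoint_def.1 (IsPGroup.disjoint_of_ne p q hpq P Q hP hQ) h1 h2

theorem exists_involution_zpowers {x : T} (h : Even (orderOf x)) :
    ∃ z ∈ zpowers x, orderOf z = 2 := by
  refine ⟨x ^ (orderOf x / 2), pow_mem (mem_zpowers x) _, ?_⟩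
  have h0 : 0 < orderOf x := orderOf_pos x
  obtain ⟨m, hm⟩ := h
  rw [orderOf_pow, show orderOf x / 2 = m by omega, hm, ← two_mul, Nat.gcd_mul_left_left,
    Nat.mul_div_cancel _ (by omega)]

theorem orderOf_conj (g x : T) : orderOf (g * x * g⁻¹) = orderOf x :=
  orderOf_injective (MulAut.conj g).toMonoidHom (MulAut.conj g).injective x

theorem inv_eq_self_of_orderOf {z : T} (hz : orderOf z = 2) : z⁻¹ = z := by
  rw [inv_eq_iff_mul_eq_one, ← pow_two, ← hz, pow_orderOf_eq_one]

/-- Powers with odd exponent invert what the element inverts. -/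
theorem inverts_pow {w k : T} (h : w * k * w⁻¹ = k⁻¹) : ∀ {m : ℕ}, Odd m → w ^ m * k * (w ^ m)⁻¹ = k⁻¹ := by
  rintro m ⟨j, rfl⟩
  induction j with
  | zero => simpa using h
  | succ j ih =>
    have e : w ^ (2 * (j + 1) + 1) = w * (w * w ^ (2 * j + 1)) := by
      rw [← pow_succ', ← pow_succ']; ring
    rw [e, show w * (w * w ^ (2 * j + 1)) * k * (w * (w * w ^ (2 * j + 1)))⁻¹ =
      w * (w * (w ^ (2 * j + 1) * k * (w ^ (2 * j + 1))⁻¹) * w⁻¹) * w⁻¹ by group, ih]
    rw [show w * k⁻¹ * w⁻¹ = (w * k * w⁻¹)⁻¹ by group, h, inv_inv, h]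

variable [IsSimpleGroup T]

/-- Every normal subgroup generated inside a proper subgroup is trivial. -/
theorem normalClosure_small {H : Subgroup T} (hH : H ≠ ⊤) {S : Set T}
    (hS : ∀ g : T, ∀ w ∈ S, g * w * g⁻¹ ∈ H) : ∀ w ∈ S, w = 1 := by
  intro w hw
  have hle : normalClosure S ≤ H := by
    refine closure_le _ |>.2 fun y hy => ?_
    obtain ⟨x, hx, hc⟩ := Group.mem_conjugatesOfSet_iff.1 hy
    obtain ⟨g, rfl⟩ := isConj_iff.1 hc
    exact hS g x hx
  rcases (normalClosure_normal (s := S)).eq_bot_or_eq_top with h | h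
  · exact mem_bot.1 (h ▸ subset_normalClosure hw)
  · exact absurd (top_le_iff.1 (h ▸ hle)) hH

/-- A proper subgroup of two-power index has odd order, when Sylow 2-subgroups are abelian. -/
theorem odd_of_index_pow (hAb : AbSyl T) [Fact (Nat.Prime 2)] {H : Subgroup T} {e : ℕ}
    (hH : H ≠ ⊤) (hidx : H.index = 2 ^ e) : Odd (Nat.card H) := by
  by_contra hev
  rw [Nat.not_odd_iff_even, even_iff_two_dvd] at hev
  obtain ⟨w, hw⟩ := exists_prime_orderOf_dvd_card' 2 hev
  have hwp : IsPGroup 2 (zpowers (w : T)) := IsPGroup.of_card (n := 1) (by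
    rw [Nat.card_zpowers, Subgroup.orderOf_coe, hw, pow_one])
  obtain ⟨U, hU⟩ := hwp.exists_le_sylow
  have h1 : (w : T) = 1 := by
    refine normalClosure_small hH (S := {(w : T)}) ?_ _ rfl
    rintro g _ rfl
    obtain ⟨u, hu, c, hc, e'⟩ := CfsgLib.PGroup.IndexPow.exists_mul_of_index_pow hidx U g⁻¹
    have e1 : g = c⁻¹ * u⁻¹ := by rw [← mul_inv_rev, ← e', inv_inv]
    rw [e1, show c⁻¹ * u⁻¹ * (w : T) * (c⁻¹ * u⁻¹)⁻¹ = c⁻¹ * (u⁻¹ * ((w : T) * u)) * c by group,
      ← hAb 2 Nat.prime_two U U.isPGroup' u hu w (hU (mem_zpowers _)), inv_mul_cancel_left]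
    exact mul_mem (mul_mem (inv_mem hc) w.2) hc
  rw [← Subgroup.orderOf_coe, h1, orderOf_one] at hw
  omega

/-- The data of the minimal counterexample. -/
structure Setup (T : Type u) [Group T] [Finite T] : Prop where
  ft : OddSolvable.{u}
  ab : AbSyl T
  ns : ¬ Group.IsSolvable T
  ih : ∀ M : Subgroup T, M ≠ ⊤ → ∀ (J : Subgroup ↥M) (j : ℕ), Odd (Nat.card J) → J.index = 2 ^ j →
    Group.IsSolvable ↥M

/-- An odd subgroup of two-power index. -/
structure IsHall (H : Subgroup T) : Prop where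
  odd : Odd (Nat.card H)
  idx : ∃ e, H.index = 2 ^ e

variable {hs : Setup T} {H : Subgroup T}

theorem IsHall.ne_top (hs : Setup T) (hH : IsHall H) : H ≠ ⊤ := fun e =>
  hs.ns (hs.ft T (by have := hH.odd; rwa [e, card_top] at this))

theorem IsHall.exists_mul [Fact (Nat.Prime 2)] (hH : IsHall H) (Q : Sylow 2 T) (g : T) :
    ∃ q ∈ (Q : Subgroup T), ∃ c ∈ H, g = c * q := by
  obtain ⟨e, he⟩ := hH.idx
  obtain ⟨u, hu, c, hc, e'⟩ := CfsgLib.PGroup.IndexPow.exists_mul_of_index_pow he Q g⁻¹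
  exact ⟨u⁻¹, inv_mem hu, c⁻¹, inv_mem hc, by rw [← mul_inv_rev, ← e', inv_inv]⟩

theorem IsHall.transitive [Fact (Nat.Prime 2)] (hH : IsHall H) (P Q : Sylow 2 T) :
    ∃ c ∈ H, c • P = Q := by
  obtain ⟨g, hg⟩ := MulAction.exists_smul_eq T P Q
  obtain ⟨q, hq, c, hc, rfl⟩ := hH.exists_mul P g
  refine ⟨c, hc, ?_⟩
  rw [mul_smul, Sylow.smul_eq_iff_mem_normalizer.2 (le_normalizer hq)] at hg
  exact hg

theorem IsHall.map_conj (hH : IsHall H) (g : T) : IsHall (H.map (MulAut.conj g).toMonoidHom) := by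
  obtain ⟨e, he⟩ := hH.idx
  refine ⟨?_, e, ?_⟩
  · rw [card_map_of_injective (MulAut.conj g).injective]; exact hH.odd
  · exact (index_map_equiv H (MulAut.conj g)).trans he

theorem IsHall.relIndex_eq [Fact (Nat.Prime 2)] (hH : IsHall H) {M : Subgroup T} {Q : Sylow 2 T}
    (hQM : (Q : Subgroup T) ≤ M) : H.relIndex M = H.index := by
  obtain ⟨e, he⟩ := hH.idx
  refine le_antisymm ?_ (Nat.le_of_dvd (Nat.pos_of_ne_zero index_ne_zero_of_finite) ?_)
  · rw [← H.relIndex_top_right]
    exact relIndex_le_of_le_right le_top (by rw [relIndex_top_right]; exact index_ne_zero_of_finite)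
  · rw [he]
    have hM : ¬ 2 ∣ M.index := fun h => Q.not_dvd_index (h.trans (index_dvd_of_le hQM))
    refine ((Nat.prime_two.coprime_iff_not_dvd.2 hM).pow_left e).dvd_of_dvd_mul_right
      (?_ : 2 ^ e ∣ H.relIndex M * M.index)
    have h3 := relIndex_mul_index (inf_le_right : H ⊓ M ≤ M)
    rw [inf_relIndex_right] at h3
    rw [h3, ← he]
    exact index_dvd_of_le inf_le_left

/-- A proper overgroup of a Sylow 2-subgroup normalizes it. -/
theorem fix_of_overgroup [Fact (Nat.Prime 2)] (hs : Setup T) (hH : IsHall H) {M : Subgroup T}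
    (hM : M ≠ ⊤) {Q : Sylow 2 T} (hQM : (Q : Subgroup T) ≤ M) {m : T} (hm : m ∈ M) : m • Q = Q := by
  classical
  obtain ⟨e, he⟩ := hH.idx
  have hJidx : (H.subgroupOf M).index = 2 ^ e := (hH.relIndex_eq hQM).trans he
  have hJodd : Odd (Nat.card (H.subgroupOf M)) := by
    have h1 : Nat.card (H.subgroupOf M) ∣ Nat.card H := by
      rw [← card_map_of_injective (f := M.subtype) M.subtype_injective, subgroupOf_map_subtype]
      exact card_dvd_of_le inf_le_left
    exact hH.odd.of_dvd_nat h1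
  haveI : Group.IsSolvable ↥M := hs.ih M hM _ e hJodd hJidx
  have hcore : Cfsg.pPrimeCore 2 ↥M = ⊥ := by
    set N := Cfsg.pPrimeCore 2 ↥M
    have hNodd : Odd (Nat.card N) := Nat.coprime_two_right.1
      (CfsgLib.Solvable.Cores.coprime_card_pPrimeCore 2)
    have hNJ : N ≤ H.subgroupOf M := by
      obtain ⟨j, hj⟩ := relIndex_pow hJidx N
      have h1 : 2 ^ j ∣ Nat.card N := hj ▸ relIndex_dvd_card _ _
      rcases Nat.eq_zero_or_pos j with rfl | hj0
      · exact relIndex_eq_one.1 (by rw [hj, pow_zero])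
      · exact absurd ((dvd_pow_self 2 (by omega)).trans h1) hNodd.not_two_dvd_nat
    rw [eq_bot_iff]
    intro x hx
    refine mem_bot.2 (Subtype.ext (normalClosure_small (hH.ne_top hs) (S := (N.map M.subtype : Set T))
      ?_ _ (mem_map_of_mem _ hx)))
    rintro g _ ⟨y, hy, rfl⟩
    obtain ⟨q, hq, c, hc, rfl⟩ := hH.exists_mul Q g
    have h2 : (⟨q, hQM hq⟩ : ↥M) * y * (⟨q, hQM hq⟩ : ↥M)⁻¹ ∈ N :=
      (inferInstance : N.Normal).conj_mem y hy _
    have h3 : q * (y : T) * q⁻¹ ∈ H := mem_subgroupOf.1 (hNJ h2)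
    show c * q * (y : T) * (c * q)⁻¹ ∈ H
    rw [show c * q * (y : T) * (c * q)⁻¹ = c * (q * (y : T) * q⁻¹) * c⁻¹ by group]
    exact mul_mem (mul_mem hc h3) (inv_mem hc)
  have hF := CfsgLib.Solvable.Cores.fittingSubgroup_eq_pCore (G := ↥M) 2 hcore
  have hFQ : Cfsg.pCore 2 ↥M ≤ (Q.subtype hQM : Subgroup ↥M) := CfsgLib.Solvable.Cores.pCore_le_sylow _
  have hQF : (Q.subtype hQM : Subgroup ↥M) ≤ Cfsg.pCore 2 ↥M := by
    rw [← hF]
    refine le_trans ?_ CfsgLib.Solvable.Cores.centralizer_fittingSubgroup_le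
    intro x hx
    refine mem_centralizer_iff.2 fun y hy => ?_
    rw [hF] at hy
    exact Subtype.ext (hs.ab 2 Nat.prime_two Q Q.isPGroup' y (hFQ hy) x hx)
  have hQeq : (Q.subtype hQM : Subgroup ↥M) = Cfsg.pCore 2 ↥M := le_antisymm hQF hFQ
  refine Sylow.smul_eq_iff_mem_normalizer.2 (mem_normalizer_iff.2 fun x => ?_)
  have key : ∀ z : T, ∀ m' ∈ M, z ∈ (Q : Subgroup T) → m' * z * m'⁻¹ ∈ (Q : Subgroup T) := by
    intro z m' hm' hz
    have h1 : (⟨z, hQM hz⟩ : ↥M) ∈ Cfsg.pCore 2 ↥M := hQeq ▸ hz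
    have h2 := (inferInstance : (Cfsg.pCore 2 ↥M).Normal).conj_mem _ h1 ⟨m', hm'⟩
    rw [← hQeq] at h2
    exact h2
  refine ⟨key x m hm, fun h => ?_⟩
  have h4 := key _ m⁻¹ (inv_mem hm) h
  rwa [show m⁻¹ * (m * x * m⁻¹) * m⁻¹⁻¹ = x by group] at h4

theorem centralizer_ne_top (hs : Setup T) {t : T} (ht : t ≠ 1) : centralizer ({t} : Set T) ≠ ⊤ := by
  intro e
  have h1 : t ∈ center T := mem_center_iff.2 fun g =>
    mem_centralizer_singleton_iff.1 (e ▸ mem_top g : g ∈ centralizer ({t} : Set T))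
  rcases (inferInstance : (center T).Normal).eq_bot_or_eq_top with h | h
  · exact ht (mem_bot.1 (h ▸ h1))
  · exact hs.ns (Group.isSolvable_of_comm fun a b =>
      (mem_center_iff.1 (h.symm ▸ mem_top b : b ∈ center T) a))

theorem le_centralizer_of_mem [Fact (Nat.Prime 2)] (hs : Setup T) {Q : Sylow 2 T} {t : T} (ht : t ∈ Q) :
    (Q : Subgroup T) ≤ centralizer ({t} : Set T) := fun q hq =>
  mem_centralizer_singleton_iff.2 (hs.ab 2 Nat.prime_two Q Q.isPGroup' q hq t ht)

/-- The centralizer of a nontrivial element of a Sylow 2-subgroup fixes it. -/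
theorem fix_of_commute [Fact (Nat.Prime 2)] (hs : Setup T) (hH : IsHall H) {Q : Sylow 2 T} {t x : T}
    (ht : t ≠ 1) (htQ : t ∈ Q) (hx : x * t = t * x) : x • Q = Q :=
  fix_of_overgroup hs hH (centralizer_ne_top hs ht) (le_centralizer_of_mem hs htQ)
    (mem_centralizer_singleton_iff.2 hx)

/-- Sylow 2-subgroups meet trivially. -/
theorem unique [Fact (Nat.Prime 2)] (hs : Setup T) (hH : IsHall H) {P Q : Sylow 2 T} {t : T}
    (ht : t ≠ 1) (hP : t ∈ P) (hQ : t ∈ Q) : P = Q := by
  refine Sylow.ext (P.3 Q.isPGroup' fun x hx => ?_).symm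
  obtain ⟨n, hn⟩ := (IsPGroup.iff_orderOf.1 P.isPGroup') ⟨x, hx⟩
  rw [Subgroup.orderOf_mk] at hn
  exact mem_of_fix hn (fix_of_commute hs hH ht hQ (hs.ab 2 Nat.prime_two P P.isPGroup' x hx t hP))

theorem exists_mem_sylow [Fact (Nat.Prime 2)] {z : T} (hz : orderOf z = 2) : ∃ Q : Sylow 2 T, z ∈ Q := by
  have h1 : IsPGroup 2 (zpowers z) := IsPGroup.of_card (n := 1) (by rw [Nat.card_zpowers, hz, pow_one])
  obtain ⟨Q, hQ⟩ := h1.exists_le_sylow
  exact ⟨Q, hQ (mem_zpowers z)⟩

/-- An element of odd order inverted by an involution has centralizer of odd order. -/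
theorem odd_centralizer [Fact (Nat.Prime 2)] (hs : Setup T) (hH : IsHall H) {s k : T}
    (hk : k ≠ 1) (hko : Odd (orderOf k)) (hsn : orderOf s = 2) (hsk : s * k * s⁻¹ = k⁻¹) :
    Odd (Nat.card (centralizer ({k} : Set T))) := by
  by_contra hev
  rw [Nat.not_odd_iff_even, even_iff_two_dvd] at hev
  set C := centralizer ({k} : Set T) with hC
  obtain ⟨w₀, hw₀⟩ := exists_prime_orderOf_dvd_card' 2 hev
  set L := normalizer (C : Set T) with hL
  have hconjC : ∀ x ∈ C, s * x * s⁻¹ ∈ C := by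
    intro x hx
    refine mem_centralizer_singleton_iff.2 ?_
    have h1 : x * k⁻¹ = k⁻¹ * x :=
      ((show Commute x k from mem_centralizer_singleton_iff.1 hx).inv_right).eq
    have e : k = s * k⁻¹ * s⁻¹ := by
      rw [show s * k⁻¹ * s⁻¹ = (s * k * s⁻¹)⁻¹ by group, hsk, inv_inv]
    calc s * x * s⁻¹ * k = s * x * s⁻¹ * (s * k⁻¹ * s⁻¹) := by rw [← e]
      _ = s * (x * k⁻¹) * s⁻¹ := by group
      _ = s * (k⁻¹ * x) * s⁻¹ := by rw [h1]
      _ = (s * k⁻¹ * s⁻¹) * (s * x * s⁻¹) := by group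
      _ = k * (s * x * s⁻¹) := by rw [← e]
  have hsL : s ∈ L := mem_normalizer_iff.2 fun x => ⟨hconjC x, fun h => by
    have h2 := hconjC _ h
    have hss : s * s = 1 := by rw [← pow_two, ← hsn, pow_orderOf_eq_one]
    rwa [show s * (s * x * s⁻¹) * s⁻¹ = (s * s) * x * (s * s)⁻¹ by group, hss, one_mul, inv_one,
      mul_one] at h2⟩
  have hCL : C ≤ L := le_normalizer
  have hwp : IsPGroup 2 (zpowers (⟨w₀, hCL w₀.2⟩ : ↥L)) := IsPGroup.of_card (n := 1) (by
    rw [Nat.card_zpowers, Subgroup.orderOf_mk, pow_one]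
    exact (Subgroup.orderOf_coe w₀).trans hw₀)
  have hsp : IsPGroup 2 (zpowers (⟨s, hsL⟩ : ↥L)) := IsPGroup.of_card (n := 1) (by
    rw [Nat.card_zpowers, Subgroup.orderOf_mk, hsn, pow_one])
  obtain ⟨P, hP⟩ := hwp.exists_le_sylow
  obtain ⟨S, hS⟩ := hsp.exists_le_sylow
  obtain ⟨y, hy⟩ := MulAction.exists_smul_eq ↥L P S
  set w : T := (y : T) * w₀ * (y : T)⁻¹ with hw
  have hwC : w ∈ C := (mem_normalizer_iff.1 y.2 _).1 w₀.2
  have hwS : y * ⟨w₀, hCL w₀.2⟩ * y⁻¹ ∈ S := hy ▸ conj_mem_smul y (hP (mem_zpowers _))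
  have hws : w * s = s * w := hs.ab 2 Nat.prime_two ((S : Subgroup ↥L).map L.subtype)
    (S.isPGroup'.map _) w (mem_map_of_mem L.subtype hwS) s (mem_map_of_mem L.subtype (hS (mem_zpowers _)))
  have hwn : orderOf w = 2 := by
    rw [hw, orderOf_conj, Subgroup.orderOf_coe, hw₀]
  have hw1 : w ≠ 1 := fun e => by rw [e, orderOf_one] at hwn; omega
  obtain ⟨Q, hwQ⟩ := exists_mem_sylow hwn
  have hsQ : s ∈ Q := mem_of_fix (n := 1) (by rw [hsn, pow_one]) (fix_of_commute hs hH hw1 hwQ hws.symm)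
  have hkQ : k • Q = Q := fix_of_commute hs hH hw1 hwQ (mem_centralizer_singleton_iff.1 hwC).symm
  have h1 : k * s * k⁻¹ * s ∈ Q := mul_mem (hkQ ▸ conj_mem_smul k hsQ) hsQ
  have h2 : k * s * k⁻¹ * s = k ^ 2 := by
    have e1 : s * k⁻¹ * s⁻¹ = k := by rw [show s * k⁻¹ * s⁻¹ = (s * k * s⁻¹)⁻¹ by group, hsk, inv_inv]
    rw [inv_eq_self_of_orderOf hsn] at e1
    rw [pow_two, mul_assoc k s, mul_assoc k, e1]
  rw [h2] at h1
  obtain ⟨n, hn⟩ := (IsPGroup.iff_orderOf.1 Q.isPGroup') ⟨_, h1⟩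
  rw [Subgroup.orderOf_mk, Nat.Coprime.orderOf_pow (Nat.coprime_two_right.2 hko)] at hn
  rcases Nat.eq_zero_or_pos n with rfl | hn0
  · exact hk (orderOf_eq_one_iff.1 (by rw [hn, pow_zero]))
  · exact hko.not_two_dvd_nat (hn ▸ dvd_pow_self 2 (by omega))

theorem exists_two_involutions [Fact (Nat.Prime 2)] (hs : Setup T) (a : Sylow 2 T) :
    ∃ t t' : T, t ∈ a ∧ t' ∈ a ∧ orderOf t = 2 ∧ orderOf t' = 2 ∧ t ≠ t' := by
  obtain ⟨E, hE⟩ := exists_kleinFour_of_simple hs.ft (G := T) fun hc => hs.ns (by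
    haveI := hc; exact Group.isSolvable_of_comm fun a b => IsCyclic.commGroup.mul_comm a b)
  haveI := hE
  have hE2 : IsPGroup 2 E := IsPGroup.of_card (n := 2) (by rw [IsKleinFour.card_four]; norm_num)
  obtain ⟨Q, hQ⟩ := hE2.exists_le_sylow
  obtain ⟨g, rfl⟩ := MulAction.exists_smul_eq T Q a
  haveI : Nontrivial E := Finite.one_lt_card_iff_nontrivial.1 (by rw [IsKleinFour.card_four]; norm_num)
  obtain ⟨x, hx⟩ := exists_ne (1 : E)
  obtain ⟨y, hy1, hyx⟩ : ∃ y : E, y ≠ 1 ∧ y ≠ x := by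
    by_contra h
    push Not at h
    classical
    have h4 : Nat.card E ≤ 2 := by
      refine (Nat.card_le_card_of_injective (fun z : E => if z = 1 then (0 : Fin 2) else 1)
        fun z w hzw => ?_).trans_eq (Nat.card_fin 2)
      by_cases hz : z = 1 <;> by_cases hw : w = 1 <;> simp [hz, hw] at hzw ⊢
      rw [h z hz, h w hw]
    rw [IsKleinFour.card_four] at h4
    omega
  have ho : ∀ z : E, z ≠ 1 → orderOf (g * (z : T) * g⁻¹) = 2 := fun z hz => by
    rw [orderOf_conj, Subgroup.orderOf_coe]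
    exact orderOf_eq_prime (by
      rw [← IsKleinFour.exponent_two (G := E)]; exact Monoid.pow_exponent_eq_one z) hz
  exact ⟨g * x * g⁻¹, g * y * g⁻¹, conj_mem_smul g (hQ x.2), conj_mem_smul g (hQ y.2), ho x hx, ho y hy1,
    fun e => hyx (Subtype.ext (mul_left_cancel (mul_right_cancel e))).symm⟩

theorem exists_other [Fact (Nat.Prime 2)] (hs : Setup T) (a : Sylow 2 T) : ∃ c : Sylow 2 T, c ≠ a := by
  by_contra h
  push Not at h
  haveI hn : (a : Subgroup T).Normal := normalizer_eq_top_iff.1 (top_le_iff.1 fun g _ =>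
    Sylow.smul_eq_iff_mem_normalizer.1 (h (g • a)))
  obtain ⟨t, -, hta, -, ht, -, -⟩ := exists_two_involutions hs a
  rcases hn.eq_bot_or_eq_top with h1 | h1
  · have ht1 : t = 1 := mem_bot.1 (h1 ▸ hta)
    rw [ht1, orderOf_one] at ht
    omega
  · exact hs.ns (Group.isSolvable_of_comm fun x y => hs.ab 2 Nat.prime_two a a.isPGroup' x
      (h1.symm ▸ mem_top x) y (h1.symm ▸ mem_top y))

/-- Two Sylow 2-subgroups are exchanged by an involution. -/
theorem exists_swap [Fact (Nat.Prime 2)] (hs : Setup T) (hH : IsHall H) {a c : Sylow 2 T}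
    (hne : c ≠ a) : ∃ s : T, orderOf s = 2 ∧ s • a = c ∧ s • c = a := by
  obtain ⟨g, rfl⟩ := MulAction.exists_smul_eq T a c
  obtain ⟨t, -, hta, -, ht, -, -⟩ := exists_two_involutions hs a
  set t' := g * t * g⁻¹ with ht'
  have ht'c : t' ∈ g • a := conj_mem_smul g hta
  have ht'o : orderOf t' = 2 := by
    rw [ht', orderOf_conj, ht]
  have ht1 : t ≠ 1 := fun e => by rw [e, orderOf_one] at ht; omega
  have ht'1 : t' ≠ 1 := fun e => by rw [e, orderOf_one] at ht'o; omega
  have htt : t * t = 1 := by rw [← pow_two, ← ht, pow_orderOf_eq_one]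
  have ht't : t' * t' = 1 := by rw [← pow_two, ← ht'o, pow_orderOf_eq_one]
  set x := t * t' with hx
  have htx : t * x * t⁻¹ = x⁻¹ := by
    rw [inv_eq_self_of_orderOf ht, hx, mul_inv_rev, inv_eq_self_of_orderOf ht,
      inv_eq_self_of_orderOf ht'o, ← mul_assoc, htt, one_mul]
  have htp : ∀ i : ℕ, t * x ^ i * t⁻¹ = (x ^ i)⁻¹ := fun i => by
    rw [← conj_pow, htx, inv_pow]
  have hodd : Odd (orderOf x) := by
    by_contra hev
    rw [Nat.not_odd_iff_even] at hev
    obtain ⟨z, hzx, hz⟩ := exists_involution_zpowers hev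
    have hz1 : z ≠ 1 := fun e => by rw [e, orderOf_one] at hz; omega
    have hcomm : ∀ u : T, u * x * u⁻¹ = x⁻¹ → u * z = z * u := by
      intro u hu
      obtain ⟨i, rfl⟩ := mem_zpowers_iff.1 hzx
      have h1 : u * x ^ i * u⁻¹ = (x ^ i)⁻¹ := by rw [← conj_zpow, hu, inv_zpow]
      rw [inv_eq_self_of_orderOf hz] at h1
      calc u * x ^ i = u * x ^ i * u⁻¹ * u := by group
        _ = x ^ i * u := by rw [h1]
    have ht'x : t' * x * t'⁻¹ = x⁻¹ := by
      rw [hx, show (t * t')⁻¹ = t'⁻¹ * t⁻¹ from mul_inv_rev t t', inv_eq_self_of_orderOf ht,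
        inv_eq_self_of_orderOf ht'o, mul_assoc t', mul_assoc t, ht't, mul_one]
    obtain ⟨Q, hzQ⟩ := exists_mem_sylow hz
    have h1 : t ∈ Q := mem_of_fix (n := 1) (by rw [ht, pow_one])
      (fix_of_commute hs hH hz1 hzQ (hcomm t htx))
    have h2 : t' ∈ Q := mem_of_fix (n := 1) (by rw [ht'o, pow_one])
      (fix_of_commute hs hH hz1 hzQ (hcomm t' ht'x))
    exact hne ((unique hs hH ht'1 ht'c h2).trans (unique hs hH ht1 hta h1).symm)
  obtain ⟨j, hj⟩ := hodd
  set s := t * x ^ (j + 1) with hs'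
  have hss : s * s = 1 := by
    rw [hs', ← mul_assoc]
    have h1 := htp (j + 1)
    rw [inv_eq_self_of_orderOf ht] at h1
    rw [h1, inv_mul_cancel]
  have hs1 : s ≠ 1 := by
    intro e
    have h1 : x ^ (j + 1) = t := by
      rw [← inv_eq_self_of_orderOf ht]; exact eq_inv_of_mul_eq_one_right e
    have h2 : orderOf t ∣ orderOf x := h1 ▸ orderOf_pow_dvd (j + 1)
    rw [ht, hj] at h2
    omega
  have hsn : orderOf s = 2 := orderOf_eq_prime (by rw [pow_two, hss]) hs1
  have hconj : s * t * s⁻¹ = t' := by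
    rw [inv_eq_self_of_orderOf hsn, hs']
    have h1 : t * x ^ (j + 1) * t = (x ^ (j + 1))⁻¹ := by
      have := htp (j + 1); rwa [inv_eq_self_of_orderOf ht] at this
    rw [h1]
    have h2 : x ^ (2 * j + 1) = 1 := by rw [← hj, pow_orderOf_eq_one]
    calc (x ^ (j + 1))⁻¹ * (t * x ^ (j + 1)) = (t * x ^ (j + 1) * t⁻¹) * (t * x ^ (j + 1)) := by
          rw [htp]
      _ = t * (x ^ (2 * j + 1) * x) := by
          rw [← pow_succ, show 2 * j + 1 + 1 = (j + 1) + (j + 1) by omega, pow_add]; group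
      _ = t' := by rw [h2, one_mul, hx, ← mul_assoc, htt, one_mul]
  have h1 : s • a = g • a := unique hs hH ht'1 (hconj ▸ conj_mem_smul s hta) ht'c
  exact ⟨s, hsn, h1, by rw [← h1, ← mul_smul, hss, one_smul]⟩

/-- Some element of odd prime order fixes a point and is inverted by an involution. -/
theorem exists_k [Fact (Nat.Prime 2)] (hs : Setup T) (hH : IsHall H) (a : Sylow 2 T) :
    ∃ (r : ℕ) (k s : T), r.Prime ∧ r ≠ 2 ∧ orderOf k = r ∧ orderOf s = 2 ∧
      s * k * s⁻¹ = k⁻¹ ∧ k • a = a := by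
  classical
  obtain ⟨s, s', hsn, hs'n, hne, heq, hmove⟩ : ∃ s s' : T, orderOf s = 2 ∧ orderOf s' = 2 ∧
      s ≠ s' ∧ s • a = s' • a ∧ s • a ≠ a := by
    by_contra hno
    push Not at hno
    let I := {t : T // t ∈ a ∧ orderOf t = 2}
    let X := {c : Sylow 2 T // c ≠ a}
    let O := {s : T // orderOf s = 2 ∧ s • a ≠ a}
    choose g hg using fun c : X => MulAction.exists_smul_eq T a c.1
    have hmem : ∀ z : X × I, g z.1 * z.2.1 * (g z.1)⁻¹ ∈ z.1.1 := fun z => by
      have := conj_mem_smul (g z.1) z.2.2.1; rwa [hg] at this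
    have hord : ∀ z : X × I, orderOf (g z.1 * z.2.1 * (g z.1)⁻¹) = 2 := fun z => by
      rw [orderOf_conj, z.2.2.2]
    let f : X × I → O := fun z => ⟨g z.1 * z.2.1 * (g z.1)⁻¹, hord z, fun hfix => z.1.2 (by
      have h1 : g z.1 * z.2.1 * (g z.1)⁻¹ ∈ a := mem_of_fix (n := 1) (by rw [hord, pow_one]) hfix
      exact unique hs hH (fun e => by have := hord z; rw [e, orderOf_one] at this; omega) (hmem z) h1)⟩
    have hf : Function.Injective f := by
      intro z z' e
      have e' : g z.1 * z.2.1 * (g z.1)⁻¹ = g z'.1 * z'.2.1 * (g z'.1)⁻¹ := congrArg Subtype.val e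
      have h1 : z.1 = z'.1 := Subtype.ext (unique hs hH
        (fun e0 => by have := hord z; rw [e0, orderOf_one] at this; omega) (hmem z) (e' ▸ hmem z'))
      refine Prod.ext h1 (Subtype.ext ?_)
      rw [← h1] at e'
      exact mul_left_cancel (mul_right_cancel e')
    let h : O → X := fun o => ⟨o.1 • a, o.2.2⟩
    have hh : Function.Injective h := fun o o' e => Subtype.ext (by
      by_contra hc
      exact o.2.2 (hno o.1 o'.1 o.2.1 o'.2.1 hc (congrArg Subtype.val e)))
    have hc1 := Nat.card_le_card_of_injective _ (hh.comp hf)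
    rw [Nat.card_prod] at hc1
    obtain ⟨c, hc⟩ := exists_other hs a
    haveI : Nonempty X := ⟨⟨c, hc⟩⟩
    have hX : 0 < Nat.card X := Nat.card_pos
    obtain ⟨t, t', hta, ht'a, ht, ht', htt⟩ := exists_two_involutions hs a
    have hI : 1 < Nat.card I := Finite.one_lt_card_iff_nontrivial.2
      ⟨⟨t, hta, ht⟩, ⟨t', ht'a, ht'⟩, fun e => htt (congrArg Subtype.val e)⟩
    nlinarith
  set k₀ := s * s' with hk₀
  have hss : s * s = 1 := by rw [← pow_two, ← hsn, pow_orderOf_eq_one]
  have hs's : s' * s' = 1 := by rw [← pow_two, ← hs'n, pow_orderOf_eq_one]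
  have hfa : k₀ • a = a := by rw [hk₀, mul_smul, ← heq, ← mul_smul, hss, one_smul]
  have hfc : k₀ • (s • a) = s • a := by
    conv_lhs => rw [heq]
    rw [hk₀, mul_smul, ← mul_smul s' s', hs's, one_smul]
  have hinv : s * k₀ * s⁻¹ = k₀⁻¹ := by
    rw [inv_eq_self_of_orderOf hsn, hk₀, mul_inv_rev, inv_eq_self_of_orderOf hsn,
      inv_eq_self_of_orderOf hs'n, ← mul_assoc, hss, one_mul]
  have hk₀1 : k₀ ≠ 1 := fun e => hne (by
    rw [← inv_eq_self_of_orderOf hsn]; exact (eq_inv_of_mul_eq_one_right e).symm)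
  have hodd : Odd (orderOf k₀) := by
    by_contra hev
    rw [Nat.not_odd_iff_even] at hev
    obtain ⟨z, hz, hzn⟩ := exists_involution_zpowers hev
    have hzfix : ∀ d : Sylow 2 T, k₀ • d = d → z • d = d := fun d hd =>
      (zpowers_le.2 (show k₀ ∈ MulAction.stabilizer T d from hd)) hz
    exact hmove (unique hs hH (fun e => by rw [e, orderOf_one] at hzn; omega)
      (mem_of_fix (n := 1) (by rw [hzn, pow_one]) (hzfix _ hfc))
      (mem_of_fix (n := 1) (by rw [hzn, pow_one]) (hzfix _ hfa)))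
  obtain ⟨r, hr, hrd⟩ := Nat.exists_prime_and_dvd (n := orderOf k₀) (fun e => hk₀1 (orderOf_eq_one_iff.1 e))
  refine ⟨r, k₀ ^ (orderOf k₀ / r), s, hr, fun e => hodd.not_two_dvd_nat (e ▸ hrd),
    orderOf_pow_orderOf_div (orderOf_pos k₀).ne' hrd, hsn, ?_, ?_⟩
  · rw [← conj_pow, hinv, inv_pow]
  · exact (zpowers_le.2 (show k₀ ∈ MulAction.stabilizer T a from hfa)) (pow_mem (mem_zpowers k₀) _)

theorem false_of_setup [Fact (Nat.Prime 2)] (hs : Setup T) (hH : IsHall H) : False := by
  classical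
  obtain ⟨a⟩ : Nonempty (Sylow 2 T) := inferInstance
  obtain ⟨r, k, s, hr, hr2, hkr, hsn, hsk, hka⟩ := exists_k hs hH a
  haveI := Fact.mk hr
  have hk1 : k ≠ 1 := fun e => by rw [e, orderOf_one] at hkr; exact hr.ne_one hkr.symm
  have hko : Odd (orderOf k) := by rw [hkr]; exact hr.odd_of_ne_two hr2
  have hC := odd_centralizer hs hH hk1 hko hsn hsk
  set M := MulAction.stabilizer T a with hM
  have haM : (a : Subgroup T) ≤ M := fun q hq => Sylow.smul_eq_iff_mem_normalizer.2 (le_normalizer hq)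
  -- a Sylow `r`-subgroup of the stabilizer of `a` containing `k`
  have hkM : k ∈ M := hka
  have hkp : IsPGroup r (zpowers (⟨k, hkM⟩ : ↥M)) := IsPGroup.of_card (n := 1) (by
    rw [Nat.card_zpowers, Subgroup.orderOf_mk, hkr, pow_one])
  obtain ⟨R₀, hR₀⟩ := hkp.exists_le_sylow
  set R := (R₀ : Subgroup ↥M).map M.subtype with hR
  have hRp : IsPGroup r R := R₀.isPGroup'.map _
  have hkR : k ∈ R := ⟨⟨k, hkM⟩, hR₀ (mem_zpowers _), rfl⟩
  have hRM : R ≤ M := map_subtype_le _
  have hmax : ∀ P : Subgroup T, IsPGroup r P → R ≤ P → P ≤ M → P = R := by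
    intro P hP hle hPM
    have h2 : P.subgroupOf M = R₀ := R₀.3 hP.comap_subtype fun x hx => hle (mem_map_of_mem _ hx)
    rw [hR, ← h2, subgroupOf_map_subtype, inf_of_le_left hPM]
  have hpre : ∀ (D : Subgroup T), R ≤ D → D ≤ M → ∀ R' : Subgroup T, IsPGroup r R' → R' ≤ D →
      Nat.card R' = Nat.card R → ∃ d ∈ D, ∀ x ∈ R', d * x * d⁻¹ ∈ R := by
    intro D hRD hDM R' hR' hR'D hcard
    let P₁ : Sylow r ↥D := ⟨R.subgroupOf D, hRp.comap_subtype, fun {Q} hQ hle => by
      apply Subgroup.map_injective D.subtype_injective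
      rw [subgroupOf_map_subtype, inf_of_le_left hRD]
      refine hmax _ (hQ.map _) ?_ ((map_subtype_le _).trans hDM)
      intro x hx
      exact ⟨⟨x, hRD hx⟩, hle hx, rfl⟩⟩
    obtain ⟨P₂, hP₂⟩ := (hR'.comap_subtype (K := D)).exists_le_sylow
    obtain ⟨d, hd⟩ := MulAction.exists_smul_eq ↥D P₂ P₁
    refine ⟨d, d.2, fun x hx => ?_⟩
    have h1 : d * ⟨x, hR'D hx⟩ * d⁻¹ ∈ P₁ := hd ▸ conj_mem_smul d (hP₂ hx)
    exact h1
  -- it fixes no other Sylow 2-subgroup
  have honly : ∀ c : Sylow 2 T, (∀ x ∈ R, x • c = c) → c = a := by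
    intro c hc
    by_contra hne
    obtain ⟨s', hs'n, hs'a, hs'c⟩ := exists_swap hs hH hne
    set D := M ⊓ MulAction.stabilizer T c with hD
    have hRD : R ≤ D := fun x hx => ⟨hRM hx, hc x hx⟩
    obtain ⟨d, hdD, hd⟩ := hpre D hRD inf_le_left (R.map (MulAut.conj s').toMonoidHom) (hRp.map _)
      (by
        rintro _ ⟨x, hx, rfl⟩
        constructor
        · show (s' * x * s'⁻¹) • a = a
          rw [mul_smul, mul_smul, inv_eq_self_of_orderOf hs'n, hs'a, hc x hx, hs'c]
        · show (s' * x * s'⁻¹) • c = c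
          rw [mul_smul, mul_smul, inv_eq_self_of_orderOf hs'n, hs'c, show x • a = a from hRM hx, hs'a])
      (card_map_of_injective (MulAut.conj s').injective)
    set w₀ := d * s' with hw₀
    have hdc : d • c = c := hdD.2
    have hda : d • a = a := hdD.1
    have hw₀a : w₀ • a = c := by rw [hw₀, mul_smul, hs'a, hdc]
    have hw₀c : w₀ • c = a := by rw [hw₀, mul_smul, hs'c, hda]
    have hw₀R : w₀ ∈ normalizer (R : Set T) := by
      refine mem_normalizer_iff_map_conj_eq.2 (eq_of_le_of_card_ge ?_ ?_)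
      · rintro _ ⟨x, hx, rfl⟩
        have := hd _ ⟨x, hx, rfl⟩
        simpa [hw₀, mul_assoc] using this
      · exact (card_map_of_injective (K := R) (f := (MulAut.conj w₀).toMonoidHom)
          (MulAut.conj w₀).injective).ge
    set m := ordCompl[2] (orderOf w₀) with hm
    set w := w₀ ^ m with hw
    have hmodd : Odd m := Nat.odd_iff.2 (by
      have := Nat.not_dvd_ordCompl Nat.prime_two (orderOf_pos w₀).ne'
      rw [← hm] at this
      omega)
    have hwn : orderOf w = 2 ^ (orderOf w₀).factorization 2 := by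
      rw [hw, orderOf_pow, Nat.gcd_eq_right (Nat.ordCompl_dvd _ _)]
      exact Nat.div_eq_of_eq_mul_left (Nat.ordCompl_pos _ (orderOf_pos w₀).ne')
        (Nat.ordProj_mul_ordCompl_eq_self _ _).symm
    have hwa : w • a = c := by
      obtain ⟨i, hi⟩ := hmodd
      have h2 : ∀ i : ℕ, w₀ ^ (2 * i) • a = a := by
        intro i
        induction i with
        | zero => simp
        | succ i ih => rw [show 2 * (i + 1) = 2 + 2 * i by omega, pow_add, mul_smul, ih, pow_two,
            mul_smul, hw₀a, hw₀c]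
      rw [hw, hi, pow_succ', mul_smul, h2, hw₀a]
    have hwR : w ∈ normalizer (R : Set T) := pow_mem hw₀R _
    -- a conjugate of `H` containing `R`
    obtain ⟨e, he⟩ := hH.idx
    obtain ⟨P₃⟩ : Nonempty (Sylow r ↥(H.subgroupOf M)) := inferInstance
    set P₃' := (P₃ : Subgroup ↥(H.subgroupOf M)).map (H.subgroupOf M).subtype with hP₃'
    have hP₃i : ¬ r ∣ P₃'.index := by
      rw [hP₃', index_map_subtype, show (H.subgroupOf M).index = 2 ^ e from
        (hH.relIndex_eq haM).trans he]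
      exact fun h => (hr.dvd_mul.1 h).elim P₃.not_dvd_index fun h' =>
        hr2 ((Nat.prime_dvd_prime_iff_eq hr Nat.prime_two).1 (hr.dvd_of_dvd_pow h'))
    let P₄ : Sylow r ↥M := (P₃.isPGroup'.map (H.subgroupOf M).subtype).toSylow hP₃i
    obtain ⟨m₁, hm₁⟩ := MulAction.exists_smul_eq ↥M R₀ P₄
    set H' := H.map (MulAut.conj (m₁ : T)⁻¹).toMonoidHom with hH'
    have hH'hall : IsHall H' := hH.map_conj _
    have hRH' : R ≤ H' := by
      rintro _ ⟨y, hy, rfl⟩
      have h1 : m₁ * y * m₁⁻¹ ∈ P₄ := hm₁ ▸ conj_mem_smul m₁ hy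
      obtain ⟨z, -, hz⟩ := h1
      have h2 : (m₁ : T) * y * (m₁ : T)⁻¹ ∈ H := by
        have := z.2
        rw [mem_subgroupOf] at this
        rwa [show ((z : ↥M) : T) = ((m₁ * y * m₁⁻¹ : ↥M) : T) from congrArg Subtype.val hz] at this
      refine ⟨_, h2, ?_⟩
      show (m₁ : T)⁻¹ * ((m₁ : T) * y * (m₁ : T)⁻¹) * (m₁ : T)⁻¹⁻¹ = y
      group
    -- the fixed set has odd size
    let F : Set (Sylow 2 T) := {c | ∀ x ∈ R, x • c = c}
    set NH := H' ⊓ normalizer (R : Set T) with hNH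
    have horb : MulAction.orbit NH a = F := by
      ext c'
      constructor
      · rintro ⟨n, rfl⟩ x hx
        have h1 : (n : T)⁻¹ * x * n ∈ R := by
          have := (mem_normalizer_iff.1
            (inv_mem (show (n : T) ∈ normalizer (R : Set T) from n.2.2)) x).1 hx
          rwa [inv_inv] at this
        show x • (n : T) • a = (n : T) • a
        calc x • (n : T) • a = (n : T) • ((n : T)⁻¹ * x * n) • a := by
              rw [← mul_smul, ← mul_smul]; congr 1; group
          _ = (n : T) • a := by rw [show ((n : T)⁻¹ * x * n) • a = a from hRM h1]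
      · intro hc'
        obtain ⟨h, hh, rfl⟩ := hH'hall.transitive a c'
        obtain ⟨d', hd', hd''⟩ := hpre (H' ⊓ M) (le_inf hRH' hRM) inf_le_right
          (R.map (MulAut.conj h⁻¹).toMonoidHom) (hRp.map _) (by
            rintro _ ⟨x, hx, rfl⟩
            refine ⟨H'.mul_mem (H'.mul_mem (H'.inv_mem hh) (hRH' hx)) (H'.inv_mem (H'.inv_mem hh)), ?_⟩
            show (h⁻¹ * x * h⁻¹⁻¹) • a = a
            rw [inv_inv, mul_smul, mul_smul, hc' x hx, inv_smul_smul])
          (card_map_of_injective (MulAut.conj h⁻¹).injective)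
        have hn : d' * h⁻¹ ∈ normalizer (R : Set T) := by
          refine mem_normalizer_iff_map_conj_eq.2 (eq_of_le_of_card_ge ?_ ?_)
          · rintro _ ⟨x, hx, rfl⟩
            have := hd'' _ ⟨x, hx, rfl⟩
            simpa [mul_assoc] using this
          · exact (card_map_of_injective (K := R) (f := (MulAut.conj (d' * h⁻¹)).toMonoidHom)
              (MulAut.conj (d' * h⁻¹)).injective).ge
        refine ⟨⟨(d' * h⁻¹)⁻¹, H'.inv_mem (H'.mul_mem hd'.1 (H'.inv_mem hh)),
          (normalizer (R : Set T)).inv_mem hn⟩, ?_⟩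
        show (d' * h⁻¹)⁻¹ • a = h • a
        rw [mul_inv_rev, inv_inv, mul_smul, inv_smul_eq_iff.2 (show a = d' • a from (hd'.2 : d' • a = a).symm)]
    have hFodd : Odd (Nat.card F) := by
      have h1 : Nat.card F ∣ Nat.card NH := by
        rw [← horb, Nat.card_coe_set_eq, ← MulAction.index_stabilizer]
        exact index_dvd_card _
      exact (hH'hall.odd.of_dvd_nat (card_dvd_of_le inf_le_left)).of_dvd_nat h1
    haveI : Fintype F := Fintype.ofFinite _
    have hwF : ∀ v ∈ normalizer (R : Set T), ∀ c' ∈ F, v • c' ∈ F := by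
      intro v hv c' hc' x hx
      have h1 : v⁻¹ * x * v ∈ R := by
        have := (mem_normalizer_iff.1 (inv_mem hv) x).1 hx
        rwa [inv_inv] at this
      calc x • v • c' = v • (v⁻¹ * x * v) • c' := by rw [← mul_smul, ← mul_smul]; congr 1; group
        _ = v • c' := by rw [hc' _ h1]
    let σ : Equiv.Perm F :=
      { toFun := fun c' => ⟨w • c'.1, hwF w hwR _ c'.2⟩
        invFun := fun c' => ⟨w⁻¹ • c'.1, hwF _ (inv_mem hwR) _ c'.2⟩
        left_inv := fun c' => Subtype.ext (inv_smul_smul _ _)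
        right_inv := fun c' => Subtype.ext (smul_inv_smul _ _) }
    have hσpow : ∀ (i : ℕ) (c' : F), ((σ ^ i) c').1 = w ^ i • c'.1 := by
      intro i
      induction i with
      | zero => intro c'; simp
      | succ i ih =>
        intro c'
        rw [pow_succ', Equiv.Perm.mul_apply, pow_succ', mul_smul, ← ih]
        rfl
    obtain ⟨⟨c', hc'⟩, hfix⟩ := Equiv.Perm.exists_fixed_point_of_prime (p := 2)
      (n := (orderOf w₀).factorization 2)
      (by rw [← Nat.card_eq_fintype_card]; exact hFodd.not_two_dvd_nat) (σ := σ) (by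
        refine Equiv.ext fun c' => Subtype.ext ?_
        rw [hσpow, ← hwn, pow_orderOf_eq_one, one_smul]
        rfl)
    have hwfix : w • c' = c' := congrArg Subtype.val hfix
    have hwc' : w ∈ c' := mem_of_fix hwn hwfix
    have hw1 : w ≠ 1 := fun e1 => hne (by rw [← hwa, e1, one_smul])
    have hwk : w * k * w⁻¹ * k⁻¹ = 1 := eq_one_of_coprime hr2 hRp c'.isPGroup'
      (mul_mem ((mem_normalizer_iff.1 hwR k).1 hkR) (inv_mem hkR))
      (by
        rw [show w * k * w⁻¹ * k⁻¹ = w * (k * w⁻¹ * k⁻¹) by group]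
        exact mul_mem hwc' ((hc' k hkR) ▸ conj_mem_smul k (inv_mem hwc')))
    have hwC : w ∈ centralizer ({k} : Set T) := mem_centralizer_singleton_iff.2 (by
      rw [mul_inv_eq_one, mul_inv_eq_iff_eq_mul] at hwk
      exact hwk)
    have h2 : orderOf w ∣ Nat.card (centralizer ({k} : Set T)) := Subgroup.orderOf_dvd_natCard _ hwC
    rw [hwn] at h2
    have hv : (orderOf w₀).factorization 2 ≠ 0 := fun h0 => hw1 (orderOf_eq_one_iff.1 (by rw [hwn, h0, pow_zero]))
    exact hC.not_two_dvd_nat ((dvd_pow_self 2 hv).trans h2)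
  -- it is a Sylow subgroup of the whole group
  obtain ⟨R₁, hR₁⟩ := hRp.exists_le_sylow
  have hR₁c : ∀ x ∈ (R₁ : Subgroup T), ∀ y ∈ (R₁ : Subgroup T), x * y = y * x :=
    hs.ab r hr R₁ R₁.isPGroup'
  have hR₁R : (R₁ : Subgroup T) = R := by
    refine hmax _ R₁.isPGroup' hR₁ fun x hx => ?_
    show x • a = a
    refine honly _ fun y hy => ?_
    rw [← mul_smul, hR₁c y (hR₁ hy) x hx, mul_smul, show y • a = a from hRM hy]
  set C := centralizer ({k} : Set T) with hCdef
  have hRC : R ≤ C := fun x hx => mem_centralizer_singleton_iff.2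
    (hR₁c x (hR₁ hx) k (hR₁ hkR))
  let P₁ : Sylow r ↥C := R₁.subtype (hR₁R.trans_le hRC)
  have hsR : R.map (MulAut.conj s).toMonoidHom ≤ C := by
    rintro _ ⟨x, hx, rfl⟩
    refine mem_centralizer_singleton_iff.2 ?_
    have h1 : x * k⁻¹ = k⁻¹ * x := ((show Commute x k from
      mem_centralizer_singleton_iff.1 (hRC hx)).inv_right).eq
    have e : k = s * k⁻¹ * s⁻¹ := by
      rw [show s * k⁻¹ * s⁻¹ = (s * k * s⁻¹)⁻¹ by group, hsk, inv_inv]
    show s * x * s⁻¹ * k = k * (s * x * s⁻¹)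
    calc s * x * s⁻¹ * k = s * x * s⁻¹ * (s * k⁻¹ * s⁻¹) := by rw [← e]
      _ = s * (x * k⁻¹) * s⁻¹ := by group
      _ = s * (k⁻¹ * x) * s⁻¹ := by rw [h1]
      _ = (s * k⁻¹ * s⁻¹) * (s * x * s⁻¹) := by group
      _ = k * (s * x * s⁻¹) := by rw [← e]
  obtain ⟨P₂, hP₂⟩ := ((hRp.map (MulAut.conj s).toMonoidHom).comap_subtype (K := C)).exists_le_sylow
  obtain ⟨y, hy⟩ := MulAction.exists_smul_eq ↥C P₂ P₁
  set w₀ := (y : T) * s with hw₀
  have hw₀R : ∀ x ∈ R, w₀ * x * w₀⁻¹ ∈ R := by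
    intro x hx
    have h1 : y * ⟨s * x * s⁻¹, hsR ⟨x, hx, rfl⟩⟩ * y⁻¹ ∈ P₁ :=
      hy ▸ conj_mem_smul y (hP₂ ⟨x, hx, rfl⟩)
    have h2 : (y : T) * (s * x * s⁻¹) * (y : T)⁻¹ ∈ R := hR₁R ▸ h1
    rwa [hw₀, show (y : T) * s * x * ((y : T) * s)⁻¹ = (y : T) * (s * x * s⁻¹) * (y : T)⁻¹ by group]
  have hw₀n : w₀ ∈ normalizer (R : Set T) := by
    refine mem_normalizer_iff_map_conj_eq.2 (eq_of_le_of_card_ge ?_ ?_)
    · rintro _ ⟨x, hx, rfl⟩; exact hw₀R x hx
    · exact (card_map_of_injective (K := R) (f := (MulAut.conj w₀).toMonoidHom)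
        (MulAut.conj w₀).injective).ge
  have hw₀k : w₀ * k * w₀⁻¹ = k⁻¹ := by
    rw [hw₀, show (y : T) * s * k * ((y : T) * s)⁻¹ = (y : T) * (s * k * s⁻¹) * (y : T)⁻¹ by group, hsk,
      mul_inv_eq_iff_eq_mul]
    exact ((show Commute (y : T) k from mem_centralizer_singleton_iff.1 y.2).inv_right).eq
  have hw₀a : w₀ • a = a := honly _ fun x hx => by
    have h1 : w₀⁻¹ * x * w₀ ∈ R := by
      have := (mem_normalizer_iff.1 (inv_mem hw₀n) x).1 hx
      rwa [inv_inv] at this
    calc x • w₀ • a = w₀ • (w₀⁻¹ * x * w₀) • a := by rw [← mul_smul, ← mul_smul]; congr 1; group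
      _ = w₀ • a := by rw [show (w₀⁻¹ * x * w₀) • a = a from hRM h1]
  set m := ordCompl[2] (orderOf w₀) with hm
  set w := w₀ ^ m with hw
  have hmodd : Odd m := Nat.odd_iff.2 (by
    have := Nat.not_dvd_ordCompl Nat.prime_two (orderOf_pos w₀).ne'
    rw [← hm] at this
    omega)
  have hwn : orderOf w = 2 ^ (orderOf w₀).factorization 2 := by
    rw [hw, orderOf_pow, Nat.gcd_eq_right (Nat.ordCompl_dvd _ _)]
    exact Nat.div_eq_of_eq_mul_left (Nat.ordCompl_pos _ (orderOf_pos w₀).ne')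
      (Nat.ordProj_mul_ordCompl_eq_self _ _).symm
  have hwk : w * k * w⁻¹ = k⁻¹ := inverts_pow hw₀k hmodd
  have hwa : w ∈ a := mem_of_fix hwn ((zpowers_le.2 (show w₀ ∈ M from hw₀a)) (pow_mem (mem_zpowers w₀) _))
  have h1 : w * k * w⁻¹ * k⁻¹ = 1 := eq_one_of_coprime hr2 hRp a.isPGroup'
    (mul_mem (by rw [hwk]; exact inv_mem hkR) (inv_mem hkR))
    (by
      rw [show w * k * w⁻¹ * k⁻¹ = w * (k * w⁻¹ * k⁻¹) by group]
      exact mul_mem hwa (hka ▸ conj_mem_smul k (inv_mem hwa)))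
  rw [hwk, mul_inv_eq_one] at h1
  have h2 : k ^ 2 = 1 := by rw [pow_two]; exact eq_inv_iff_mul_eq_one.1 h1.symm
  have h3 : orderOf k ∣ 2 := orderOf_dvd_of_pow_eq_one h2
  rw [hkr, Nat.prime_dvd_prime_iff_eq hr Nat.prime_two] at h3
  exact hr2 h3

end Simple

/-! ## The theorem -/

theorem eq_top_of_index_pow (hFT : OddSolvable.{u}) {G : Type u} [Group G] [Finite G] (hAb : AbSyl G)
    (hperf : commutator G = ⊤) {K : Subgroup G} {e : ℕ} (hK : K.index = 2 ^ e) : K = ⊤ := by
  induction hn : Nat.card G using Nat.strong_induction_on generalizing G e with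
  | _ n ih =>
    subst hn
    haveI : Fact (Nat.Prime 2) := ⟨Nat.prime_two⟩
    rcases subsingleton_or_nontrivial G with hs | hnt
    · exact Subsingleton.elim _ _
    have hsolv : ∀ M : Subgroup G, M ≠ ⊤ → ∀ (J : Subgroup ↥M) (j : ℕ), Odd (Nat.card J) →
        J.index = 2 ^ j → Group.IsSolvable ↥M := by
      intro M hM J j hodd hidx
      by_contra hns
      obtain ⟨R, hRn, hR1, hRp⟩ := exists_perfect_normal hns
      haveI := hRn
      obtain ⟨i, hi⟩ := relIndex_pow hidx R
      have hlt : Nat.card ↥R < Nat.card G := lt_of_le_of_lt R.card_le_card_group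
        (lt_of_le_of_ne M.card_le_card_group fun e1 => hM (card_eq_iff_eq_top _ |>.1 e1))
      have h1 := ih _ hlt (absyl_subgroup (absyl_subgroup hAb M) R) hRp (K := J.subgroupOf R) hi rfl
      have hRJ : R ≤ J := fun x hx => by
        have : (⟨x, hx⟩ : ↥R) ∈ J.subgroupOf R := by rw [h1]; exact mem_top _
        exact this
      haveI : Nontrivial ↥R := (nontrivial_iff_ne_bot R).2 hR1
      exact not_solvable_of_perfect hRp (hFT _ (hodd.of_dvd_nat (card_dvd_of_le hRJ)))
    by_contra hKne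
    by_cases hsimple : IsSimpleGroup G
    · haveI := hsimple
      refine false_of_setup (H := K) ⟨hFT, hAb, not_solvable_of_perfect hperf, hsolv⟩ ⟨?_, e, hK⟩
      exact odd_of_index_pow hAb hKne hK
    obtain ⟨N₀, hN₀n, hN₀b, hN₀t⟩ : ∃ N : Subgroup G, N.Normal ∧ N ≠ ⊥ ∧ N ≠ ⊤ := by
      by_contra hno
      push Not at hno
      exact hsimple
        { exists_pair_ne := exists_pair_ne G
          eq_bot_or_eq_top_of_normal := fun N hNn => or_iff_not_imp_left.2 (hno N hNn) }
    haveI := hN₀n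
    -- some nontrivial proper normal subgroup lies in `K`
    obtain ⟨N, hNn, hNb, -, hNK⟩ : ∃ N : Subgroup G, N.Normal ∧ N ≠ ⊥ ∧ N ≠ ⊤ ∧ N ≤ K := by
      by_cases hsol : Group.IsSolvable ↥N₀
      · haveI : (Cfsg.fittingSubgroup ↥N₀).Characteristic := inferInstance
        haveI : Nontrivial ↥N₀ := (nontrivial_iff_ne_bot N₀).2 hN₀b
        haveI := hsol
        -- a nontrivial normal `p`-subgroup
        obtain ⟨p, hp, hpne⟩ : ∃ p : ℕ, p.Prime ∧ Cfsg.pCore p ↥N₀ ≠ ⊥ := by
          by_contra h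
          push Not at h
          refine CfsgLib.Solvable.Cores.fittingSubgroup_ne_bot (G := ↥N₀) ?_
          rw [CfsgLib.Solvable.Cores.fittingSubgroup_eq_iSup_pCore, iSup_eq_bot]
          exact fun q => h q q.2
        haveI := Fact.mk hp
        set P := (Cfsg.pCore p ↥N₀).map N₀.subtype with hP
        haveI hPn : P.Normal := inferInstance
        have hPp : IsPGroup p P := (CfsgLib.Solvable.Cores.isPGroup_pCore p).map _
        have hPb : P ≠ ⊥ := fun h => hpne (by
          rwa [hP, Subgroup.map_eq_bot_iff_of_injective _ N₀.subtype_injective] at h)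
        by_cases hp2 : p = 2
        · subst hp2
          exfalso
          set C := centralizer (P : Set G) with hC
          obtain ⟨S⟩ : Nonempty (Sylow 2 G) := inferInstance
          have hPS : ∀ S : Sylow 2 G, P ≤ S := fun S =>
            (CfsgLib.Solvable.Cores.le_pCore hPp).trans (CfsgLib.Solvable.Cores.pCore_le_sylow S)
          have hSC : (S : Subgroup G) ≤ C := fun x hx => mem_centralizer_iff.2 fun y hy =>
            hAb 2 Nat.prime_two S S.isPGroup' y (hPS S hy) x hx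
          haveI : Group.IsSolvable (G ⧸ C) := hFT _ (by
            rw [← index_eq_card, Nat.odd_iff]
            have h1 : ¬ 2 ∣ C.index := fun h => S.not_dvd_index (h.trans (index_dvd_of_le hSC))
            omega)
          have hperf' : commutator (G ⧸ C) = ⊤ := by
            have h1 := Subgroup.map_commutator (⊤ : Subgroup G) ⊤ (QuotientGroup.mk' C)
            rw [Subgroup.map_top_of_surjective _ (QuotientGroup.mk'_surjective C)] at h1
            rw [_root_.commutator_def, ← h1, ← _root_.commutator_def, hperf,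
              Subgroup.map_top_of_surjective _ (QuotientGroup.mk'_surjective C)]
          have hCt : C = ⊤ := by
            by_contra hCne
            haveI : Nontrivial (G ⧸ C) := QuotientGroup.nontrivial_iff.2 hCne
            exact not_solvable_of_perfect hperf' inferInstance
          refine hPb (eq_bot_iff.2 fun x hx => ?_)
          rw [← center_eq_bot hAb hperf]
          exact mem_center_iff.2 fun g =>
            (mem_centralizer_iff.1 (hCt ▸ mem_top g : g ∈ C) x hx).symm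
        · refine ⟨P, hPn, hPb, fun h => hN₀t (top_le_iff.1 (h ▸ map_subtype_le _)), ?_⟩
          obtain ⟨j, hj⟩ := relIndex_pow hK P
          obtain ⟨i, hi⟩ := IsPGroup.iff_card.1 hPp
          have h1 : 2 ^ j ∣ p ^ i := hi ▸ hj ▸ relIndex_dvd_card _ _
          rcases Nat.eq_zero_or_pos j with rfl | hj0
          · exact relIndex_eq_one.1 (by rw [hj, pow_zero])
          · exact absurd ((Nat.prime_dvd_prime_iff_eq Nat.prime_two hp).1
              (Nat.prime_two.dvd_of_dvd_pow ((dvd_pow_self 2 (by omega)).trans h1))) (Ne.symm hp2)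
      · obtain ⟨R, hRn, hR1, hRp⟩ := exists_perfect_normal hsol
        haveI := hRn
        obtain ⟨n', hn'⟩ := Nat.sInf_mem
          (Set.range_nonempty fun n => Nat.card (derivedSeries ↥N₀ n))
        set D := derivedSeries ↥N₀ n' with hD
        haveI : D.Characteristic := derivedSeries_characteristic _ _
        set P := D.map N₀.subtype with hP
        haveI hPn : P.Normal := inferInstance
        have hPp : commutator ↥P = ⊤ := by
          apply Subgroup.map_injective P.subtype_injective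
          rw [Subgroup.map_subtype_commutator, ← MonoidHom.range_eq_map, Subgroup.range_subtype, hP,
            ← Subgroup.map_commutator, hD, ← derivedSeries_succ]
          congr 1
          exact Subgroup.eq_of_le_of_card_ge (derivedSeries_antitone _ (Nat.le_succ n'))
            (hn'.le.trans (Nat.sInf_le ⟨n' + 1, rfl⟩))
        have hPlt : Nat.card P < Nat.card G := lt_of_le_of_lt
          (card_le_of_le (map_subtype_le D)) (lt_of_le_of_ne N₀.card_le_card_group
            fun e1 => hN₀t (card_eq_iff_eq_top _ |>.1 e1))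
        obtain ⟨i, hi⟩ := relIndex_pow hK P
        have h1 := ih _ hPlt (absyl_subgroup hAb P) hPp (K := K.subgroupOf P) hi rfl
        refine ⟨P, hPn, fun h => hsol ⟨n', ?_⟩, fun h => hN₀t (top_le_iff.1 (h ▸ map_subtype_le _)),
          fun x hx => by
            have : (⟨x, hx⟩ : ↥P) ∈ K.subgroupOf P := by rw [h1]; exact mem_top _
            exact this⟩
        rwa [hP, Subgroup.map_eq_bot_iff_of_injective _ N₀.subtype_injective] at h
    haveI := hNn
    have hlt : Nat.card (G ⧸ N) < Nat.card G := by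
      rw [← index_eq_card]
      have h1 := N.card_mul_index
      have h2 : 1 < Nat.card N := N.one_lt_card_iff_ne_bot.2 hNb
      have h3 : 0 < N.index := Nat.pos_of_ne_zero index_ne_zero_of_finite
      nlinarith
    have hperf' : commutator (G ⧸ N) = ⊤ := by
      have h1 := Subgroup.map_commutator (⊤ : Subgroup G) ⊤ (QuotientGroup.mk' N)
      rw [Subgroup.map_top_of_surjective _ (QuotientGroup.mk'_surjective N)] at h1
      rw [_root_.commutator_def, ← h1, ← _root_.commutator_def, hperf,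
        Subgroup.map_top_of_surjective _ (QuotientGroup.mk'_surjective N)]
    have hidx : (K.map (QuotientGroup.mk' N)).index = 2 ^ e := by
      rw [index_map_eq _ (QuotientGroup.mk'_surjective N) (by rwa [QuotientGroup.ker_mk']), hK]
    have h1 := ih _ hlt (absyl_quotient hAb N) hperf' hidx rfl
    refine hKne ?_
    have h2 := congrArg (Subgroup.comap (QuotientGroup.mk' N)) h1
    rwa [comap_top, comap_map_eq_self (by rwa [QuotientGroup.ker_mk'])] at h2

end CfsgLib.FTApps.AbelianSylowIndex
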