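import Cfsg.Agent.Lib.FTApps.PiSeparable
import Cfsg.Agent.S4309
import Cfsg.Prelude.Def_HallClasses

/-! `C_π` is closed under extensions, given FT. -/

namespace CfsgLib.FTApps

universe u

open Subgroup

variable {G : Type u} [Group G] [Finite G] {π : Set ℕ}

/-- The three-step chain of a subgroup normalising a Hall subgroup of `A`. -/
theorem piChain_of_normalizer (A H₀ X : Subgroup G) [A.Normal] (hH : H₀ ≤ A)
    (hHπ : PiNum π (Nat.card H₀)) (hHi : ∀ q : ℕ, q.Prime → q ∈ π → ¬ q ∣ H₀.relIndex A)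
    (hle : H₀ ≤ X) (hXN : X ≤ normalizer (H₀ : Set G))
    (hQ : PiNum π (A.relIndex X)) : PiChain π X := by
  have h0 : (H₀.subgroupOf X).Normal := (normal_subgroupOf_iff_le_normalizer hle).2 hXN
  have h1 : (A.subgroupOf X).Normal := inferInstance
  refine ⟨3, ![⊥, H₀.subgroupOf X, A.subgroupOf X, ⊤], rfl, rfl, ?_, ?_, ?_⟩
  · refine Fin.monotone_iff_le_succ.2 fun i => ?_
    fin_cases i
    · exact bot_le
    · exact fun x hx => hH hx
    · exact le_top
  · intro i
    fin_cases i
    · exact (inferInstance : (⊥ : Subgroup X).Normal)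
    · exact h0
    · exact h1
    · exact (inferInstance : (⊤ : Subgroup X).Normal)
  · intro i
    fin_cases i
    · refine Or.inl fun q hq hd => hHπ q hq ?_
      change q ∣ (⊥ : Subgroup X).relIndex (H₀.subgroupOf X) at hd
      rw [relIndex_bot_left] at hd
      rwa [Nat.card_congr (subgroupOfEquivOfLe hle).toEquiv] at hd
    · refine Or.inr fun q hq hd hπ => hHi q hq hπ ?_
      change q ∣ (H₀.subgroupOf X).relIndex (A.subgroupOf X) at hd
      have e : (H₀.subgroupOf X).relIndex (A.subgroupOf X) = H₀.relIndex (A ⊓ X) := by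
        rw [← inf_subgroupOf_right A X, relIndex_subgroupOf inf_le_right]
      rw [e] at hd
      refine hd.trans ?_
      rw [← relIndex_mul_relIndex H₀ (A ⊓ X) A (le_inf hH hle) inf_le_left]
      exact dvd_mul_right _ _
    · refine Or.inl fun q hq hd => hQ q hq ?_
      change q ∣ (A.subgroupOf X).relIndex ⊤ at hd
      rwa [relIndex_top_right] at hd

/-- The statement of S4310, given FT. -/
theorem cPi_extension (hFT : OddSolvable.{u}) (π : Set ℕ) (A : Subgroup G) [A.Normal]
    (hA : Cfsg.IsCPiGroup π ↥A) (hQ : Cfsg.IsCPiGroup π (G ⧸ A)) : Cfsg.IsCPiGroup π G := by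
  set f := QuotientGroup.mk' A with hf
  have hfs : Function.Surjective f := QuotientGroup.mk'_surjective A
  obtain ⟨⟨H', hH'⟩, hconjA⟩ := hA
  set H₀ := H'.map A.subtype with hH₀
  have hH₀A : H₀ ≤ A := map_subtype_le _
  have hsub : H₀.subgroupOf A = H' := comap_map_eq_self_of_injective A.subtype_injective H'
  have hH₀π : PiNum π (Nat.card H₀) := fun q hq hd => hH'.1 q hq (by
    rwa [hH₀, card_map_of_injective A.subtype_injective] at hd)
  have hH₀i : ∀ q : ℕ, q.Prime → q ∈ π → ¬ q ∣ H₀.relIndex A := fun q hq hπ hd =>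
    hH'.2 q hq hπ (by rwa [relIndex, hsub] at hd)
  -- Hall subgroups of `A`, as subgroups of `G`, are conjugate to `H₀` by elements of `A`
  have hto : ∀ S : Subgroup G, S ≤ A → Cfsg.IsPiHall π (S.subgroupOf A) →
      ∃ a ∈ A, S.map (MulAut.conj a).toMonoidHom = H₀ := by
    intro S hSA hS
    obtain ⟨a, ha⟩ := hconjA _ _ hS hH'
    refine ⟨a, a.2, ?_⟩
    rw [hH₀, ha, map_map]
    conv_lhs => rw [← map_subgroupOf_eq_of_le hSA, map_map]
    congr 1
  set N := normalizer (H₀ : Set G) with hN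
  have hAN : ∀ g : G, ∃ a ∈ A, a * g ∈ N := by
    intro g
    set S := H₀.map (MulAut.conj g).toMonoidHom with hS
    have hSA : S ≤ A := by
      rintro _ ⟨x, hx, rfl⟩
      exact ‹A.Normal›.conj_mem x (hH₀A hx) g
    have hAg : A.map (MulAut.conj g).toMonoidHom = A := Normal.map_conj_eq A g
    obtain ⟨a, haA, ha⟩ := hto S hSA ⟨fun q hq hd => hH₀π q hq (by
        rwa [Nat.card_congr (subgroupOfEquivOfLe hSA).toEquiv, hS,
          CfsgLib.Coprime.card_conj_map] at hd), fun q hq hπ hd => hH₀i q hq hπ (by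
        change q ∣ S.relIndex A at hd
        rw [← relIndex_map_map_of_injective H₀ A
          (f := (MulAut.conj g).toMonoidHom) (MulAut.conj g).injective, hAg]
        exact hd)⟩
    refine ⟨a, haA, ?_⟩
    rw [hS, CfsgLib.Coprime.conj_map_map] at ha
    exact CfsgLib.Coprime.mem_normalizer_of_conj_map_le (CfsgLib.Coprime.conj_map_le_iff.1 ha.le)
  -- the subgroup over a Hall subgroup of the quotient
  have hX : ∀ Kb : Subgroup (G ⧸ A), Cfsg.IsPiHall π Kb →
      PiChain π ↥(N ⊓ Kb.comap f) ∧ ∀ q : ℕ, q.Prime → q ∈ π → ¬ q ∣ (N ⊓ Kb.comap f).index := by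
    intro Kb hKb
    set X := N ⊓ Kb.comap f with hXd
    have hle : H₀ ≤ X := le_inf le_normalizer fun x hx => by
      rw [mem_comap, show f x = 1 from (QuotientGroup.eq_one_iff x).2 (hH₀A hx)]
      exact one_mem _
    have hmap : X.map f = Kb := by
      refine le_antisymm (map_le_iff_le_comap.2 inf_le_right) fun k hk => ?_
      obtain ⟨g, rfl⟩ := hfs k
      obtain ⟨a, ha, hag⟩ := hAN g
      have hfa : f (a * g) = f g := by
        rw [map_mul, show f a = 1 from (QuotientGroup.eq_one_iff a).2 ha, one_mul]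
      exact ⟨a * g, ⟨hag, show f (a * g) ∈ Kb by rw [hfa]; exact hk⟩, hfa⟩
    have hrel : A.relIndex X = Nat.card Kb := by
      rw [← hmap, hf, ← relIndex_ker, QuotientGroup.ker_mk']
    refine ⟨piChain_of_normalizer A H₀ X hH₀A hH₀π hH₀i hle inf_le_left
      (fun q hq hd => hKb.1 q hq (hrel ▸ hd)), fun q hq hπ hd => ?_⟩
    -- `[G : X] = [G/A : Kb] [A : A ⊓ X]`
    have h1 : X.index * A.relIndex X = (A ⊓ X).index := by
      rw [← inf_relIndex_right A X, mul_comm, relIndex_mul_index inf_le_right]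
    have h2 : (A ⊓ X).relIndex A * A.index = (A ⊓ X).index := relIndex_mul_index inf_le_left
    have h4 : A.index = Kb.index * Nat.card Kb := by
      rw [mul_comm, Kb.card_mul_index, ← index_eq_card]
    rw [hrel, ← h2, h4, ← mul_assoc] at h1
    rw [Nat.eq_of_mul_eq_mul_right Nat.card_pos h1] at hd
    refine (hq.dvd_mul.1 hd).elim (fun h => hH₀i q hq hπ (h.trans ?_)) (hKb.2 q hq hπ)
    rw [← relIndex_mul_relIndex H₀ (A ⊓ X) A (le_inf hH₀A hle) inf_le_left]
    exact dvd_mul_left _ _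
  refine ⟨?_, fun K₁ K₂ h₁ h₂ => ?_⟩
  · obtain ⟨Kb, hKb⟩ := hQ.1
    obtain ⟨hch, hidx⟩ := hX Kb hKb
    obtain ⟨⟨K, hK⟩, -⟩ := hall_of_piSeparable hFT π hch
    refine ⟨K.map (N ⊓ Kb.comap f).subtype, fun q hq hd => hK.1 q hq (by
      rwa [card_map_of_injective (subtype_injective _)] at hd), fun q hq hπ hd => ?_⟩
    rw [index_map_subtype] at hd
    exact (hq.dvd_mul.1 hd).elim (hK.2 q hq hπ) (hidx q hq hπ)
  · -- move a Hall subgroup into `N`
    have hmove : ∀ K : Subgroup G, Cfsg.IsPiHall π K → ∃ a : G,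
        Cfsg.IsPiHall π (K.map (MulAut.conj a).toMonoidHom) ∧
          K.map (MulAut.conj a).toMonoidHom ≤ N := by
      intro K hK
      obtain ⟨a, -, ha⟩ := hto (K ⊓ A) inf_le_right (Cfsg.Agent.S4309.result π K A hK).1
      refine ⟨a, isPiHall_map _ (MulAut.conj a).surjective hK, ?_⟩
      have hnorm : K ≤ normalizer ((K ⊓ A : Subgroup G) : Set G) := fun k hk => by
        refine mem_normalizer_iff.2 fun x => ?_
        constructor
        · exact fun hx => ⟨mul_mem (mul_mem hk hx.1) (Subgroup.inv_mem _ hk),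
            ‹A.Normal›.conj_mem x hx.2 k⟩
        · intro hx
          refine ⟨?_, ?_⟩
          · have := mul_mem (mul_mem (inv_mem hk) (mem_inf.1 hx).1) hk
            simpa [mul_assoc] using this
          · have := ‹A.Normal›.conj_mem _ (mem_inf.1 hx).2 k⁻¹
            simpa [mul_assoc] using this
      have h1 : K.map (MulAut.conj a).toMonoidHom ≤
          (normalizer ((K ⊓ A : Subgroup G) : Set G)).map (MulAut.conj a).toMonoidHom :=
        map_mono hnorm
      rwa [map_equiv_normalizer_eq, ha] at h1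
    obtain ⟨a₁, hL₁, hL₁N⟩ := hmove K₁ h₁
    obtain ⟨a₂, hL₂, hL₂N⟩ := hmove K₂ h₂
    set L₁ := K₁.map (MulAut.conj a₁).toMonoidHom with hL₁d
    set L₂ := K₂.map (MulAut.conj a₂).toMonoidHom with hL₂d
    obtain ⟨gb, hgb⟩ := hQ.2 _ _ (isPiHall_map f hfs hL₁) (isPiHall_map f hfs hL₂)
    obtain ⟨g₀, rfl⟩ := hfs gb
    obtain ⟨a, ha, hag⟩ := hAN g₀
    set g := a * g₀ with hg
    set L := L₁.map (MulAut.conj g).toMonoidHom with hLd
    have hLN : L ≤ N := by
      rintro _ ⟨x, hx, rfl⟩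
      exact mul_mem (mul_mem hag (hL₁N hx)) (inv_mem hag)
    have hLf : L.map f = L₂.map f := by
      have hfa : f a = 1 := (QuotientGroup.eq_one_iff a).2 ha
      have hcomp : f.comp (MulAut.conj g).toMonoidHom =
          (MulAut.conj (f g₀)).toMonoidHom.comp f := by
        ext x
        simp [hg, hfa]
      rw [hLd, map_map, hcomp, ← map_map, ← hgb]
    set Kb := L₂.map f with hKbd
    have hKb : Cfsg.IsPiHall π Kb := isPiHall_map f hfs hL₂
    set X := N ⊓ Kb.comap f with hXd
    have hin : ∀ S : Subgroup G, S ≤ N → S.map f = Kb → Cfsg.IsPiHall π S →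
        S ≤ X ∧ Cfsg.IsPiHall π (S.subgroupOf X) := by
      intro S hSN hSf hS
      have hSX : S ≤ X := le_inf hSN fun x hx =>
        show f x ∈ Kb from hSf ▸ ⟨x, hx, rfl⟩
      refine ⟨hSX, fun q hq hd => hS.1 q hq (by
        rwa [Nat.card_congr (subgroupOfEquivOfLe hSX).toEquiv] at hd),
        fun q hq hπ hd => hS.2 q hq hπ (hd.trans (relIndex_dvd_index_of_le hSX))⟩
    obtain ⟨hLX, hLh⟩ := hin L hLN hLf (isPiHall_map _ (MulAut.conj g).surjective hL₁)
    obtain ⟨hL₂X, hL₂h⟩ := hin L₂ hL₂N rfl hL₂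
    obtain ⟨x, hx⟩ := (hall_of_piSeparable hFT π (hX Kb hKb).1).2.1 _ _ hLh hL₂h
    have e : L.map (MulAut.conj (x : G)).toMonoidHom = L₂ := by
      calc L.map (MulAut.conj (x : G)).toMonoidHom
          = ((L.subgroupOf X).map X.subtype).map (MulAut.conj (x : G)).toMonoidHom :=
            congrArg (Subgroup.map _) (map_subgroupOf_eq_of_le hLX).symm
        _ = ((L.subgroupOf X).map (MulAut.conj x).toMonoidHom).map X.subtype := by
            rw [map_map, map_map]; congr 1
        _ = L₂ := by rw [← hx, map_subgroupOf_eq_of_le hL₂X]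
    refine ⟨a₂⁻¹ * (x : G) * g * a₁, ?_⟩
    have e2 : K₂ = L₂.map (MulAut.conj a₂⁻¹).toMonoidHom := by
      rw [hL₂d, CfsgLib.Coprime.conj_map_map, inv_mul_cancel]
      ext y; simp
    rw [e2, ← e, hLd, hL₁d, CfsgLib.Coprime.conj_map_map, CfsgLib.Coprime.conj_map_map,
      CfsgLib.Coprime.conj_map_map]

end CfsgLib.FTApps
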