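import Cfsg.Agent.Lib.FTApps.Basic
import Cfsg.Agent.Lib.Involution.BaerSuzuki
import Cfsg.Agent.Lib.Coprime.SchurZassenhaus

/-! If no subgroup has two coprime noncentral class sizes, the group is solvable (given FT). -/

namespace CfsgLib.FTApps

universe u

variable {G : Type u} [Group G] [Finite G]

/-- A 2-element inverting an element of odd prime order gives two coprime class sizes. -/
theorem coprime_classes {p k : ℕ} (hp : p.Prime) (hp2 : p ≠ 2) {u t : G} (hu : orderOf u = p)
    (ht : orderOf t = 2 ^ k) (htu : t * u * t⁻¹ = u⁻¹) :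
    ∃ (H : Subgroup G) (x y : H), 1 < (Subgroup.centralizer ({x} : Set H)).index ∧
      1 < (Subgroup.centralizer ({y} : Set H)).index ∧
      ((Subgroup.centralizer ({x} : Set H)).index).Coprime
        (Subgroup.centralizer ({y} : Set H)).index := by
  classical
  set U := Subgroup.zpowers u
  set T := Subgroup.zpowers t
  have hTU : T ≤ Subgroup.normalizer (U : Set G) := by
    rw [Subgroup.zpowers_le]
    refine CfsgLib.Coprime.mem_normalizer_of_conj_map_le (CfsgLib.Coprime.conj_map_le_iff.1 ?_)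
    rw [MonoidHom.map_zpowers, Subgroup.zpowers_le]
    have : (MulAut.conj t).toMonoidHom u = u⁻¹ := htu
    rw [this]; exact inv_mem (Subgroup.mem_zpowers u)
  set H := U ⊔ T with hH
  let x : H := ⟨u, Subgroup.mem_sup_left (Subgroup.mem_zpowers u)⟩
  let y : H := ⟨t, Subgroup.mem_sup_right (Subgroup.mem_zpowers t)⟩
  have hcop : p.Coprime (2 ^ k) :=
    Nat.Coprime.pow_right _ ((Nat.coprime_primes hp Nat.prime_two).2 hp2)
  have hdvd : Nat.card H ∣ p * 2 ^ k := by
    have hc := CfsgLib.Coprime.card_sup_of_le_normalizer hTU (by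
      rw [disjoint_iff]
      exact (Subgroup.disjoint_of_coprime_natCard
        (by rwa [Nat.card_zpowers, Nat.card_zpowers, hu, ht])).eq_bot)
    rw [hc, Nat.card_zpowers, Nat.card_zpowers, hu, ht]
  have hne : x * y ≠ y * x := by
    intro he
    have h1 : u * t = t * u := congrArg Subtype.val he
    have h2 : u = u⁻¹ := by
      calc u = t * u * t⁻¹ := by rw [← h1]; group
        _ = u⁻¹ := htu
    have h3 : u ^ 2 = 1 := by rw [pow_two]; nth_rw 1 [h2]; group
    have h4 : orderOf u ∣ 2 := orderOf_dvd_of_pow_eq_one h3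
    rw [hu] at h4
    exact hp2 ((Nat.prime_dvd_prime_iff_eq hp Nat.prime_two).1 h4)
  have hgt : ∀ z w : H, z * w ≠ w * z → 1 < (Subgroup.centralizer ({z} : Set H)).index := by
    intro z w h
    have h0 : (Subgroup.centralizer ({z} : Set H)).index ≠ 0 := Subgroup.FiniteIndex.index_ne_zero
    have h1 : (Subgroup.centralizer ({z} : Set H)).index ≠ 1 := fun e => by
      rw [Subgroup.index_eq_one] at e
      exact h (Subgroup.mem_centralizer_singleton_iff.1 (e ▸ Subgroup.mem_top w)).symm
    omega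
  have hdiv : ∀ z : H, orderOf z * (Subgroup.centralizer ({z} : Set H)).index ∣ Nat.card H := by
    intro z
    rw [← Subgroup.card_mul_index (Subgroup.centralizer ({z} : Set H))]
    refine mul_dvd_mul_right ?_ _
    rw [← Nat.card_zpowers]
    exact Subgroup.card_dvd_of_le (Subgroup.zpowers_le.2
      (Subgroup.mem_centralizer_singleton_iff.2 rfl))
  refine ⟨H, x, y, hgt x y hne, hgt y x (fun e => hne e.symm), ?_⟩
  have hx : (Subgroup.centralizer ({x} : Set H)).index ∣ 2 ^ k := by
    have := (hdiv x).trans hdvd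
    rw [← Subgroup.orderOf_coe x, show (x : G) = u from rfl, hu] at this
    exact Nat.dvd_of_mul_dvd_mul_left hp.pos this
  have hy : (Subgroup.centralizer ({y} : Set H)).index ∣ p := by
    have := (hdiv y).trans hdvd
    rw [← Subgroup.orderOf_coe y, show (y : G) = t from rfl, ht, mul_comm p] at this
    exact Nat.dvd_of_mul_dvd_mul_left (by positivity) this
  exact (hcop.symm.coprime_dvd_left hx).coprime_dvd_right hy

/-- The 2-part of an element acting as an involution modulo `N`, and a lift of an inverted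
element of odd prime order. -/
theorem exists_lift_inverted (N : Subgroup G) [N.Normal] (hN : IsPGroup 2 N) {p : ℕ}
    (hp : p.Prime) (hp2 : p ≠ 2) {x h : G ⧸ N} (hx : x * x = 1) (hh : orderOf h = p)
    (hxh : x * h * x⁻¹ = h⁻¹) :
    ∃ (u t : G) (k : ℕ), orderOf u = p ∧ orderOf t = 2 ^ k ∧ t * u * t⁻¹ = u⁻¹ := by
  classical
  haveI : Fact p.Prime := ⟨hp⟩
  haveI : Fact (Nat.Prime 2) := ⟨Nat.prime_two⟩
  set f := QuotientGroup.mk' N with hf
  obtain ⟨t0, rfl⟩ := QuotientGroup.mk'_surjective N x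
  obtain ⟨h0, rfl⟩ := QuotientGroup.mk'_surjective N h
  obtain ⟨a, ha⟩ := IsPGroup.iff_card.1 hN
  have hpow : h0 ^ p ∈ N := by
    rw [← QuotientGroup.eq_one_iff]
    have := pow_orderOf_eq_one (f h0)
    rw [hh, ← map_pow] at this
    exact this
  set u := h0 ^ 2 ^ a with hu
  have hup : u ^ p = 1 := by
    have := pow_card_eq_one' (G := N) (x := ⟨h0 ^ p, hpow⟩)
    rw [ha] at this
    have h1 : (h0 ^ p) ^ 2 ^ a = 1 := congrArg Subtype.val this
    rw [hu, ← pow_mul, mul_comm, pow_mul]; exact h1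
  have hcop : (2 ^ a).Coprime p := Nat.Coprime.pow_left _
    ((Nat.coprime_primes Nat.prime_two hp).2 hp2.symm)
  have hfu : f u ≠ 1 := by
    rw [hu, map_pow]
    intro e
    have : p ∣ 2 ^ a := hh ▸ orderOf_dvd_of_pow_eq_one e
    exact hp.ne_one (Nat.eq_one_of_dvd_coprimes hcop this dvd_rfl)
  have hou : orderOf u = p := orderOf_eq_prime hup fun e => hfu (by rw [e, map_one])
  have hinv : f t0 * f u * (f t0)⁻¹ = (f u)⁻¹ := by
    rw [hu, map_pow]
    rw [← conj_pow, hxh, inv_pow]
  set U := Subgroup.zpowers u with hU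
  set U' := U.map (MulAut.conj t0).toMonoidHom with hU'
  have hle : U' ≤ N ⊔ U := by
    rw [hU', hU, MonoidHom.map_zpowers, Subgroup.zpowers_le]
    have h1 : (t0 * u * t0⁻¹) * u ∈ N := by
      rw [← QuotientGroup.eq_one_iff]
      change f ((t0 * u * t0⁻¹) * u) = 1
      rw [map_mul, map_mul, map_mul, map_inv, hinv, inv_mul_cancel]
    have h2 : (MulAut.conj t0).toMonoidHom u = ((t0 * u * t0⁻¹) * u) * u⁻¹ := by
      simp [mul_assoc]
    rw [h2]
    exact Subgroup.mul_mem_sup h1 (inv_mem (Subgroup.mem_zpowers u))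
  have hcard : Nat.card U' = Nat.card U := CfsgLib.Coprime.card_conj_map U t0
  obtain ⟨n, hn, hconj⟩ := CfsgLib.Coprime.exists_conj_eq (N := N) (H := U') (K := U)
    (Or.inl (by haveI := hN.isNilpotent; infer_instance))
    (by rw [Subgroup.normalizer_eq_top_iff.2 ‹N.Normal›]; exact le_top)
    (by rw [Subgroup.normalizer_eq_top_iff.2 ‹N.Normal›]; exact le_top) hle hcard
    (by rw [hcard, Nat.card_zpowers, hou, ha]; exact hcop)
  rw [hU', CfsgLib.Coprime.conj_map_map] at hconj
  set s := n * t0 with hs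
  obtain ⟨k, m, hm, hkm⟩ := Nat.exists_eq_two_pow_mul_odd (orderOf_pos s).ne'
  refine ⟨u, s ^ m, k, hou, ?_, ?_⟩
  · rw [orderOf_pow' _ (by rintro rfl; exact absurd hm (by decide)), hkm,
      Nat.gcd_eq_right (Dvd.intro_left _ rfl), Nat.mul_div_cancel _ hm.pos]
  · have hsU : s ^ m ∈ Subgroup.normalizer (U : Set G) :=
      pow_mem (CfsgLib.Coprime.mem_normalizer_of_conj_map_le (CfsgLib.Coprime.conj_map_le_iff.1 hconj.le)) m
    have hmem : s ^ m * u * (s ^ m)⁻¹ ∈ U :=
      (Subgroup.mem_normalizer_iff.1 hsU u).1 (Subgroup.mem_zpowers u)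
    have hfs : f (s ^ m) = f t0 := by
      rw [map_pow, hs, map_mul,
        show f n = 1 from (QuotientGroup.eq_one_iff n).2 hn, one_mul]
      obtain ⟨j, rfl⟩ := hm
      rw [pow_succ, pow_mul, pow_two, hx, one_pow, one_mul]
    obtain ⟨j, hj⟩ := Subgroup.mem_zpowers_iff.1 hmem
    have hfj : (f u) ^ (j + 1) = 1 := by
      rw [zpow_add_one, ← map_zpow, hj, map_mul, map_mul, map_inv, hfs, hinv, inv_mul_cancel]
    have hof : orderOf (f u) = p := orderOf_eq_prime (by rw [← map_pow, hup, map_one]) hfu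
    have : u ^ (j + 1) = 1 := by
      rw [← orderOf_dvd_iff_zpow_eq_one, hou, ← hof]
      exact orderOf_dvd_iff_zpow_eq_one.2 hfj
    rw [← hj, ← mul_eq_one_iff_eq_inv, ← zpow_add_one]
    exact this

/-- If no subgroup has two coprime noncentral class sizes, the group is solvable. -/
theorem solvable_of_class_sizes (hFT : OddSolvable.{u})
    (h : ∀ (H : Subgroup G) (x y : H), 1 < (Subgroup.centralizer ({x} : Set H)).index →
      1 < (Subgroup.centralizer ({y} : Set H)).index →
      ¬ ((Subgroup.centralizer ({x} : Set H)).index).Coprime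
        (Subgroup.centralizer ({y} : Set H)).index) : Group.IsSolvable G := by
  haveI : Fact (Nat.Prime 2) := ⟨Nat.prime_two⟩
  obtain ⟨N, ⟨hNn, hN⟩, hmax⟩ := Set.Finite.exists_maximal
    (s := {N : Subgroup G | N.Normal ∧ IsPGroup 2 N}) (Set.toFinite _)
    ⟨⊥, inferInstance, IsPGroup.of_bot⟩
  haveI := hNn
  refine isSolvable_of_odd_index hFT N (by haveI := hN.isNilpotent; infer_instance) ?_
  by_contra hodd
  rw [Nat.not_odd_iff_even, even_iff_two_dvd, Subgroup.index_eq_card] at hodd
  obtain ⟨x, hx⟩ := exists_prime_orderOf_dvd_card' 2 hodd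
  obtain ⟨h', hh1, hh2, hxh⟩ := CfsgLib.Involution.BaerSuzuki.exists_inverted_odd x hx
    fun M hMn hM hxM => by
      have h1 : (M.comap (QuotientGroup.mk' N)).Normal := hMn.comap _
      have h2 : IsPGroup 2 (M.comap (QuotientGroup.mk' N)) :=
        hM.comap_of_ker_isPGroup _ (by rwa [QuotientGroup.ker_mk'])
      have hle : N ≤ M.comap (QuotientGroup.mk' N) := fun g hg => by
        rw [Subgroup.mem_comap, QuotientGroup.mk'_apply, (QuotientGroup.eq_one_iff g).2 hg]
        exact one_mem _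
      obtain ⟨g, rfl⟩ := QuotientGroup.mk'_surjective N x
      have hgN : g ∈ N := hmax ⟨h1, h2⟩ hle hxM
      rw [QuotientGroup.mk'_apply, (QuotientGroup.eq_one_iff g).2 hgN, orderOf_one] at hx
      exact absurd hx (by decide)
  have hne : orderOf h' ≠ 1 := fun e => hh1 (orderOf_eq_one_iff.1 e)
  obtain ⟨p, hp, hpd⟩ := Nat.exists_prime_and_dvd hne
  have hp2 : p ≠ 2 := by
    rintro rfl
    exact (Nat.not_even_iff_odd.2 hh2) (even_iff_two_dvd.2 hpd)
  obtain ⟨u, t, k, hu, ht, htu⟩ := exists_lift_inverted N hN hp hp2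
    (x := x) (h := h' ^ (orderOf h' / p))
    (by have := pow_orderOf_eq_one x; rwa [hx, pow_two] at this)
    (orderOf_pow_orderOf_div (orderOf_pos h').ne' hpd)
    (by rw [← conj_pow, hxh, inv_pow])
  obtain ⟨H, a, b, ha, hb, hab⟩ := coprime_classes hp hp2 hu ht htu
  exact h H a b ha hb hab

end CfsgLib.FTApps
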