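import Cfsg.Agent.Lib.Coprime.Generation
import Cfsg.Agent.Lib.Coprime.Abelian
import Cfsg.Agent.Lib.FTApps.Basic

/-! Generation of `C_Y(B)` by the `C_Y(B) ∩ [C_Y(B₀), A]` for `Y = [Y, A]` solvable, coprime. -/

namespace CfsgLib.FTApps.FixedGen

universe u

open Subgroup CfsgLib.Coprime
open scoped commutatorElement

variable {X : Type*} [Group X]

/-- The subgroups `B₀ ≤ B` with `B / B₀` cyclic. -/
abbrev Cocyclic (B : Subgroup X) : Type _ :=
  {B₀ : Subgroup X // B₀ ≤ B ∧ ∃ b ∈ B, B₀ ⊔ zpowers b = B}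

/-- The subgroup generated by the `C_Y(B) ∩ [C_Y(B₀), A]`. -/
def gen (A B Y : Subgroup X) : Subgroup X :=
  ⨆ B₀ : Cocyclic B,
    Y ⊓ centralizer (B : Set X) ⊓ ⁅Y ⊓ centralizer ((B₀ : Subgroup X) : Set X), A⁆

theorem gen_le (A B Y : Subgroup X) : gen A B Y ≤ Y ⊓ centralizer (B : Set X) :=
  iSup_le fun _ => inf_le_left

theorem piece_le_gen {A B Y : Subgroup X} (B₀ : Cocyclic B) :
    Y ⊓ centralizer (B : Set X) ⊓ ⁅Y ⊓ centralizer ((B₀ : Subgroup X) : Set X), A⁆ ≤ gen A B Y :=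
  le_iSup (fun B₀ : Cocyclic B =>
    Y ⊓ centralizer (B : Set X) ⊓ ⁅Y ⊓ centralizer ((B₀ : Subgroup X) : Set X), A⁆) B₀

theorem gen_mono {A B Y Y' : Subgroup X} (h : Y ≤ Y') : gen A B Y ≤ gen A B Y' :=
  iSup_le fun B₀ => (inf_le_inf (inf_le_inf_right _ h)
    (commutator_mono (inf_le_inf_right _ h) le_rfl)).trans (piece_le_gen B₀)

/-- `A` normalises `Y ∩ C(S)` for `S ≤ A` abelian. -/
theorem le_normalizer_inf_centralizer {A Y S : Subgroup X} (hAc : IsMulCommutative A)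
    (hAY : A ≤ normalizer (Y : Set X)) (hS : S ≤ A) :
    A ≤ normalizer ((Y ⊓ centralizer (S : Set X) : Subgroup X) : Set X) := by
  have h1 : A ≤ centralizer (S : Set X) := fun a ha => mem_centralizer_iff.2 fun s hs =>
    setLike_mul_comm (hS hs) ha
  exact le_normalizer_inf hAY (h1.trans le_normalizer)
where
  le_normalizer_inf {H K L : Subgroup X} (h1 : H ≤ normalizer (K : Set X))
      (h2 : H ≤ normalizer (L : Set X)) : H ≤ normalizer ((K ⊓ L : Subgroup X) : Set X) := by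
    intro g hg
    refine mem_normalizer_iff.2 fun x => ?_
    rw [mem_inf, mem_inf, mem_normalizer_iff.1 (h1 hg) x, mem_normalizer_iff.1 (h2 hg) x]

variable [Finite X]

/-- `[C_Y(B), A]` is one of the generating pieces. -/
theorem commutator_fixed_le_gen {A B Y : Subgroup X} (hAc : IsMulCommutative A) (hB : B ≤ A)
    (hAY : A ≤ normalizer (Y : Set X)) : ⁅Y ⊓ centralizer (B : Set X), A⁆ ≤ gen A B Y := by
  refine le_trans (le_inf ?_ le_rfl) (piece_le_gen (⟨B, le_rfl, 1, one_mem _, ?_⟩ : Cocyclic B))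
  · exact le_normalizer_iff_commutator_le_left.1 (le_normalizer_inf_centralizer hAc hAY hB)
  · rw [zpowers_one_eq_bot, sup_bot_eq]

/-- A subgroup whose fixed points of `A` lie in `gen` has all its `B`-fixed points in `gen`. -/
theorem fixed_le_gen {A B Y N : Subgroup X} (hAc : IsMulCommutative A) (hB : B ≤ A)
    (hAY : A ≤ normalizer (Y : Set X)) (hcop : (Nat.card A).Coprime (Nat.card Y))
    (hAN : A ≤ normalizer (N : Set X)) (hNY : N ≤ Y)
    (h : N ⊓ centralizer (A : Set X) ≤ gen A B Y) :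
    N ⊓ centralizer (B : Set X) ≤ gen A B Y := by
  have hAs : Group.IsSolvable A := Group.isSolvable_of_comm fun a b => mul_comm' a b
  rw [← commutator_sup_centralizer (le_normalizer_inf_centralizer hAc hAN hB)
    (coprime_of_le hcop le_rfl (inf_le_left.trans hNY)) (.inl hAs)]
  refine sup_le ((commutator_mono (inf_le_inf_right _ hNY) le_rfl).trans
    (commutator_fixed_le_gen hAc hB hAY)) (le_trans ?_ h)
  exact inf_le_inf_right _ inf_le_left

/-- `Y = [Y, A]` is generated by the `[C_Y(B₀), A]`. -/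
theorem eq_iSup_commutator {A B Y : Subgroup X} (hAc : IsMulCommutative A) (hB : B ≤ A)
    (hAY : A ≤ normalizer (Y : Set X)) (hcop : (Nat.card A).Coprime (Nat.card Y))
    (hYA : ⁅Y, A⁆ = Y) :
    Y ≤ ⨆ B₀ : Cocyclic B, ⁅Y ⊓ centralizer ((B₀ : Subgroup X) : Set X), A⁆ := by
  have hAs : Group.IsSolvable A := Group.isSolvable_of_comm fun a b => mul_comm' a b
  have hBc : IsMulCommutative B :=
    ⟨⟨fun a b => Subtype.ext (setLike_mul_comm (hB a.2) (hB b.2))⟩⟩
  set K := ⨆ B₀ : Cocyclic B, ⁅Y ⊓ centralizer ((B₀ : Subgroup X) : Set X), A⁆ with hK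
  set C := Y ⊓ centralizer (A : Set X) with hC
  have hAK : A ≤ normalizer (K : Set X) := by
    refine le_normalizer_iff.2 fun a ha x hx => ?_
    have hmap : K.map (MulAut.conj a).toMonoidHom ≤ K := by
      rw [hK, Subgroup.map_iSup]
      exact iSup_le fun B₀ => (conj_map_le_iff.2 fun y hy =>
        le_normalizer_iff.1 (normalizer_commutator_ge_right _ _) a ha y hy).trans
          (le_iSup (fun B₀ : Cocyclic B => ⁅Y ⊓ centralizer ((B₀ : Subgroup X) : Set X), A⁆) B₀)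
    exact hmap ⟨x, hx, rfl⟩
  have hCK : C ≤ normalizer (K : Set X) := by
    refine le_normalizer_iff.2 fun c hc x hx => ?_
    have hmap : K.map (MulAut.conj c).toMonoidHom ≤ K := by
      rw [hK, Subgroup.map_iSup]
      exact iSup_le fun B₀ => (conj_map_le_iff.2 fun y hy => le_normalizer_iff.1
        (normalizer_commutator_ge_left _ _) c (mem_inf.2 ⟨hc.1, centralizer_le (B₀.2.1.trans hB) hc.2⟩) y hy).trans
          (le_iSup (fun B₀ : Cocyclic B => ⁅Y ⊓ centralizer ((B₀ : Subgroup X) : Set X), A⁆) B₀)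
    exact hmap ⟨x, hx, rfl⟩
  have hY : Y ≤ K ⊔ C := by
    have h1 := iSup_centralizer_of_cyclic_quotient (hA := hBc) (hB.trans hAY)
      (coprime_of_le hcop hB le_rfl)
    refine le_trans h1.ge (iSup₂_le fun B₀ hB₀ => ?_)
    rw [← commutator_sup_centralizer (le_normalizer_inf_centralizer hAc hAY (hB₀.1.trans hB))
      (coprime_of_le hcop le_rfl inf_le_left) (.inl hAs)]
    exact sup_le ((le_iSup (fun B₀ : Cocyclic B => ⁅Y ⊓ centralizer ((B₀ : Subgroup X) : Set X), A⁆)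
      ⟨B₀, hB₀⟩).trans le_sup_left) ((inf_le_inf_right _ inf_le_left).trans le_sup_right)
  conv_lhs => rw [← hYA]
  refine commutator_le.2 fun y hy a ha => ?_
  obtain ⟨k, hk, c, hc, rfl⟩ := (mem_sup_of_le_normalizer hCK).1 (hY hy)
  have hca : c * a = a * c := (mem_centralizer_iff.1 hc.2 a ha).symm
  have e : ⁅k * c, a⁆ = k * (a * k⁻¹ * a⁻¹) := by
    rw [commutatorElement_def]
    calc k * c * a * (k * c)⁻¹ * a⁻¹ = k * (c * a) * c⁻¹ * k⁻¹ * a⁻¹ := by group
      _ = k * (a * c) * c⁻¹ * k⁻¹ * a⁻¹ := by rw [hca]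
      _ = k * (a * k⁻¹ * a⁻¹) := by group
  rw [e]
  exact mul_mem hk (le_normalizer_iff.1 hAK a ha _ (inv_mem hk))

/-- If `[Z, Y]` commutes with `Z`, its fixed points lie in `gen`. -/
theorem key {A B Y Z : Subgroup X} (hAc : IsMulCommutative A) (hB : B ≤ A)
    (hAY : A ≤ normalizer (Y : Set X)) (hcop : (Nat.card A).Coprime (Nat.card Y))
    (hYA : ⁅Y, A⁆ = Y) (hZY : Z ≤ Y) (hYZ : Y ≤ normalizer (Z : Set X))
    (hAZ : A ≤ normalizer (Z : Set X))
    (hcomm : ∀ m ∈ ⁅Z, Y⁆, ∀ z ∈ Z, m * z = z * m) :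
    ⁅Z, Y⁆ ⊓ centralizer (B : Set X) ≤ gen A B Y := by
  have hAs : Group.IsSolvable A := Group.isSolvable_of_comm fun a b => mul_comm' a b
  set M := ⁅Z, Y⁆ with hM
  have hMZ : M ≤ Z := le_normalizer_iff_commutator_le_left.1 hYZ
  have hMY : M ≤ Y := hMZ.trans hZY
  have hAM : A ≤ normalizer (M : Set X) := by
    refine le_normalizer_iff.2 fun a ha x hx => ?_
    have hmap : M.map (MulAut.conj a).toMonoidHom ≤ M := by
      rw [hM, map_commutator]
      exact commutator_mono (conj_map_le_iff.2 fun z hz => le_normalizer_iff.1 hAZ a ha z hz)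
        (conj_map_le_iff.2 fun y hy => le_normalizer_iff.1 hAY a ha y hy)
    exact hmap ⟨x, hx, rfl⟩
  have hMc : IsMulCommutative M := ⟨⟨fun a b => Subtype.ext (hcomm a a.2 b (hMZ b.2))⟩⟩
  refine fixed_le_gen hAc hB hAY hcop hAM hMY ?_
  set D := ⁅M, A⁆ ⊔ (gen A B Y ⊓ (M ⊓ centralizer (A : Set X))) with hD
  have hMA : ⁅M, A⁆ ≤ M := le_normalizer_iff_commutator_le_left.1 hAM
  have hDM : D ≤ M := sup_le hMA (inf_le_right.trans inf_le_left)
  have hmul : ∀ k ∈ Y, ∀ z ∈ Z, ∀ z' ∈ Z, ⁅z * z', k⁆ = ⁅z', k⁆ * ⁅z, k⁆ := by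
    intro k hk z hz z' hz'
    have h1 := hcomm _ (commutator_mem_commutator hz' hk) z hz
    calc ⁅z * z', k⁆ = z * ⁅z', k⁆ * z⁻¹ * ⁅z, k⁆ := by simp [commutatorElement_def, mul_assoc]
      _ = ⁅z', k⁆ * z * z⁻¹ * ⁅z, k⁆ := by rw [h1]
      _ = _ := by group
  -- commutators with the generators
  have hgenk : ∀ (B₀ : Cocyclic B), ∀ k ∈ ⁅Y ⊓ centralizer ((B₀ : Subgroup X) : Set X), A⁆,
      ∀ z ∈ Z, ⁅z, k⁆ ∈ D := by
    intro B₀ k hk z hz
    have hB₀A : (B₀ : Subgroup X) ≤ A := B₀.2.1.trans hB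
    set C₀ := Y ⊓ centralizer ((B₀ : Subgroup X) : Set X) with hC₀
    have hKC : ⁅C₀, A⁆ ≤ C₀ :=
      le_normalizer_iff_commutator_le_left.1 (le_normalizer_inf_centralizer hAc hAY hB₀A)
    have hkY : k ∈ Y := (hKC hk).1
    let T : Subgroup X :=
      { carrier := {z | z ∈ Z ∧ ⁅z, k⁆ ∈ D}
        one_mem' := ⟨one_mem _, by simp⟩
        mul_mem' := fun {a b} ha hb => ⟨mul_mem ha.1 hb.1, by
          rw [hmul k hkY a ha.1 b hb.1]; exact mul_mem hb.2 ha.2⟩
        inv_mem' := fun {a} ha => ⟨inv_mem ha.1, by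
          have h1 := hmul k hkY a ha.1 a⁻¹ (inv_mem ha.1)
          rw [mul_inv_cancel, commutatorElement_one_left] at h1
          rw [eq_inv_of_mul_eq_one_left h1.symm]
          exact inv_mem ha.2⟩ }
    suffices hT : Z ≤ T from (hT hz).2
    rw [← commutator_sup_centralizer (hB₀A.trans hAZ)
      (coprime_of_le hcop hB₀A hZY) (.inl (isSolvable_of_le hB₀A hAs))]
    refine sup_le (commutator_le.2 fun w hw b hb => ?_) fun w hw => ?_
    · have hb' : b * w⁻¹ * b⁻¹ ∈ Z := le_normalizer_iff.1 hAZ b (hB₀A hb) _ (inv_mem hw)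
      have e : ⁅w, b⁆ = w * (b * w⁻¹ * b⁻¹) := by simp [commutatorElement_def, mul_assoc]
      refine ⟨e ▸ mul_mem hw hb', ?_⟩
      have hbk : b * k = k * b := mem_centralizer_iff.1 (hKC hk).2 b hb
      have e2 : ⁅b * w⁻¹ * b⁻¹, k⁆ = b * ⁅w, k⁆⁻¹ * b⁻¹ := by
        have h1 := hmul k hkY w hw w⁻¹ (inv_mem hw)
        rw [mul_inv_cancel, commutatorElement_one_left] at h1
        rw [← eq_inv_of_mul_eq_one_left h1.symm]
        have h2 : b⁻¹ * k = k * b⁻¹ := by
          rw [inv_mul_eq_iff_eq_mul, ← mul_assoc, hbk, mul_inv_cancel_right]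
        simp only [commutatorElement_def, mul_inv_rev, inv_inv]
        calc b * w⁻¹ * b⁻¹ * k * (b * (w * b⁻¹)) * k⁻¹
            = b * w⁻¹ * (b⁻¹ * k) * b * w * b⁻¹ * k⁻¹ := by group
          _ = b * w⁻¹ * (k * b⁻¹) * b * w * b⁻¹ * k⁻¹ := by rw [h2]
          _ = b * w⁻¹ * k * w * (k * b)⁻¹ := by group
          _ = b * w⁻¹ * k * w * (b * k)⁻¹ := by rw [hbk]
          _ = b * (w⁻¹ * k * w * k⁻¹) * b⁻¹ := by group
      rw [e, hmul k hkY w hw _ hb', e2]
      have hm : ⁅w, k⁆ ∈ M := commutator_mem_commutator hw hkY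
      have hcm : b * ⁅w, k⁆⁻¹ * b⁻¹ * ⁅w, k⁆ = ⁅⁅w, k⁆, b⁆ := by
        have hin : b * ⁅w, k⁆⁻¹ * b⁻¹ ∈ M := le_normalizer_iff.1 hAM b (hB₀A hb) _ (inv_mem hm)
        rw [setLike_mul_comm hin hm, commutatorElement_def ⁅w, k⁆ b]
        group
      rw [hcm]
      exact mem_sup_left (commutator_mem_commutator hm (hB₀A hb))
    · refine ⟨hw.1, ?_⟩
      have hm : ⁅w, k⁆ ∈ M ⊓ ⁅C₀, A⁆ := by
        refine ⟨commutator_mem_commutator hw.1 hkY, ?_⟩
        have h1 := le_normalizer_iff.1 (normalizer_commutator_ge_left C₀ A) w ⟨hZY hw.1, hw.2⟩ k hk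
        rw [commutatorElement_def]
        exact mul_mem h1 (Subgroup.inv_mem _ hk)
      have hAI : A ≤ normalizer ((M ⊓ ⁅C₀, A⁆ : Subgroup X) : Set X) :=
        le_normalizer_inf_centralizer.le_normalizer_inf hAM (normalizer_commutator_ge_right C₀ A)
      have hle : M ⊓ ⁅C₀, A⁆ ≤ D := by
        rw [← commutator_sup_centralizer hAI (coprime_of_le hcop le_rfl (inf_le_left.trans hMY))
          (.inl hAs)]
        refine sup_le ((commutator_mono inf_le_left le_rfl).trans le_sup_left) ?_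
        refine le_trans (le_inf ?_ (inf_le_inf_right _ inf_le_left)) le_sup_right
        intro x hx
        exact piece_le_gen B₀ ⟨⟨hMY hx.1.1, centralizer_le hB hx.2⟩, hx.1.2⟩
      exact hle hm
  have hMD : M ≤ D := by
    refine commutator_le.2 fun z hz y hy => ?_
    revert z
    refine iSup_induction _ (C := fun y => ∀ z ∈ Z, ⁅z, y⁆ ∈ D)
      (eq_iSup_commutator hAc hB hAY hcop hYA hy) (fun B₀ k hk => hgenk B₀ k hk)
      (fun z _ => by simp) fun y y' ihy ihy' z hz => ?_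
    have hconj : y * ⁅z, y'⁆ * y⁻¹ = ⁅z, y'⁆ * ⁅(⁅z, y'⁆)⁻¹, y⁆ := by
      simp [commutatorElement_def, mul_assoc]
    have e : ⁅z, y * y'⁆ = ⁅z, y⁆ * (y * ⁅z, y'⁆ * y⁻¹) := by
      simp [commutatorElement_def, mul_assoc]
    rw [e, hconj]
    exact mul_mem (ihy z hz) (mul_mem (ihy' z hz) (ihy _ (inv_mem (hMZ (hDM (ihy' z hz))))))
  intro c hc
  have hc' := hMD hc.1
  have hAM' : (gen A B Y ⊓ (M ⊓ centralizer (A : Set X))) ≤ normalizer ((⁅M, A⁆ : Subgroup X) : Set X) :=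
    inf_le_right.trans (inf_le_left.trans (normalizer_commutator_ge_left M A))
  obtain ⟨e, he, w, hw, rfl⟩ := (mem_sup_of_le_normalizer hAM').1 hc'
  have he' : e ∈ centralizer (A : Set X) := by
    have := mul_mem hc.2 (Subgroup.inv_mem _ (mem_inf.1 (mem_inf.1 hw).2).2)
    rwa [mul_inv_cancel_right] at this
  have h1 := centralizer_inf_commutator_eq_bot (hV := hMc) hAM (coprime_of_le hcop le_rfl hMY)
  have he1 : e = 1 := by
    rw [← mem_bot, ← h1]
    exact ⟨⟨hMA he, he'⟩, he⟩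
  rw [he1, one_mul]
  exact hw.1

/-- Transfer of `gen` along an injective homomorphism. -/
theorem map_gen_le {H : Type*} [Group H] (f : H →* X) (hf : Function.Injective f)
    (A B Y : Subgroup H) : (gen A B Y).map f ≤ gen (A.map f) (B.map f) (Y.map f) := by
  rw [gen, Subgroup.map_iSup]
  refine iSup_le fun B₀ => ?_
  obtain ⟨hle, b, hb, hgen⟩ := B₀.2
  have hB₀ : (B₀ : Subgroup H).map f ≤ B.map f ∧
      ∃ b' ∈ B.map f, (B₀ : Subgroup H).map f ⊔ zpowers b' = B.map f :=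
    ⟨Subgroup.map_mono hle, f b, ⟨b, hb, rfl⟩, by
      rw [← MonoidHom.map_zpowers, ← Subgroup.map_sup, hgen]⟩
  refine le_trans ?_ (piece_le_gen (⟨_, hB₀⟩ : Cocyclic (B.map f)))
  rintro _ ⟨x, ⟨⟨hxY, hxB⟩, hxK⟩, rfl⟩
  refine ⟨⟨⟨x, hxY, rfl⟩, ?_⟩, ?_⟩
  · refine mem_centralizer_iff.2 ?_
    rintro _ ⟨b', hb', rfl⟩
    rw [← map_mul, ← map_mul, mem_centralizer_iff.1 hxB b' hb']
  · have h1 : ⁅Y ⊓ centralizer ((B₀ : Subgroup H) : Set H), A⁆.map f ≤
        ⁅Y.map f ⊓ centralizer (((B₀ : Subgroup H).map f : Subgroup X) : Set X), A.map f⁆ := by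
      rw [map_commutator]
      refine commutator_mono ((Subgroup.map_inf_le _ _ f).trans (inf_le_inf_left _ ?_)) le_rfl
      rintro _ ⟨c, hc, rfl⟩
      refine mem_centralizer_iff.2 ?_
      rintro _ ⟨b', hb', rfl⟩
      rw [← map_mul, ← map_mul, mem_centralizer_iff.1 hc b' hb']
    exact h1 ⟨x, hxK, rfl⟩

/-- The step past a normal subgroup `M`. -/
theorem step {X : Type u} [Group X] [Finite X] {A B Y M : Subgroup X} [M.Normal] (hMY : M ≤ Y)
    (hAc : IsMulCommutative A) (hB : B ≤ A) (hcop : (Nat.card A).Coprime (Nat.card Y))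
    (h : (Y.map (QuotientGroup.mk' M)) ⊓ centralizer ((B.map (QuotientGroup.mk' M) :
        Subgroup (X ⧸ M)) : Set (X ⧸ M)) ≤
      gen (A.map (QuotientGroup.mk' M)) (B.map (QuotientGroup.mk' M))
        (Y.map (QuotientGroup.mk' M)))
    (hAY : A ≤ normalizer (Y : Set X)) :
    Y ⊓ centralizer (B : Set X) ≤ gen A B Y ⊔ (M ⊓ centralizer (B : Set X)) := by
  set f := QuotientGroup.mk' M with hf
  have hAs : Group.IsSolvable A := Group.isSolvable_of_comm fun a b => mul_comm' a b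
  have hN : ∀ S : Subgroup X, S ≤ normalizer (M : Set X) := fun S => by
    rw [normalizer_eq_top_iff.2 ‹M.Normal›]; exact le_top
  have hfm : ∀ x, f x = 1 ↔ x ∈ M := fun x => QuotientGroup.eq_one_iff x
  have hd : Disjoint A M := disjoint_of_coprime_natCard (coprime_of_le hcop le_rfl hMY)
  have hcomm1 : ∀ (s x : X), f x * f s = f s * f x → ⁅s, x⁆ ∈ M := fun s x e => by
    rw [← hfm, map_commutatorElement, commutatorElement_eq_one_iff_mul_comm]
    exact e.symm
  suffices h2 : gen (A.map f) (B.map f) (Y.map f) ≤ (gen A B Y).map f by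
    intro y hy
    have hfy : f y ∈ Y.map f ⊓ centralizer ((B.map f : Subgroup (X ⧸ M)) : Set (X ⧸ M)) := by
      refine ⟨⟨y, hy.1, rfl⟩, mem_centralizer_iff.2 ?_⟩
      rintro _ ⟨b, hb, rfl⟩
      rw [← map_mul, ← map_mul, mem_centralizer_iff.1 hy.2 b hb]
    obtain ⟨w, hw, hwy⟩ := h2 (h hfy)
    have hm : w⁻¹ * y ∈ M := by rw [← hfm, map_mul, map_inv, hwy, inv_mul_cancel]
    have := mul_mem_sup hw
      (show w⁻¹ * y ∈ M ⊓ centralizer (B : Set X) from
        ⟨hm, mul_mem (Subgroup.inv_mem _ (mem_inf.1 (gen_le A B Y hw)).2) (mem_inf.1 hy).2⟩)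
    rwa [mul_inv_cancel_left] at this
  refine iSup_le fun B₁ => ?_
  obtain ⟨hle, b', hb', hgen⟩ := B₁.2
  obtain ⟨b, hb, rfl⟩ := hb'
  set B₀ := B ⊓ (B₁ : Subgroup (X ⧸ M)).comap f with hB₀
  have hB₀f : B₀.map f = B₁ := by
    refine le_antisymm (map_le_iff_le_comap.2 inf_le_right) fun x hx => ?_
    obtain ⟨β, hβ, rfl⟩ := hle hx
    exact ⟨β, ⟨hβ, hx⟩, rfl⟩
  have hB₀g : B₀ ⊔ zpowers b = B := by
    refine le_antisymm (sup_le inf_le_left (zpowers_le.2 hb)) fun β hβ => ?_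
    have h1 : f β ∈ (B₁ : Subgroup (X ⧸ M)) ⊔ zpowers (f b) := hgen.ge ⟨β, hβ, rfl⟩
    have hc : ∀ u ∈ B.map f, ∀ v ∈ B.map f, u * v = v * u := by
      rintro _ ⟨u, hu, rfl⟩ _ ⟨v, hv, rfl⟩
      rw [← map_mul, ← map_mul, setLike_mul_comm (hB hu) (hB hv)]
    have hnorm : zpowers (f b) ≤ normalizer ((B₁ : Subgroup (X ⧸ M)) : Set (X ⧸ M)) :=
      zpowers_le.2 (mem_normalizer_iff.2 fun u => by
        constructor
        · intro hu
          rwa [hc _ ⟨b, hb, rfl⟩ _ (hle hu), mul_inv_cancel_right]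
        · intro hu
          have h3 : u ∈ B.map f := by
            have := mul_mem (mul_mem (inv_mem (show f b ∈ B.map f from ⟨b, hb, rfl⟩)) (hle hu))
              (show f b ∈ B.map f from ⟨b, hb, rfl⟩)
            simpa [mul_assoc] using this
          rwa [hc _ ⟨b, hb, rfl⟩ _ h3, mul_inv_cancel_right] at hu)
    obtain ⟨u, hu, v, hv, huv⟩ := (mem_sup_of_le_normalizer hnorm).1 h1
    obtain ⟨i, rfl⟩ := mem_zpowers_iff.1 hv
    have h4 : β * (b ^ i)⁻¹ ∈ B₀ := by
      refine ⟨mul_mem hβ (Subgroup.inv_mem _ (zpow_mem hb i)), mem_comap.2 ?_⟩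
      rw [map_mul, map_inv, map_zpow, ← huv, mul_inv_cancel_right]
      exact hu
    have := mul_mem_sup h4 (zpow_mem (mem_zpowers b) i)
    rwa [inv_mul_cancel_right] at this
  let B₀' : Cocyclic B := ⟨B₀, inf_le_left, b, hb, hB₀g⟩
  set C₀ := Y ⊓ centralizer (B₀ : Set X) with hC₀
  have hC₀f : Y.map f ⊓ centralizer ((B₁ : Subgroup (X ⧸ M)) : Set (X ⧸ M)) ≤ C₀.map f := by
    rintro _ ⟨⟨y, hy, rfl⟩, hyB⟩
    have hB₀A : B₀ ≤ A := inf_le_left.trans hB
    obtain ⟨c, hc, hyc⟩ := exists_centralizer_inv_mul_mem (A := B₀) (K := Y) (N := M)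
      (hN B₀) hMY (hN Y) (coprime_of_le hcop hB₀A hMY)
      (.inl (isSolvable_of_le hB₀A hAs)) hy fun β hβ =>
        hcomm1 β y (mem_centralizer_iff.1 hyB (f β) (hB₀f ▸ ⟨β, hβ, rfl⟩)).symm
    exact ⟨c, hc, (inv_mul_eq_one.1 (by rw [← map_inv, ← map_mul, (hfm _).2 hyc])).symm⟩
  rintro z ⟨⟨-, hzB⟩, hzK⟩
  have hzK' : z ∈ ⁅C₀, A⁆.map f := by
    rw [map_commutator]
    exact commutator_mono hC₀f le_rfl hzK
  obtain ⟨k, hk, rfl⟩ := hzK'
  set K := ⁅C₀, A⁆ with hK
  have hAK : A ≤ normalizer (K : Set X) := normalizer_commutator_ge_right C₀ A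
  have hKY : K ≤ Y := ((le_normalizer_iff_commutator_le_left.1
    (le_normalizer_inf_centralizer hAc hAY (inf_le_left.trans hB) :
      A ≤ normalizer (C₀ : Set X))).trans inf_le_left)
  obtain ⟨c, hc, hkc⟩ := exists_centralizer_inv_mul_mem (A := B) (K := K) (N := M ⊓ K)
    (le_normalizer_inf_centralizer.le_normalizer_inf (hN B) (hB.trans hAK)) inf_le_right
    (le_normalizer_inf_centralizer.le_normalizer_inf (hN K) le_normalizer)
    (coprime_of_le hcop hB (inf_le_left.trans hMY)) (.inl (isSolvable_of_le hB hAs)) hk fun β hβ => by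
      refine ⟨hcomm1 β k (mem_centralizer_iff.1 hzB (f β) ⟨β, hβ, rfl⟩).symm, ?_⟩
      rw [commutatorElement_def]
      exact mul_mem (le_normalizer_iff.1 hAK β (hB hβ) k hk) (Subgroup.inv_mem _ hk)
  exact ⟨c, piece_le_gen B₀' ⟨⟨hKY hc.1, hc.2⟩, hc.1⟩,
    (inv_mul_eq_one.1 (by rw [← map_inv, ← map_mul, (hfm _).2 hkc.1])).symm⟩

/-- The main induction. -/
theorem main : ∀ (n : ℕ) {X : Type u} [Group X] [Finite X] (A B Y : Subgroup X),
    Nat.card Y = n → Group.IsSolvable Y → IsMulCommutative A → B ≤ A →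
    A ≤ normalizer (Y : Set X) → (Nat.card A).Coprime (Nat.card Y) → ⁅Y, A⁆ = Y →
    Y ⊓ centralizer (B : Set X) ≤ gen A B Y := by
  intro n
  induction n using Nat.strong_induction_on with
  | _ n ih =>
  intro X _ _ A B Y hn hYs hAc hB hAY hcop hYA
  classical
  have hAs : Group.IsSolvable A := Group.isSolvable_of_comm fun a b => mul_comm' a b
  have hsub : ∀ S : Subgroup X, S ≤ Y → S ≠ Y → A ≤ normalizer (S : Set X) →
      ⁅S, A⁆ ⊓ centralizer (B : Set X) ≤ gen A B Y := by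
    intro S hSY hne hAS
    have hle : ⁅S, A⁆ ≤ S := le_normalizer_iff_commutator_le_left.1 hAS
    have hlt : Nat.card (⁅S, A⁆ : Subgroup X) < n := by
      rw [← hn]
      refine lt_of_le_of_lt (card_le_of_le hle) (lt_of_le_of_ne (card_le_of_le hSY) fun e => ?_)
      exact hne (eq_of_le_of_card_ge hSY e.ge)
    exact (ih _ hlt A B _ rfl (isSolvable_of_le (hle.trans hSY) hYs) hAc hB
      (normalizer_commutator_ge_right S A) (coprime_of_le hcop le_rfl (hle.trans hSY))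
      (commutator_commutator_self hAS (coprime_of_le hcop le_rfl hSY) (.inl hAs))).trans
      (gen_mono (hle.trans hSY))
  -- past a nontrivial invariant normal subgroup
  have hquot : ∀ M : Subgroup X, M ≤ Y → M ≠ ⊥ → Y ≤ normalizer (M : Set X) →
      A ≤ normalizer (M : Set X) →
      Y ⊓ centralizer (B : Set X) ≤ gen A B Y ⊔ (M ⊓ centralizer (B : Set X)) := by
    intro M hMY hMne hYM hAM
    set H := normalizer (M : Set X)
    have hM : M ≤ H := le_normalizer
    have hBH : B ≤ H := hB.trans hAM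
    have hm : ∀ {S : Subgroup X}, S ≤ H → (S.subgroupOf H).map H.subtype = S := fun h => by
      rw [subgroupOf_map_subtype, inf_eq_left.2 h]
    haveI : (M.subgroupOf H).Normal := (normal_subgroupOf_iff_le_normalizer hM).2 le_rfl
    set A' := A.subgroupOf H; set B' := B.subgroupOf H; set Y' := Y.subgroupOf H
    set M' := M.subgroupOf H
    have hcA : Nat.card A' = Nat.card A := Nat.card_congr (subgroupOfEquivOfLe hAM).toEquiv
    have hcY : Nat.card Y' = Nat.card Y := Nat.card_congr (subgroupOfEquivOfLe hYM).toEquiv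
    have hA'c : IsMulCommutative A' := ⟨⟨fun a b => Subtype.ext (Subtype.ext
      (setLike_mul_comm (s := A) a.2 b.2))⟩⟩
    have hA'Y : A' ≤ normalizer (Y' : Set H) := le_normalizer_iff.2 fun a ha y hy => by
      show ((a * y * a⁻¹ : H) : X) ∈ Y
      exact le_normalizer_iff.1 hAY _ ha _ hy
    have hY'A : ⁅Y', A'⁆ = Y' := map_injective H.subtype_injective (by
      rw [map_commutator, hm hAM, hm hYM, hYA])
    set f := QuotientGroup.mk' M'
    have hlt : Nat.card (Y'.map f) < n := by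
      have h1 : Nat.card (Y'.map f) * Nat.card M ∣ Nat.card Y := by
        have hMM : M' ≤ Y' := fun x hx => hMY hx
        have e : Nat.card M' = Nat.card M := Nat.card_congr (subgroupOfEquivOfLe hM).toEquiv
        rw [← hcY, ← e]
        have h2 := (f.subgroupMap Y').ker.card_mul_index
        rw [index_ker, MonoidHom.range_eq_top_of_surjective _ (f.subgroupMap_surjective Y'),
          card_top] at h2
        rw [← h2, mul_comm (Nat.card (f.subgroupMap Y').ker)]
        refine mul_dvd_mul_left _ (dvd_of_eq (Nat.card_congr ?_).symm)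
        exact
          { toFun := fun x => ⟨x.1, by
              have := congrArg Subtype.val x.2
              exact (QuotientGroup.eq_one_iff (N := M') (x.1 : H)).1 this⟩
            invFun := fun x => ⟨⟨x.1, hMM x.2⟩, Subtype.ext
              ((QuotientGroup.eq_one_iff (N := M') (x.1 : H)).2 x.2)⟩
            left_inv := fun x => rfl
            right_inv := fun x => rfl }
      have h3 : 1 < Nat.card M :=
        Finite.one_lt_card_iff_nontrivial.2 ((Subgroup.nontrivial_iff_ne_bot M).2 hMne)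
      have h4 := Nat.le_of_dvd Nat.card_pos h1
      have h5 : 0 < Nat.card (Y'.map f) := Nat.card_pos
      rw [← hn]; nlinarith
    have hY's : Group.IsSolvable (Y'.map f) := by
      have h1 : Group.IsSolvable Y' := Group.isSolvable_of_isSolvable_injective
        (f := (subgroupOfEquivOfLe hYM).toMonoidHom) (MulEquiv.injective _)
      exact Group.isSolvable_of_surjective (f := f.subgroupMap Y') (f.subgroupMap_surjective Y')
    have hAf : IsMulCommutative (A'.map f) := ⟨⟨fun a b => by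
      obtain ⟨a', ha', ea⟩ := a.2
      obtain ⟨b', hb', eb⟩ := b.2
      refine Subtype.ext ?_
      rw [Subgroup.coe_mul, Subgroup.coe_mul, ← ea, ← eb, ← map_mul, ← map_mul,
        setLike_mul_comm ha' hb']⟩⟩
    have hB'A : B' ≤ A' := fun x hx => hB hx
    have hcopf : (Nat.card (A'.map f)).Coprime (Nat.card (Y'.map f)) :=
      ((hcop.coprime_dvd_left ((A'.card_map_dvd f).trans hcA.dvd)).coprime_dvd_right
        ((Y'.card_map_dvd f).trans hcY.dvd))
    have hrec := ih _ hlt (A'.map f) (B'.map f) (Y'.map f) rfl hY's hAf (map_mono hB'A)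
      (le_normalizer_iff.2 (by
        rintro _ ⟨a, ha, rfl⟩ _ ⟨y, hy, rfl⟩
        exact ⟨a * y * a⁻¹, le_normalizer_iff.1 hA'Y a ha y hy, by simp⟩))
      hcopf (by rw [← map_commutator, hY'A])
    have hstep := step (M := M') (fun x hx => hMY hx) hA'c hB'A (by rw [hcA, hcY]; exact hcop)
      hrec hA'Y
    intro y hy
    have hyH : y ∈ H := hYM hy.1
    have hy' : (⟨y, hyH⟩ : H) ∈ Y' ⊓ centralizer (B' : Set H) :=
      ⟨hy.1, mem_centralizer_iff.2 fun b hb => Subtype.ext (mem_centralizer_iff.1 hy.2 b hb)⟩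
    have h1 : y ∈ (gen A' B' Y' ⊔ (M' ⊓ centralizer (B' : Set H))).map H.subtype :=
      ⟨_, hstep hy', rfl⟩
    rw [Subgroup.map_sup] at h1
    refine (show _ ≤ gen A B Y ⊔ (M ⊓ centralizer (B : Set X)) from sup_le_sup ?_ ?_) h1
    · have := map_gen_le H.subtype H.subtype_injective A' B' Y'
      rwa [hm hAM, hm hBH, hm hYM] at this
    · rintro _ ⟨x, hx, rfl⟩
      exact ⟨hx.1, mem_centralizer_iff.2 fun b hb =>
        congrArg Subtype.val (mem_centralizer_iff.1 hx.2 (⟨b, hBH hb⟩ : H) hb)⟩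
  -- the three cases
  let S : Set (Subgroup X) := {R | R ≤ Y ∧ Y ≤ normalizer (R : Set X) ∧
    A ≤ normalizer (R : Set X) ∧ ¬ ∀ a ∈ R, ∀ b ∈ R, a * b = b * a}
  by_cases hab : ∀ a ∈ Y, ∀ b ∈ Y, a * b = b * a
  · have hYc : IsMulCommutative Y := ⟨⟨fun a b => Subtype.ext (hab a a.2 b b.2)⟩⟩
    refine fixed_le_gen hAc hB hAY hcop hAY le_rfl ?_
    have h1 := centralizer_inf_commutator_eq_bot (hV := hYc) hAY hcop
    rw [hYA, inf_eq_left.2 inf_le_left] at h1
    rw [h1]; exact bot_le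
  obtain ⟨R, hR, hRmin⟩ := Set.Finite.exists_minimal (s := S) (Set.toFinite _)
    ⟨Y, le_rfl, le_normalizer, hAY, hab⟩
  obtain ⟨hRY, hYR, hAR, hRnc⟩ := hR
  set R' := ⁅R, R⁆ with hR'
  have hR'R : R' ≤ R := commutator_le_self R
  have hYR' : Y ≤ normalizer (R' : Set X) := hYR.trans (normalizer_le_normalizer_commutator R)
  have hAR' : A ≤ normalizer (R' : Set X) := hAR.trans (normalizer_le_normalizer_commutator R)
  have hR'c : ∀ a ∈ R', ∀ b ∈ R', a * b = b * a := by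
    by_contra hnc
    have h1 : R' < R := commutator_self_lt (isSolvable_of_le hRY hYs) fun e => hRnc (by
      subst e
      intro a ha b hb
      rw [mem_bot.1 ha, mem_bot.1 hb])
    exact h1.not_ge (hRmin ⟨hR'R.trans hRY, hYR', hAR', hnc⟩ h1.le)
  have hR'ne : R' ≠ ⊥ := fun e => hRnc fun a ha b hb => by
    have h1 : ⁅a, b⁆ ∈ R' := commutator_mem_commutator ha hb
    rw [e, mem_bot, commutatorElement_eq_one_iff_mul_comm] at h1
    exact h1
  have finish : ∀ Z : Subgroup X, Z ≤ Y → Y ≤ normalizer (Z : Set X) →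
      A ≤ normalizer (Z : Set X) → (∀ m ∈ ⁅Z, Y⁆, ∀ z ∈ Z, m * z = z * m) → ⁅Z, Y⁆ ≠ ⊥ →
      Y ⊓ centralizer (B : Set X) ≤ gen A B Y := by
    intro Z hZY hYZ hAZ hc hne
    have hle : ⁅Z, Y⁆ ≤ Z := le_normalizer_iff_commutator_le_left.1 hYZ
    refine (hquot _ (hle.trans hZY) hne (normalizer_commutator_ge_right Z Y) ?_).trans
      (sup_le le_rfl (key hAc hB hAY hcop hYA hZY hYZ hAZ hc))
    refine le_normalizer_iff.2 fun a ha x hx => ?_
    have hmap : ⁅Z, Y⁆.map (MulAut.conj a).toMonoidHom ≤ ⁅Z, Y⁆ := by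
      rw [map_commutator]
      exact commutator_mono (conj_map_le_iff.2 fun z hz => le_normalizer_iff.1 hAZ a ha z hz)
        (conj_map_le_iff.2 fun y hy => le_normalizer_iff.1 hAY a ha y hy)
    exact hmap ⟨x, hx, rfl⟩
  by_cases hcen : ⁅R', Y⁆ = ⊥
  swap
  · refine finish R' (hR'R.trans hRY) hYR' hAR' (fun m hm z hz => hR'c m ?_ z hz) hcen
    exact le_normalizer_iff_commutator_le_left.1 hYR' hm
  have hcen' : ∀ m ∈ R', ∀ y ∈ Y, m * y = y * m := fun m hm y hy => by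
    have h1 : ⁅m, y⁆ ∈ ⁅R', Y⁆ := commutator_mem_commutator hm hy
    rwa [hcen, mem_bot, commutatorElement_eq_one_iff_mul_comm] at h1
  by_cases hRY' : R = Y
  · subst hRY'
    exact finish R le_rfl le_normalizer hAR (fun m hm z hz => hcen' m hm z hz) hR'ne
  -- `R' = [R, R]` is central, `R` proper
  set W := gen A B Y with hW
  have hC := hquot R' (hR'R.trans hRY) hR'ne hYR' hAR'
  have hWW : ∀ c ∈ Y ⊓ centralizer (B : Set X), ∀ d ∈ Y ⊓ centralizer (B : Set X),
      ⁅c, d⁆ ∈ W := by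
    have hn' : R' ⊓ centralizer (B : Set X) ≤ centralizer (Y : Set X) := fun x hx =>
      mem_centralizer_iff.2 fun y hy => (hcen' x hx.1 y hy).symm
    have hnW : R' ⊓ centralizer (B : Set X) ≤ normalizer (W : Set X) :=
      hn'.trans ((centralizer_le ((gen_le A B Y).trans inf_le_left)).trans
        (centralizer_le_normalizer _))
    intro c hc d hd
    obtain ⟨w, hw, m, hm, rfl⟩ := (mem_sup_of_le_normalizer hnW).1 (hC hc)
    obtain ⟨v, hv, l, hl, rfl⟩ := (mem_sup_of_le_normalizer hnW).1 (hC hd)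
    have hwY : w ∈ Y := (gen_le A B Y hw).1
    have hvY : v ∈ Y := (gen_le A B Y hv).1
    have hmY : m ∈ Y := hRY (hR'R hm.1)
    have hlY : l ∈ Y := hRY (hR'R hl.1)
    have e : ⁅w * m, v * l⁆ = ⁅w, v⁆ := by
      have h1 : m * (v * l) = (v * l) * m := hcen' m hm.1 _ (mul_mem hvY hlY)
      have h2 : l * w⁻¹ = w⁻¹ * l := hcen' l hl.1 _ (inv_mem hwY)
      simp only [commutatorElement_def]
      calc w * m * (v * l) * (w * m)⁻¹ * (v * l)⁻¹
          = w * (m * (v * l)) * m⁻¹ * w⁻¹ * l⁻¹ * v⁻¹ := by group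
        _ = w * ((v * l) * m) * m⁻¹ * w⁻¹ * l⁻¹ * v⁻¹ := by rw [h1]
        _ = w * v * (l * w⁻¹) * l⁻¹ * v⁻¹ := by group
        _ = w * v * (w⁻¹ * l) * l⁻¹ * v⁻¹ := by rw [h2]
        _ = w * v * w⁻¹ * v⁻¹ := by group
    rw [e, commutatorElement_def]
    exact mul_mem (mul_mem (mul_mem hw hv) (inv_mem hw)) (inv_mem hv)
  refine hC.trans (sup_le le_rfl (fixed_le_gen hAc hB hAY hcop hAR' (hR'R.trans hRY) ?_))
  set E := R ⊓ centralizer (A : Set X) with hE
  set RA := ⁅R, A⁆ with hRA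
  have hRAR : RA ≤ R := le_normalizer_iff_commutator_le_left.1 hAR
  have hERA : E ≤ normalizer (RA : Set X) :=
    inf_le_left.trans (normalizer_commutator_ge_left R A)
  have hEE : ⁅E, E⁆ ≤ W ⊓ centralizer (A : Set X) :=
    commutator_le.2 fun c hc d hd => ⟨hWW c ⟨hRY hc.1, centralizer_le hB hc.2⟩
      d ⟨hRY hd.1, centralizer_le hB hd.2⟩, by
        rw [commutatorElement_def]
        exact mul_mem (mul_mem (mul_mem (mem_inf.1 hc).2 (mem_inf.1 hd).2)
          (Subgroup.inv_mem _ (mem_inf.1 hc).2)) (Subgroup.inv_mem _ (mem_inf.1 hd).2)⟩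
  have hR'le : R' ≤ RA ⊔ ⁅E, E⁆ := by
    have hdec : R ≤ RA ⊔ E := (commutator_sup_centralizer hAR
      (coprime_of_le hcop le_rfl hRY) (.inl hAs)).ge
    refine commutator_le.2 fun x hx y hy => ?_
    obtain ⟨r, hr, c, hc, rfl⟩ := (mem_sup_of_le_normalizer hERA).1 (hdec hx)
    obtain ⟨r', hr', c', hc', rfl⟩ := (mem_sup_of_le_normalizer hERA).1 (hdec hy)
    have hn := le_normalizer_iff.1 (normalizer_commutator_ge_left R A)
    have h0 : ⁅c, c'⁆ ∈ ⁅E, E⁆ := commutator_mem_commutator hc hc'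
    have e : ⁅r * c, r' * c'⁆ = r * ((c * r' * c⁻¹) * (⁅c, c'⁆ * ((c' * r⁻¹ * c'⁻¹) * r'⁻¹))) := by
      simp [commutatorElement_def, mul_assoc]
    rw [e]
    exact mul_mem (mem_sup_left hr) (mul_mem (mem_sup_left (hn c hc.1 r' hr'))
      (mul_mem (mem_sup_right h0)
        (mem_sup_left (mul_mem (hn c' hc'.1 r⁻¹ (inv_mem hr)) (inv_mem hr')))))
  intro x hx
  have hEEn : ⁅E, E⁆ ≤ normalizer (RA : Set X) :=
    (commutator_le_self E).trans hERA
  obtain ⟨r, hr, d, hd, rfl⟩ := (mem_sup_of_le_normalizer hEEn).1 (hR'le hx.1)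
  have hd' := hEE hd
  refine mul_mem (hsub R hRY hRY' hAR ⟨hr, centralizer_le hB ?_⟩) hd'.1
  have := mul_mem (mem_inf.1 hx).2 (Subgroup.inv_mem _ (mem_inf.1 hd').2)
  rwa [mul_inv_cancel_right] at this

end CfsgLib.FTApps.FixedGen
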