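import Cfsg.Agent.Lib.FTApps.CoreClosureRank
import Cfsg.Agent.Lib.Fusion.ThompsonTransfer
import Cfsg.Agent.Lib.LocalEven.SwapInjective.Main
import Cfsg.Agent.Lib.TwoGroups.MaximalClass
import Cfsg.Agent.Lib.PGroup.PSL2BinaryEven

/-!
# Rank two with a centraliser of a central involution normalising the Sylow subgroup

If `R` has rank two, `C(z) ≤ N(R)` for a central involution `z` of `R`, and `z` is conjugate to
another involution of `R`, then (no subgroup of index two) all involutions are conjugate to `z`;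
so either the normaliser of `O(C(z))` is strongly embedded or all cores vanish.
-/

set_option autoImplicit false
set_option linter.style.haveILetI false

namespace CfsgLib.FTApps.CoreClosureCentral

open Subgroup CfsgLib.Components CfsgLib.Components.Signalizer CfsgLib.Components.SFT
  CfsgLib.Involution CfsgLib.Involution.Dihedral

universe u

variable {X : Type u} [Group X] [Finite X]

/-- A 2-subgroup of `C(z)` lies in the Sylow subgroup that `C(z)` normalises. -/
theorem mem_of_centralizer (R : Sylow 2 X) {z : X}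
    (hN : centralizer ({z} : Set X) ≤ normalizer ((R : Subgroup X) : Set X))
    {Q : Subgroup X} (hQ : IsPGroup 2 Q) (hQz : Q ≤ centralizer ({z} : Set X)) :
    Q ≤ (R : Subgroup X) := fun x hx =>
  ((hQ.inf_normalizer_sylow R).le ⟨hx, hN (hQz hx)⟩).2

/-- All involutions are fused to `z`. -/
theorem all_conj (R : Sylow 2 X) {z : X} (hz : orderOf z = 2) (hzR : z ∈ (R : Subgroup X))
    (hzc : ∀ r ∈ (R : Subgroup X), Commute r z)
    (hN : centralizer ({z} : Set X) ≤ normalizer ((R : Subgroup X) : Set X))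
    (hrk : ¬ ∃ E : Subgroup X, E ≤ (R : Subgroup X) ∧ Cfsg.IsElementaryAbelian 2 E ∧
      2 ^ 3 ≤ Nat.card E)
    (h2 : ∀ M : Subgroup X, M.Normal → M.index ≠ 2)
    (hS : ∀ w ∈ (R : Subgroup X), IsConj z w → (∀ r ∈ (R : Subgroup X), Commute r w) → w ≠ z →
      ∃ w' ∈ (R : Subgroup X), IsConj z w' ∧ w' ≠ w ∧ w' ≠ z)
    {w : X} (hwR : w ∈ (R : Subgroup X)) (hwz : IsConj z w) (hne : w ≠ z)
    {u : X} (hu : orderOf u = 2) (huR : u ∈ (R : Subgroup X)) : IsConj z u := by
  classical
  haveI : Fact (Nat.Prime 2) := ⟨Nat.prime_two⟩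
  obtain ⟨h, rfl⟩ := isConj_iff.1 hwz
  set w := h * z * h⁻¹ with hwdef
  have hw : orderOf w = 2 := (Dihedral.orderOf_conj h z).trans hz
  have hzw : Commute z w := (hzc w hwR).symm
  -- the only involutions commuting with `w`
  have mem4 : ∀ x ∈ (R : Subgroup X), orderOf x = 2 → Commute x w →
      x = z ∨ x = w ∨ x = z * w := by
    intro x hxR hx hxw
    by_contra hnot
    push Not at hnot
    obtain ⟨h1, h8⟩ := CoreClosureRank.elementary_three hz hw hx hzw (hzc x hxR).symm hxw.symm
      (Ne.symm hne) hnot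
    exact hrk ⟨_, sup_le (sup_le (zpowers_le.2 hzR) (zpowers_le.2 hwR)) (zpowers_le.2 hxR), h1, h8⟩
  by_cases hcen : ∀ r ∈ (R : Subgroup X), Commute r w
  · obtain ⟨w', hw'R, hw', hw'w, hw'z⟩ := hS w hwR hwz hcen hne
    obtain ⟨k, hk⟩ := isConj_iff.1 hw'
    have hw'2 : orderOf w' = 2 := by rw [← hk, Dihedral.orderOf_conj, hz]
    rcases mem4 u huR hu (hcen u huR) with e | e | e
    · exact e ▸ IsConj.refl z
    · exact e ▸ hwz
    · rcases mem4 w' hw'R hw'2 (hcen w' hw'R) with e' | e' | e'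
      exacts [absurd e' hw'z, absurd e' hw'w, e ▸ e' ▸ hw']
  set T := (R : Subgroup X) ⊓ centralizer ({w} : Set X) with hT
  have hTw : ∀ {a : X}, a ∈ T → Commute a w := fun {a} ha =>
    mem_centralizer_singleton_iff.1 ha.2
  have hzT : z ∈ T := ⟨hzR, mem_centralizer_singleton_iff.2 hzw.eq⟩
  have hwT : w ∈ T := ⟨hwR, mem_centralizer_singleton_iff.2 rfl⟩
  -- an element of `C(w)` moving `z`
  obtain ⟨x, hxw, hxT, hxz⟩ : ∃ x : X, Commute x w ∧ x ∈ normalizer (T : Set X) ∧
      x * z * x⁻¹ = z * w := by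
    set R1 := (R : Subgroup X).map (MulAut.conj h).toMonoidHom with hR1
    have hTR1 : T ≤ R1 := by
      intro a ha
      have h1 : h⁻¹ * a * h ∈ (R : Subgroup X) := by
        refine mem_of_centralizer R hN (Q := T.map (MulAut.conj h⁻¹).toMonoidHom)
          ((R.isPGroup'.to_le inf_le_left).map _) ?_ ⟨a, ha, by simp⟩
        rintro _ ⟨b, hb, rfl⟩
        refine mem_centralizer_singleton_iff.2 ?_
        simp only [MulEquiv.coe_toMonoidHom, MulAut.conj_apply, inv_inv]
        calc h⁻¹ * b * h * z = h⁻¹ * (b * w) * h := by rw [hwdef]; group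
          _ = _ := by rw [(hTw hb).eq, hwdef]; group
      exact ⟨_, h1, by simp [mul_assoc]⟩
    have hlt : T < R1 := by
      refine lt_of_le_of_ne hTR1 fun e => hcen fun r hr => ?_
      have h1 : Nat.card T = Nat.card (R : Subgroup X) := by
        rw [e, hR1, card_map_of_injective (MulAut.conj h).injective]
      exact hTw ((eq_of_le_of_card_ge (inf_le_left : T ≤ R) h1.ge).ge hr)
    have hR1p : IsPGroup 2 R1 := R.isPGroup'.map _
    obtain ⟨x, hxR1, hxN, hxT⟩ :=
      CfsgLib.LocalEven.SwapInjective.exists_normalizer_not_mem hR1p hlt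
    have hxw : Commute x w := by
      obtain ⟨r, hr, rfl⟩ := hxR1
      exact (hzc r hr).map (MulAut.conj h).toMonoidHom
    refine ⟨x, hxw, hxN, ?_⟩
    have h1 := CfsgLib.Components.SFT.conj_mem_of_mem_normalizer hxN hzT
    rcases mem4 _ h1.1 ((Dihedral.orderOf_conj x z).trans hz) (hTw h1) with e | e | e
    · refine absurd ⟨mem_of_centralizer R hN (Q := zpowers x) (hR1p.to_le (zpowers_le.2 hxR1))
        (zpowers_le.2 (mem_centralizer_singleton_iff.2 (mul_inv_eq_iff_eq_mul.1 e))) (mem_zpowers x),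
        mem_centralizer_singleton_iff.2 hxw.eq⟩ hxT
    · refine absurd ?_ hne
      calc w = x⁻¹ * (x * w * x⁻¹) * x := by group
        _ = x⁻¹ * (x * z * x⁻¹) * x := by rw [hxw.eq, mul_inv_cancel_right, e]
        _ = z := by group
    · exact e
  have hzwc : IsConj z (z * w) := isConj_iff.2 ⟨x, hxz⟩
  have hinT : ∀ a ∈ T, orderOf a = 2 → IsConj z a := fun a ha ha2 => by
    rcases mem4 a ha.1 ha2 (hTw ha) with e | e | e
    exacts [e ▸ IsConj.refl z, e ▸ hwz, e ▸ hzwc]
  -- it suffices to have a subgroup of index two whose involutions are fused to `z`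
  have key : ∀ Q : Subgroup X, Q ≤ (R : Subgroup X) → Q.relIndex (R : Subgroup X) = 2 →
      (∀ a ∈ Q, orderOf a = 2 → IsConj z a) → IsConj z u := by
    intro Q hQR hQi hQ
    by_cases huQ : u ∈ Q
    · exact hQ u huQ hu
    rcases Fusion.ThompsonTransfer.thompson_transfer R Q hQR hQi u
      (by rw [pow_two]; exact mul_self hu) huR huQ with ⟨M, hM, hMi, -⟩ | ⟨g, hg⟩
    · exact absurd hMi (h2 M hM)
    · exact (hQ _ hg ((Dihedral.orderOf_conj g u).trans hu)).trans
        (isConj_iff.2 ⟨g, rfl⟩).symm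
  by_cases hexp : ∀ a ∈ T, a * a = 1
  · -- `C_R(w)` is a four-group
    set w' : ↥(R : Subgroup X) := ⟨w, hwR⟩ with hw'
    set z' : ↥(R : Subgroup X) := ⟨z, hzR⟩ with hz'
    have hTset : ∀ a ∈ T, a = 1 ∨ a = z ∨ a = w ∨ a = z * w := fun a ha => by
      by_cases ha1 : a = 1
      · exact Or.inl ha1
      · exact Or.inr (mem4 a ha.1 (orderOf_eq_two (hexp a ha) ha1) (hTw ha))
    have hC4 : Nat.card (centralizer ({w'} : Set ↥(R : Subgroup X))) = 4 := by
      have hU : IsKleinFour (zpowers z ⊔ zpowers w : Subgroup X) :=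
        kleinFour_sup hz hw (Ne.symm hne) hzw.eq
      have hTU : T = zpowers z ⊔ zpowers w := by
        refine le_antisymm (fun a ha => ?_) (sup_le (zpowers_le.2 hzT) (zpowers_le.2 hwT))
        rcases hTset a ha with rfl | rfl | rfl | rfl
        exacts [one_mem _, mem_sup_left (mem_zpowers _), mem_sup_right (mem_zpowers _),
          mul_mem (mem_sup_left (mem_zpowers _)) (mem_sup_right (mem_zpowers _))]
      rw [← hU.card_four, ← hTU, ← card_map_of_injective (R : Subgroup X).subtype_injective]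
      congr 2
      ext a
      constructor
      · rintro ⟨b, hb, rfl⟩
        exact ⟨b.2, mem_centralizer_singleton_iff.2
          (congrArg Subtype.val (mem_centralizer_singleton_iff.1 hb))⟩
      · intro ha
        exact ⟨⟨a, ha.1⟩, mem_centralizer_singleton_iff.2 (Subtype.ext (hTw ha).eq), rfl⟩
    obtain ⟨n, hn⟩ := R.isPGroup'.exists_card_eq
    have hw'2 : orderOf w' = 2 := (Subgroup.orderOf_coe w').symm.trans hw
    have hn3 : 3 ≤ n := by
      by_contra hlt
      refine hcen fun r hr => ?_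
      have h1 : Nat.card (R : Subgroup X) ≤ Nat.card (centralizer ({w'} : Set ↥(R : Subgroup X))) := by
        rw [hC4, hn]
        exact le_trans (Nat.pow_le_pow_right two_pos (show n ≤ 2 by omega)) (by norm_num)
      have h2' := eq_top_of_le_card _ h1
      have h3 : (⟨r, hr⟩ : ↥(R : Subgroup X)) ∈ centralizer ({w'} : Set ↥(R : Subgroup X)) :=
        h2' ▸ mem_top _
      have h4 : (⟨r, hr⟩ : ↥(R : Subgroup X)) * w' = w' * ⟨r, hr⟩ :=
        mem_centralizer_singleton_iff.1 h3
      exact congrArg Subtype.val h4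
    obtain ⟨C, hCc, hCi⟩ := TwoGroups.MaximalClass.cyclic_max_of_involution_centralizer (n - 3) _
      (by rw [hn, Nat.sub_add_cancel hn3]) w' hw'2 hC4
    haveI := hCc
    obtain ⟨c, hc⟩ := C.isCyclic_iff_exists_zpowers_eq_top.1 hCc
    have hz'2 : orderOf z' = 2 := (Subgroup.orderOf_coe z').symm.trans hz
    have hz'c : ∀ r, Commute r z' := fun r => Subtype.ext (hzc r r.2).eq
    have hzC : z' ∈ C := by
      by_contra hzC
      refine hcen fun r hr => ?_
      suffices hrw : Commute (⟨r, hr⟩ : ↥(R : Subgroup X)) w' from congrArg Subtype.val hrw.eq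
      have hdec : ∀ a : ↥(R : Subgroup X), ∃ b ∈ C, a = b ∨ a = b * z' := fun a => by
        by_cases ha : a ∈ C
        · exact ⟨a, ha, Or.inl rfl⟩
        · exact ⟨a * z', (Subgroup.mul_mem_iff_of_index_two hCi).2 (iff_of_false ha hzC), Or.inr
            (by rw [mul_assoc, mul_self hz'2, mul_one])⟩
      obtain ⟨a, ha, hra⟩ := hdec ⟨r, hr⟩
      obtain ⟨b, hb, hwb⟩ := hdec w'
      have hab : Commute a b :=
        haveI := IsCyclic.isMulCommutative (α := C)
        setLike_mul_comm ha hb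
      have h1 : Commute (⟨r, hr⟩ : ↥(R : Subgroup X)) b := by
        rcases hra with e | e <;> rw [e]
        exacts [hab, hab.mul_left (hz'c b).symm]
      rcases hwb with e | e <;> rw [e]
      exacts [h1, h1.mul_right (hz'c _)]
    have huniq : ∀ a ∈ C, orderOf a = 2 → a = z' := fun a ha ha2 =>
      CfsgLib.PGroup.PSL2Binary.cyclic_involution_unique (c := c) (hc ▸ ha) (hc ▸ hzC) ha2 hz'2
    have hwC : w' ∉ C := fun hwC => hne (congrArg Subtype.val (huniq w' hwC hw'2))
    haveI : C.Normal := normal_of_index_eq_two hCi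
    obtain ⟨Q, hQc, hQw⟩ := Sylow.exists_subgroup_card_pow_prime_le 2 (n := 1) (m := n - 1)
      (by rw [hn]; exact pow_dvd_pow 2 (Nat.sub_le n 1)) (zpowers w')
      (by rw [Nat.card_zpowers, hw'2, pow_one]) (by omega)
    have hwQ : w' ∈ Q := hQw (mem_zpowers w')
    have hcard : Nat.card (R : Subgroup X) = 2 * Nat.card Q := by
      rw [hn, hQc, ← pow_succ', Nat.sub_add_cancel (by omega)]
    have hQi : Q.index = 2 := by
      have h1 := Q.card_mul_index
      rw [hcard, mul_comm 2 (Nat.card Q)] at h1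
      exact Nat.eq_of_mul_eq_mul_left Nat.card_pos h1
    haveI : Q.Normal := normal_of_index_eq_two hQi
    have hQC : Nat.card ↥(C.subgroupOf Q) * 2 = Nat.card Q := by
      have hidx : (C.subgroupOf Q).index = 2 := index_eq_two_iff.2 ⟨⟨w', hwQ⟩, fun b => by
        by_cases hb : (b : ↥(R : Subgroup X)) ∈ C
        · exact Or.inr ⟨mem_subgroupOf.2 hb, fun h' => hwC
            (((Subgroup.mul_mem_iff_of_index_two hCi).1 (mem_subgroupOf.1 h')).1 hb)⟩
        · exact Or.inl ⟨mem_subgroupOf.2 ((Subgroup.mul_mem_iff_of_index_two hCi).2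
            (iff_of_false hb hwC)), fun h' => hb (mem_subgroupOf.1 h')⟩⟩
      simpa [hidx] using (C.subgroupOf Q).card_mul_index
    -- the class of `w'` fills `Q \ C`
    set D := {a : ↥(R : Subgroup X) // a ∈ Q ∧ a ∉ C}
    have hD : Nat.card D ≤ Nat.card ↥(C.subgroupOf Q) :=
      Nat.card_le_card_of_injective (fun a => ⟨⟨a.1 * w', mul_mem a.2.1 hwQ⟩,
        mem_subgroupOf.2 ((Subgroup.mul_mem_iff_of_index_two hCi).2 (iff_of_false a.2.2 hwC))⟩)
        fun a b hab => Subtype.ext (mul_right_cancel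
          (congrArg (fun y : ↥(C.subgroupOf Q) => ((y : ↥Q) : ↥(R : Subgroup X))) hab))
    set f : ↥(R : Subgroup X) ⧸ centralizer ({w'} : Set ↥(R : Subgroup X)) → D :=
      Quotient.lift (fun r => ⟨r * w' * r⁻¹, Subgroup.Normal.conj_mem inferInstance _ hwQ _,
        fun h' => hwC (by simpa [mul_assoc] using
          Subgroup.Normal.conj_mem (inferInstance : C.Normal) _ h' r⁻¹)⟩) (fun r s hrs => by
        have h1 := mem_centralizer_singleton_iff.1 (QuotientGroup.leftRel_apply.1 hrs)
        refine Subtype.ext ?_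
        calc r * w' * r⁻¹ = r * (w' * (r⁻¹ * s)) * s⁻¹ := by group
          _ = r * (r⁻¹ * s * w') * s⁻¹ := by rw [h1]
          _ = s * w' * s⁻¹ := by group) with hf
    have hfinj : Function.Injective f := by
      intro a b
      induction a using QuotientGroup.induction_on with
      | H r =>
        induction b using QuotientGroup.induction_on with
        | H s =>
          intro hab
          have h1 : r * w' * r⁻¹ = s * w' * s⁻¹ := congrArg Subtype.val hab
          refine QuotientGroup.eq.2 (mem_centralizer_singleton_iff.2 ?_)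
          calc r⁻¹ * s * w' = r⁻¹ * (s * w' * s⁻¹) * s := by group
            _ = r⁻¹ * (r * w' * r⁻¹) * s := by rw [h1]
            _ = w' * (r⁻¹ * s) := by group
    have hsurj : Function.Surjective f := (hfinj.bijective_of_nat_card_le (by
      have h1 := (centralizer ({w'} : Set ↥(R : Subgroup X))).card_mul_index
      rw [hC4, hcard, ← hQC, Subgroup.index] at h1
      omega)).2
    refine key (Q.map (R : Subgroup X).subtype) (map_subtype_le _) (by
      rw [relIndex, subgroupOf, comap_map_eq_self_of_injective (subtype_injective _), hQi]) ?_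
    rintro _ ⟨a, ha, rfl⟩ ha2
    have ha2' : orderOf a = 2 := (Subgroup.orderOf_coe a).symm.trans ha2
    by_cases haC : a ∈ C
    · rw [huniq a haC ha2']
      exact IsConj.refl z
    obtain ⟨q, hq⟩ := hsurj ⟨a, ha, haC⟩
    induction q using QuotientGroup.induction_on with
    | H r =>
      refine hwz.trans (isConj_iff.2 ⟨r, ?_⟩)
      exact congrArg (fun y : D => ((y.1 : ↥(R : Subgroup X)) : X)) hq
  -- otherwise every element of `R` permutes `w, z w`
  push Not at hexp
  obtain ⟨q, hqT, hq⟩ : ∃ q ∈ T, q * q ≠ 1 ∧ q * q * (q * q) = 1 := by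
    obtain ⟨a, haT, ha⟩ := hexp
    obtain ⟨k, hk⟩ := R.isPGroup'.exists_card_eq
    obtain ⟨i, -, hi⟩ := (Nat.dvd_prime_pow Nat.prime_two).1
      (hk ▸ (R : Subgroup X).orderOf_dvd_natCard haT.1)
    have hi2 : 2 ≤ i := by
      by_contra hlt
      refine ha ?_
      rw [← pow_two]
      exact orderOf_dvd_iff_pow_eq_one.1 (hi ▸ (pow_dvd_pow 2 (show i ≤ 1 by omega)).trans
        (pow_one 2).dvd)
    obtain ⟨j, rfl⟩ : ∃ j, i = j + 2 := ⟨i - 2, by omega⟩
    refine ⟨a ^ 2 ^ j, pow_mem haT _, fun e => ?_, ?_⟩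
    · rw [← pow_add, ← two_mul, ← pow_succ', ← orderOf_dvd_iff_pow_eq_one, hi,
        Nat.pow_dvd_pow_iff_le_right (by norm_num)] at e
      omega
    · rw [← pow_add, ← pow_add, ← two_mul, ← two_mul, ← pow_succ', ← pow_succ', ← hi,
        pow_orderOf_eq_one]
  have hnorm : ∀ r ∈ (R : Subgroup X), r * w * r⁻¹ = w ∨ r * w * r⁻¹ = z * w := by
    set N : Subgroup X :=
      { carrier := {r | r ∈ (R : Subgroup X) ∧ (r * w * r⁻¹ = w ∨ r * w * r⁻¹ = z * w)}
        one_mem' := ⟨one_mem _, Or.inl (by simp)⟩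
        mul_mem' := fun {a b} ha hb => ⟨mul_mem ha.1 hb.1, by
          rw [show a * b * w * (a * b)⁻¹ = a * (b * w * b⁻¹) * a⁻¹ by group]
          rcases hb.2 with e | e <;> rw [e]
          · exact ha.2
          · rw [show a * (z * w) * a⁻¹ = a * z * a⁻¹ * (a * w * a⁻¹) by group,
              (hzc a ha.1).eq, mul_inv_cancel_right]
            rcases ha.2 with e' | e' <;> rw [e']
            · exact Or.inr rfl
            · exact Or.inl (by rw [← mul_assoc, mul_self hz, one_mul])⟩
        inv_mem' := fun {a} ha => ⟨inv_mem ha.1, by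
          rcases ha.2 with e | e
          · refine Or.inl ?_
            conv_lhs => rw [← e]
            group
          · refine Or.inr ?_
            calc a⁻¹ * w * a⁻¹⁻¹ = a⁻¹ * (z * (z * w)) * a := by
                  rw [← mul_assoc z, mul_self hz, one_mul, inv_inv]
              _ = a⁻¹ * z * (a * w * a⁻¹) * a := by rw [e]; group
              _ = z * a⁻¹ * (a * w * a⁻¹) * a := by rw [((hzc a ha.1).inv_left).eq]
              _ = z * w := by group⟩ } with hNdef
    intro r hr
    by_contra hno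
    have hNlt : N < (R : Subgroup X) :=
      lt_of_le_of_ne (fun a ha => ha.1) fun e => hno (show r ∈ N from e ▸ hr).2
    obtain ⟨y, hyR, hyN, hy⟩ :=
      CfsgLib.LocalEven.SwapInjective.exists_normalizer_not_mem R.isPGroup' hNlt
    set w₁ := y * w * y⁻¹ with hw₁
    have hw₁2 : orderOf w₁ = 2 := (Dihedral.orderOf_conj y w).trans hw
    have hw₁R : w₁ ∈ (R : Subgroup X) := mul_mem (mul_mem hyR hwR) (inv_mem hyR)
    have hw₁c : ¬ Commute w₁ w := fun hc => by
      rcases mem4 w₁ hw₁R hw₁2 hc with e | e | e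
      · refine hne ?_
        calc w = y⁻¹ * (y * w * y⁻¹) * y := by group
          _ = y⁻¹ * (z * y) := by rw [← hw₁, e, mul_assoc]
          _ = z := by rw [← (hzc y hyR).eq, inv_mul_cancel_left]
      · exact hy ⟨hyR, Or.inl e⟩
      · exact hy ⟨hyR, Or.inr e⟩
    have hw₁N : w₁ ∈ N := CfsgLib.Components.SFT.conj_mem_of_mem_normalizer hyN
      (show w ∈ N from ⟨hwR, Or.inl (mul_inv_cancel_right _ _)⟩)
    have hflip : w₁ * w * w₁⁻¹ = z * w :=
      hw₁N.2.resolve_left fun e => hw₁c (mul_inv_eq_iff_eq_mul.1 e)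
    have hTsq : ∀ a ∈ T, a * a ≠ 1 → a * a * (a * a) = 1 → a * a = z := by
      intro a ha ha1 ha2
      have haN : y⁻¹ * a * y ∈ N := CfsgLib.Components.SFT.conj_inv_mem_of_mem_normalizer hyN
        (show a ∈ N from ⟨ha.1, Or.inl (mul_inv_eq_iff_eq_mul.2 (hTw ha).eq)⟩)
      have haw₁ : a * w₁ * a⁻¹ = w₁ ∨ a * w₁ * a⁻¹ = z * w₁ := by
        rw [show a * w₁ * a⁻¹ = y * ((y⁻¹ * a * y) * w * (y⁻¹ * a * y)⁻¹) * y⁻¹ by
          rw [hw₁]; group]
        rcases haN.2 with e | e <;> rw [e]
        · exact Or.inl rfl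
        · refine Or.inr ?_
          rw [hw₁, ← mul_assoc y z w, (hzc y hyR).eq]
          group
      have hc : Commute (a * a) w₁ := by
        refine mul_inv_eq_iff_eq_mul.1 ?_
        rw [show a * a * w₁ * (a * a)⁻¹ = a * (a * w₁ * a⁻¹) * a⁻¹ by group]
        rcases haw₁ with e | e
        · rw [e, e]
        · rw [e, show a * (z * w₁) * a⁻¹ = a * z * a⁻¹ * (a * w₁ * a⁻¹) by group, e,
            (hzc a ha.1).eq, mul_inv_cancel_right, ← mul_assoc, mul_self hz, one_mul]
      rcases mem4 (a * a) (mul_mem ha.1 ha.1) (orderOf_eq_two ha2 ha1)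
          ((hTw ha).mul_left (hTw ha)) with e | e | e
      · exact e
      · exact absurd (e ▸ hc : Commute w w₁).symm hw₁c
      · refine absurd ?_ hw₁c
        have h1 := (hzc w₁ hw₁R).mul_right ((e ▸ hc : Commute (z * w) w₁).symm)
        rwa [← mul_assoc, mul_self hz, one_mul] at h1
    have hq' := CfsgLib.Components.SFT.conj_mem_of_mem_normalizer hxT hqT
    have e1 := hTsq q hqT hq.1 hq.2
    have e2 := hTsq _ hq'
      (by rw [show x * q * x⁻¹ * (x * q * x⁻¹) = x * (q * q) * x⁻¹ by group, e1, hxz]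
          exact fun e => hne ((mul_eq_one_iff_inv_eq.1 e).symm.trans (inv_eq hz)))
      (by rw [show x * q * x⁻¹ * (x * q * x⁻¹) * (x * q * x⁻¹ * (x * q * x⁻¹)) =
            x * (q * q * (q * q)) * x⁻¹ by group, hq.2, mul_one, mul_inv_cancel])
    rw [show x * q * x⁻¹ * (x * q * x⁻¹) = x * (q * q) * x⁻¹ by group, e1, hxz,
      mul_eq_left] at e2
    exact ne_one hw e2
  refine key T inf_le_left (index_eq_two_iff.2 ?_) hinT
  push Not at hcen
  obtain ⟨r₀, hr₀, hr₀w⟩ := hcen
  have h0 : r₀ * w * r₀⁻¹ = z * w :=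
    (hnorm r₀ hr₀).resolve_left fun e => hr₀w (mul_inv_eq_iff_eq_mul.1 e)
  refine ⟨⟨r₀, hr₀⟩, fun b => ?_⟩
  have hmem : ∀ a : ↥(R : Subgroup X),
      a ∈ T.subgroupOf (R : Subgroup X) ↔ (a : X) * w * (a : X)⁻¹ = w := fun a => by
    rw [mem_subgroupOf, hT, mem_inf, mul_inv_eq_iff_eq_mul, mem_centralizer_singleton_iff]
    exact ⟨fun h => h.2, fun h => ⟨a.2, h⟩⟩
  rw [hmem, hmem, Subgroup.coe_mul]
  rw [show (b : X) * r₀ * w * ((b : X) * r₀)⁻¹ = (b : X) * (r₀ * w * r₀⁻¹) * (b : X)⁻¹ by group,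
    h0, show (b : X) * (z * w) * (b : X)⁻¹ = (b : X) * z * (b : X)⁻¹ * ((b : X) * w * (b : X)⁻¹)
      by group, (hzc b b.2).eq, mul_inv_cancel_right]
  have hzw1 : z * w ≠ w := fun e => ne_one hz (mul_eq_right.1 e)
  rcases hnorm b b.2 with e | e <;> rw [e]
  · exact Or.inr ⟨rfl, hzw1⟩
  · exact Or.inl ⟨by rw [← mul_assoc, mul_self hz, one_mul], hzw1⟩

/-- The normaliser of `O(C(z))` is strongly embedded, unless all cores vanish. -/
theorem stronglyEmbedded_or_core_eq_bot (hO : Cfsg.oddCore X = ⊥)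
    (hL : ∀ t : X, orderOf t = 2 → Cfsg.pLayer 2 ↥(centralizer ({t} : Set X)) = ⊥)
    (R : Sylow 2 X) {z : X} (hz : orderOf z = 2) (hzR : z ∈ (R : Subgroup X))
    (hzc : ∀ r ∈ (R : Subgroup X), Commute r z)
    (hN : centralizer ({z} : Set X) ≤ normalizer ((R : Subgroup X) : Set X))
    (hall : ∀ u ∈ (R : Subgroup X), orderOf u = 2 → IsConj z u) :
    (∃ M : Subgroup X, Cfsg.IsStronglyEmbedded M) ∨
      ∀ t : X, orderOf t = 2 → Cfsg.centralizerPPrimeCore 2 t = ⊥ := by
  classical
  haveI : Fact (Nat.Prime 2) := ⟨Nat.prime_two⟩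
  set D := Cfsg.centralizerPPrimeCore 2 z with hD
  have hDodd : Odd (Nat.card D) := by
    have h : ¬ 2 ∣ Nat.card ↥D := not_dvd_centralizerPPrimeCore z
    exact Nat.odd_iff.2 (by omega)
  -- `D` centralises `R`
  have hDR : ∀ d ∈ D, ∀ r ∈ (R : Subgroup X), Commute d r := by
    intro d hd r hr
    have hrN : r ∈ normalizer (D : Set X) := map_subtype_normal_of_characteristic
      (le_normalizer (mem_centralizer_singleton_iff.2 (hzc r hr).eq))
    have h1 : d * r * d⁻¹ * r⁻¹ ∈ (R : Subgroup X) := mul_mem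
      (CfsgLib.Components.SFT.conj_mem_of_mem_normalizer (hN (centralizerPPrimeCore_le z hd)) hr)
      (inv_mem hr)
    have h2 : d * r * d⁻¹ * r⁻¹ ∈ D := by
      rw [mul_assoc d, mul_assoc d]
      exact mul_mem hd (CfsgLib.Components.SFT.conj_mem_of_mem_normalizer hrN (inv_mem hd))
    have h3 : d * r * d⁻¹ * r⁻¹ = 1 := by
      obtain ⟨k, hk⟩ := R.isPGroup'.exists_card_eq
      refine orderOf_eq_one_iff.1 (Nat.eq_one_of_dvd_coprimes ?_
        ((R : Subgroup X).orderOf_dvd_natCard h1) (D.orderOf_dvd_natCard h2))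
      rw [hk]
      exact Nat.Coprime.pow_left k (Nat.coprime_two_left.2 hDodd)
    exact mul_inv_eq_iff_eq_mul.1 (mul_inv_eq_one.1 h3)
  have hR : ∀ u ∈ (R : Subgroup X), orderOf u = 2 → Cfsg.centralizerPPrimeCore 2 u = D := by
    intro u hu hu2
    have hle : D ≤ Cfsg.centralizerPPrimeCore 2 u := fun d hd =>
      core_pow_inf_centralizer_le (k := 1) (hzc u hu).eq.symm (by rw [pow_one]; exact hz) (hL u hu2)
        ⟨hd, mem_centralizer_singleton_iff.2 (hDR d hd u hu).eq⟩
    obtain ⟨k, hk⟩ := isConj_iff.1 (hall u hu hu2)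
    refine (eq_of_le_of_card_ge hle ?_).symm
    rw [← hk, map_conj_core, card_map_of_injective (MulAut.conj k).injective]
  set M := normalizer (D : Set X) with hM
  have hCzM : centralizer ({z} : Set X) ≤ M := fun x hx =>
    map_subtype_normal_of_characteristic (le_normalizer hx)
  have hRM : (R : Subgroup X) ≤ M := fun r hr =>
    hCzM (mem_centralizer_singleton_iff.2 (hzc r hr).eq)
  have hMt : ∀ t ∈ M, orderOf t = 2 → Cfsg.centralizerPPrimeCore 2 t = D := by
    intro t ht ht2
    obtain ⟨m, hm⟩ := Involution.Basic.exists_conj_le (R.subtype hRM)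
      (Q := (zpowers t).subgroupOf M)
      ((Involution.Basic.isPGroup_zpowers_of_two ht2).comap_of_injective _ (subtype_injective _))
    have h1 : Cfsg.centralizerPPrimeCore 2 ((m : X) * t * (m : X)⁻¹) = D := hR _ (hm ⟨t, ht⟩ (mem_subgroupOf.2 (mem_zpowers t)))
      ((Dihedral.orderOf_conj (m : X) t).trans ht2)
    rw [map_conj_core] at h1
    refine map_injective (f := (MulAut.conj (m : X)).toMonoidHom) (MulAut.conj (m : X)).injective
      (h1.trans ?_)
    exact le_antisymm
      (fun d hd => ⟨(m : X)⁻¹ * d * m, CfsgLib.Components.SFT.conj_inv_mem_of_mem_normalizer m.2 hd,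
        by simp [mul_assoc]⟩)
      (by rintro _ ⟨d, hd, rfl⟩; exact CfsgLib.Components.SFT.conj_mem_of_mem_normalizer m.2 hd)
  by_cases htop : M = ⊤
  · right
    intro t ht
    haveI : D.Normal := normalizer_eq_top_iff.1 htop
    rw [hMt t (htop ▸ mem_top t) ht]
    exact le_bot_iff.1 (hO ▸ ZStar.le_oddCore inferInstance hDodd)
  · left
    refine ⟨M, htop, Involution.Basic.even_of_involution_mem M (hRM hzR) hz, fun g hg =>
      Nat.not_even_iff_odd.1 fun hev => hg ?_⟩
    obtain ⟨s, ⟨hsM, t, htM, rfl⟩, hs2⟩ := Involution.Basic.exists_involution_of_even _ hev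
    have ht : orderOf t = 2 := (Dihedral.orderOf_conj g t).symm.trans hs2
    have h1 : Cfsg.centralizerPPrimeCore 2 (g * t * g⁻¹) = D := hMt _ hsM hs2
    rw [map_conj_core, hMt t htM ht] at h1
    exact Coprime.mem_normalizer_of_conj_map_le fun x hx => h1.le ⟨x, hx, rfl⟩

end CfsgLib.FTApps.CoreClosureCentral
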