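import Cfsg.Agent.Lib.FTApps.TwoConstrainedCores
import Cfsg.Agent.Lib.Involution.NormalFour
import Cfsg.Agent.Lib.LocalEven.StrongCore.Main
import Cfsg.Agent.Lib.OddOrder.Final.Main
import Cfsg.Agent.Lib.OddOrder.Stabilize
import Cfsg.Agent.Lib.NumberTheory.SylowCount

/-!
# The normaliser of the closure of the cores is strongly embedded

When every involution centraliser is 2-constrained, `O(G) = 1`, and a Sylow 2-subgroup has rank at
least three and connected four-groups, the cores of the involution centralisers are trivial and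
`G` is of characteristic 2 type.
-/

set_option autoImplicit false
set_option linter.style.haveILetI false

namespace CfsgLib.FTApps.CoreClosure

open Subgroup CfsgLib.Components CfsgLib.Components.Signalizer CfsgLib.Components.SFT
  CfsgLib.Involution CfsgLib.Involution.Dihedral

universe u

variable {G : Type u} [Group G] [Finite G]

/-- The join of the cores of the centralisers of the involutions of a four-group. -/
abbrev closureOf (U : Subgroup G) : Subgroup G :=
  vertexClosure (fun a => Cfsg.centralizerPPrimeCore 2 a) U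

theorem elementary_of_four {U : Subgroup G} (hU : IsKleinFour U) :
    Cfsg.IsElementaryAbelian 2 U :=
  ⟨IsKleinFour.isMulCommutative, fun a ha => by
    have h := Monoid.pow_exponent_eq_one (⟨a, ha⟩ : U)
    rw [hU.exponent_two] at h
    exact congrArg Subtype.val h⟩

omit [Finite G] in
theorem klein_map {H : Type*} [Group H] {U : Subgroup H} (hU : IsKleinFour U) (f : H →* G)
    (hf : Function.Injective f) : IsKleinFour (U.map f) :=
  ⟨(card_map_of_injective hf).trans hU.card_four,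
    (Monoid.exponent_eq_of_mulEquiv (U.equivMapOfInjective f hf)).symm.trans hU.exponent_two⟩

omit [Finite G] in
theorem mem_zpowers_two {t x : G} (ht : orderOf t = 2) : x ∈ zpowers t ↔ x = 1 ∨ x = t := by
  refine ⟨fun h => ?_, ?_⟩
  · obtain ⟨i, rfl⟩ := mem_zpowers_iff.1 h
    rw [← zpow_mod_orderOf, ht]
    rcases Int.emod_two_eq_zero_or_one i with h | h <;> simp [h]
  · rintro (rfl | rfl)
    exacts [one_mem _, mem_zpowers _]

/-- Constrained involution centralisers and connected four-groups give an odd closure. -/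
theorem exists_closure
    (hL : ∀ t : G, orderOf t = 2 → Cfsg.pLayer 2 ↥(centralizer ({t} : Set G)) = ⊥)
    (S : Sylow 2 G) {E : Subgroup G} (hES : E ≤ (S : Subgroup G))
    (hE : Cfsg.IsElementaryAbelian 2 E) (hE8 : 2 ^ 3 ≤ Nat.card E)
    (hconn : Cfsg.IsFourConnected ↥(S : Subgroup G)) :
    ∃ W : Subgroup G, Odd (Nat.card W) ∧
      ∀ U : Subgroup G, U ≤ (S : Subgroup G) → IsKleinFour U → closureOf U = W := by
  classical
  haveI : Fact (Nat.Prime 2) := ⟨Nat.prime_two⟩
  set θ : G → Subgroup G := fun a => Cfsg.centralizerPPrimeCore 2 a with hθdef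
  have hodd : ∀ a, ¬ 2 ∣ Nat.card ↥(θ a) := fun a => not_dvd_centralizerPPrimeCore a
  have hC : ∀ a : G, Good 2 a → θ a ≤ centralizer ({a} : Set G) ∧ ¬ 2 ∣ Nat.card ↥(θ a) ∧
      Group.IsSolvable ↥(θ a) := fun a _ =>
    ⟨centralizerPPrimeCore_le a, hodd a,
      OddOrder.Final.oddSolvable _ (Nat.odd_iff.2 (by have := hodd a; omega))⟩
  have heq : ∀ a g : G, Good 2 a → θ (g * a * g⁻¹) = (θ a).map (MulAut.conj g).toMonoidHom :=
    fun a g _ => map_conj_core a g
  have hbal : ∀ a b : G, Good 2 a → Good 2 b → a * b = b * a →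
      θ a ⊓ centralizer {b} ≤ θ b := fun a b ha hb hab =>
    core_pow_inf_centralizer_le (k := 1) hab (by rw [pow_one]; exact ha.1) (hL b hb.1)
  obtain ⟨hWm, -⟩ := solvable_complete hE hE8 (functor_of_big hC heq hbal hE hE8)
  refine ⟨vertexClosure θ E, Nat.odd_iff.2 (Nat.two_dvd_ne_zero.1 hWm.2.1), fun U hUS hU => ?_⟩
  have hadj : ∀ U V : Subgroup G, IsKleinFour U → IsKleinFour V →
      (∀ a ∈ U, ∀ b ∈ V, a * b = b * a) → vertexClosure θ U = vertexClosure θ V := by
    intro U V hU hV hc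
    by_cases hUV : U = V
    · rw [hUV]
    have hsup := elementary_sup (elementary_of_four hU) (elementary_of_four hV)
      (fun f hf => mem_centralizer_iff.2 fun e he => hc e he f hf)
    obtain ⟨n, hn⟩ := (isPGroup_of_elementary hsup).exists_card_eq
    have h8 : 2 ^ 3 ≤ Nat.card ↥(U ⊔ V) := by
      have hlt : Nat.card U < Nat.card ↥(U ⊔ V) := by
        refine lt_of_le_of_ne (card_le_of_le le_sup_left) fun e => hUV ?_
        have h1 := eq_of_le_of_card_ge le_sup_left e.ge
        refine (eq_of_le_of_card_ge ?_ (by rw [hU.card_four, hV.card_four])).symm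
        rw [h1]; exact le_sup_right
      rw [hU.card_four, hn, show 4 = 2 ^ 2 by norm_num] at hlt
      rw [hn]
      exact Nat.pow_le_pow_right (by norm_num) ((Nat.pow_lt_pow_iff_right (le_refl 2)).1 hlt)
    rw [vertexClosure_eq hC heq hbal hsup h8 le_sup_left (by rw [hU.card_four]; norm_num),
      vertexClosure_eq hC heq hbal hsup h8 le_sup_right (by rw [hV.card_four]; norm_num)]
  obtain ⟨x, hx, hx1⟩ : ∃ x ∈ E, x ≠ 1 := E.bot_or_exists_ne_one.resolve_left fun h => by
    rw [h, card_bot] at hE8; norm_num at hE8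
  obtain ⟨y, hy, hyx⟩ : ∃ y ∈ E, y ∉ zpowers x := by
    by_contra h
    push Not at h
    have h1 := card_le_of_le (show E ≤ zpowers x from h)
    rw [Nat.card_zpowers, orderOf_eq_prime (hE.2 x hx) hx1] at h1
    norm_num at hE8
    omega
  set U₀ := zpowers x ⊔ zpowers y with hU₀def
  have hU₀E : U₀ ≤ E := sup_le (zpowers_le.2 hx) (zpowers_le.2 hy)
  have hU₀ : IsKleinFour U₀ := kleinFour_sup (orderOf_eq_prime (hE.2 x hx) hx1)
    (orderOf_eq_prime (hE.2 y hy) fun e => hyx (e ▸ one_mem _))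
    (fun e => hyx (e ▸ mem_zpowers x)) (commute_of_mem hE hx hy)
  have hU₀W : vertexClosure θ U₀ = vertexClosure θ E :=
    vertexClosure_eq hC heq hbal hE hE8 hU₀E (by rw [hU₀.card_four]; norm_num)
  have hin : ∀ {V : Subgroup G}, V ≤ (S : Subgroup G) → IsKleinFour V →
      IsKleinFour (V.subgroupOf (S : Subgroup G)) := fun {V} hV hV4 =>
    ⟨(Nat.card_congr (subgroupOfEquivOfLe hV).toEquiv).trans hV4.card_four,
      (Monoid.exponent_eq_of_mulEquiv (subgroupOfEquivOfLe hV)).trans hV4.exponent_two⟩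
  have key : ∀ V, Relation.ReflTransGen (fun A B : Subgroup ↥(S : Subgroup G) =>
      IsKleinFour A ∧ IsKleinFour B ∧ ∀ a ∈ A, ∀ b ∈ B, a * b = b * a)
      (U₀.subgroupOf (S : Subgroup G)) V →
      vertexClosure θ (V.map (S : Subgroup G).subtype) = vertexClosure θ E := by
    intro V h
    induction h with
    | refl => rw [map_subgroupOf_eq_of_le (hU₀E.trans hES)]; exact hU₀W
    | tail _ h ih =>
      refine (hadj _ _ (klein_map h.2.1 _ (subtype_injective _))
        (klein_map h.1 _ (subtype_injective _)) ?_).trans ih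
      rintro _ ⟨a, ha, rfl⟩ _ ⟨b, hb, rfl⟩
      rw [← map_mul, ← map_mul, h.2.2 b hb a ha]
  have := key _ (hconn _ _ (hin (hU₀E.trans hES) hU₀) (hin hUS hU))
  rwa [map_subgroupOf_eq_of_le hUS] at this

/-- A central involution and a second one spanning a normal four-group. -/
theorem exists_normal_pair (S : Sylow 2 G) {E : Subgroup G} (hES : E ≤ (S : Subgroup G))
    (hE : Cfsg.IsElementaryAbelian 2 E) (hE8 : 2 ^ 3 ≤ Nat.card E) :
    ∃ z v : G, z ∈ (S : Subgroup G) ∧ v ∈ (S : Subgroup G) ∧ orderOf z = 2 ∧ orderOf v = 2 ∧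
      z ≠ v ∧ (∀ g ∈ (S : Subgroup G), Commute g z) ∧
      ∀ g ∈ (S : Subgroup G), g * v * g⁻¹ * v⁻¹ ∈ zpowers z := by
  haveI : Fact (Nat.Prime 2) := ⟨Nat.prime_two⟩
  obtain ⟨U, hUn, hUc, hU2⟩ := NormalFour.exists_normal_four (R := ↥(S : Subgroup G)) S.isPGroup'
    (E := E.subgroupOf (S : Subgroup G))
    (by rw [Nat.card_congr (subgroupOfEquivOfLe hES).toEquiv]; simpa using hE8)
    (fun e he => Subtype.ext (hE.2 e.1 he))
  haveI := hUn
  obtain ⟨z, hzU, hz1, -, hzc⟩ :=
    CfsgLib.Fusion.NormalRankTwo.exists_central_of_lt S.isPGroup' (M := ⊥) (N := U) fun h => by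
      rw [le_bot_iff.1 h, card_bot] at hUc; omega
  have hzc' : ∀ g : ↥(S : Subgroup G), Commute g z := fun g =>
    commutatorElement_eq_one_iff_mul_comm.1 (mem_bot.1 (hzc g))
  have hzo : orderOf z = 2 := orderOf_eq_prime (hU2 z hzU) fun e => hz1 (mem_bot.2 e)
  obtain ⟨v, hvU, hvz⟩ : ∃ v ∈ U, v ∉ zpowers z := by
    by_contra h
    push Not at h
    have h1 := card_le_of_le (show U ≤ zpowers z from h)
    rw [Nat.card_zpowers, hzo] at h1
    omega
  have hvo : orderOf v = 2 := orderOf_eq_prime (hU2 v hvU) fun e => hvz (e ▸ one_mem _)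
  refine ⟨z, v, z.2, v.2, (Subgroup.orderOf_coe z).trans hzo, (Subgroup.orderOf_coe v).trans hvo,
    fun e => hvz (Subtype.ext e ▸ mem_zpowers z), fun g hg => congrArg Subtype.val (hzc' ⟨g, hg⟩).eq,
    fun g hg => ?_⟩
  set w := (⟨g, hg⟩ : ↥(S : Subgroup G)) * v * (⟨g, hg⟩ : ↥(S : Subgroup G))⁻¹ with hw
  have hwU : w ∈ U := hUn.conj_mem v hvU _
  have hzU' : zpowers z ≤ U := zpowers_le.2 hzU
  have hidx : ((zpowers z).subgroupOf U).index = 2 := by
    have h1 := ((zpowers z).subgroupOf U).card_mul_index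
    rw [Nat.card_congr (subgroupOfEquivOfLe hzU').toEquiv, Nat.card_zpowers, hzo, hUc] at h1
    omega
  have hwz : w ∉ zpowers z := fun h => hvz (by
    have h' : w * 1 = w := mul_one w
    rcases (mem_zpowers_two hzo).1 h with e | e
    · rw [hw, mul_inv_eq_one, mul_eq_left] at e
      exact e ▸ one_mem _
    · rw [hw, mul_inv_eq_iff_eq_mul, ← (hzc' _).eq, mul_left_cancel_iff] at e
      exact e ▸ mem_zpowers z)
  have h := (Subgroup.mul_mem_iff_of_index_two hidx (a := ⟨w, hwU⟩) (b := (⟨v, hvU⟩ : U)⁻¹)).2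
    (iff_of_false hwz fun h => hvz ((Subgroup.inv_mem_iff _).1 h))
  obtain ⟨i, hi⟩ := mem_zpowers_iff.1 (mem_subgroupOf.1 h)
  exact mem_zpowers_iff.2 ⟨i, congrArg Subtype.val hi⟩

/-- The closure, the Sylow subgroup and the triviality hypotheses. -/
structure Data (S : Sylow 2 G) (W : Subgroup G) : Prop where
  layer : ∀ t : G, orderOf t = 2 → Cfsg.pLayer 2 ↥(centralizer ({t} : Set G)) = ⊥
  pair : ∃ z v : G, z ∈ (S : Subgroup G) ∧ v ∈ (S : Subgroup G) ∧ orderOf z = 2 ∧ orderOf v = 2 ∧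
      z ≠ v ∧ (∀ g ∈ (S : Subgroup G), Commute g z) ∧
      ∀ g ∈ (S : Subgroup G), g * v * g⁻¹ * v⁻¹ ∈ zpowers z
  closure : ∀ U : Subgroup G, U ≤ (S : Subgroup G) → IsKleinFour U → closureOf U = W

namespace Data

variable {S : Sylow 2 G} {W : Subgroup G} (d : Data S W)

theorem closureOf_conj (g : G) (U : Subgroup G) :
    closureOf (U.map (MulAut.conj g).toMonoidHom) ≥
      (closureOf U).map (MulAut.conj g).toMonoidHom := by
  rw [ge_iff_le, Subgroup.map_iSup]
  refine iSup_le fun e => ?_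
  rw [← map_conj_core]
  exact le_iSup (fun e : {e : G // e ∈ U.map (MulAut.conj g).toMonoidHom ∧ e ≠ 1} =>
    Cfsg.centralizerPPrimeCore 2 (e : G))
    ⟨g * e * g⁻¹, mem_map_of_mem _ e.2.1, fun h => e.2.2 (conj_eq_one_iff.1 h)⟩

include d

/-- An element carrying a four-group of `S` into `S` normalises the closure. -/
theorem mem_normalizer_of_conj {g : G} {U : Subgroup G} (hU : IsKleinFour U)
    (hUS : U ≤ (S : Subgroup G)) (hgU : U.map (MulAut.conj g).toMonoidHom ≤ (S : Subgroup G)) :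
    g ∈ normalizer (W : Set G) := by
  refine Coprime.mem_normalizer_of_conj_map_le ?_
  have h := closureOf_conj g U
  rw [d.closure U hUS hU, d.closure _ hgU (klein_map hU _ (MulAut.conj g).injective)] at h
  exact fun x hx => h ⟨x, hx, rfl⟩

/-- An involution of `S` lies in a four-group of `S`. -/
theorem exists_four {t : G} (ht : orderOf t = 2) (htS : t ∈ (S : Subgroup G)) :
    ∃ U : Subgroup G, U ≤ (S : Subgroup G) ∧ t ∈ U ∧ IsKleinFour U := by
  obtain ⟨z, v, hzS, hvS, hz, hv, hzv, hzc, -⟩ := d.pair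
  by_cases htz : t = z
  · exact ⟨_, sup_le (zpowers_le.2 htS) (zpowers_le.2 hvS), mem_sup_left (mem_zpowers t),
      kleinFour_sup ht hv (htz ▸ hzv) (htz ▸ (hzc v hvS).eq.symm)⟩
  · exact ⟨_, sup_le (zpowers_le.2 htS) (zpowers_le.2 hzS), mem_sup_left (mem_zpowers t),
      kleinFour_sup ht hz htz (hzc t htS).eq⟩

theorem sylow_le : (S : Subgroup G) ≤ normalizer (W : Set G) := by
  obtain ⟨z, -, hzS, -, hz, -⟩ := d.pair
  obtain ⟨U, hUS, -, hU⟩ := d.exists_four hz hzS
  intro g hg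
  refine d.mem_normalizer_of_conj hU hUS ?_
  rintro _ ⟨x, hx, rfl⟩
  exact mul_mem (mul_mem hg (hUS hx)) (inv_mem hg)

/-- The 2-subgroups of `N(W)` are conjugate into `S` inside `N(W)`. -/
theorem exists_conj_le {T : Subgroup G} (hT : IsPGroup 2 T) (hTM : T ≤ normalizer (W : Set G)) :
    ∃ m ∈ normalizer (W : Set G), ∀ x ∈ T, m * x * m⁻¹ ∈ (S : Subgroup G) := by
  haveI : Fact (Nat.Prime 2) := ⟨Nat.prime_two⟩
  obtain ⟨m, hm⟩ := Involution.Basic.exists_conj_le (S.subtype d.sylow_le)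
    (Q := T.subgroupOf (normalizer (W : Set G))) (hT.comap_of_injective _ (subtype_injective _))
  exact ⟨m, m.2, fun x hx => hm ⟨x, hTM hx⟩ hx⟩

/-- An element carrying a four-group of `N(W)` into a 2-subgroup of `N(W)` lies in `N(W)`. -/
theorem mem_of_conj {U T : Subgroup G} (hU : IsKleinFour U) (hUM : U ≤ normalizer (W : Set G))
    (hT : IsPGroup 2 T) (hTM : T ≤ normalizer (W : Set G)) {g : G}
    (hg : U.map (MulAut.conj g).toMonoidHom ≤ T) : g ∈ normalizer (W : Set G) := by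
  obtain ⟨m, hm, hmU⟩ := d.exists_conj_le (isPGroup_of_elementary (elementary_of_four hU)) hUM
  obtain ⟨k, hk, hkT⟩ := d.exists_conj_le hT hTM
  have h := d.mem_normalizer_of_conj (g := k * g * m⁻¹) (U := U.map (MulAut.conj m).toMonoidHom)
    (klein_map hU _ (MulAut.conj m).injective) (by rintro _ ⟨x, hx, rfl⟩; exact hmU x hx) (by
      rintro _ ⟨_, ⟨x, hx, rfl⟩, rfl⟩
      have h1 := hkT _ (hg ⟨x, hx, rfl⟩)
      simpa [mul_assoc] using h1)
  have := mul_mem (mul_mem (inv_mem hk) h) hm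
  simpa [mul_assoc] using this

/-- The core of the centraliser of an involution of `N(W)` lies in `W`. -/
theorem core_le {t : G} (ht : orderOf t = 2) (htM : t ∈ normalizer (W : Set G)) :
    Cfsg.centralizerPPrimeCore 2 t ≤ W := by
  haveI : Fact (Nat.Prime 2) := ⟨Nat.prime_two⟩
  obtain ⟨m, hm, hmt⟩ := d.exists_conj_le (T := zpowers t)
    (IsPGroup.of_card (n := 1) (by rw [Nat.card_zpowers, ht, pow_one])) (zpowers_le.2 htM)
  have htS := hmt t (mem_zpowers t)
  have ht' : orderOf (m * t * m⁻¹) = 2 := (Dihedral.orderOf_conj m t).trans ht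
  obtain ⟨U, hUS, htU, hU⟩ := d.exists_four ht' htS
  have h1 : Cfsg.centralizerPPrimeCore 2 (m * t * m⁻¹) ≤ W := by
    rw [← d.closure U hUS hU]
    exact le_iSup (fun e : {e : G // e ∈ U ∧ e ≠ 1} => Cfsg.centralizerPPrimeCore 2 (e : G))
      ⟨_, htU, ne_one ht'⟩
  rw [map_conj_core] at h1
  intro x hx
  have h2 := CfsgLib.Components.SFT.conj_inv_mem_of_mem_normalizer hm (h1 ⟨x, hx, rfl⟩)
  simpa [mul_assoc] using h2

/-- The centraliser of an involution of `S`, when `C_S(t)` is a Sylow subgroup of it. -/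
theorem centralizer_le_of_extremal {t : G} (ht : orderOf t = 2) (htS : t ∈ (S : Subgroup G))
    (hmax : ∀ Q : Subgroup G, IsPGroup 2 Q → (S : Subgroup G) ⊓ centralizer ({t} : Set G) ≤ Q →
      Q ≤ centralizer ({t} : Set G) → Q ≤ (S : Subgroup G) ⊓ centralizer ({t} : Set G)) :
    centralizer ({t} : Set G) ≤ normalizer (W : Set G) := by
  classical
  haveI : Fact (Nat.Prime 2) := ⟨Nat.prime_two⟩
  set M := normalizer (W : Set G) with hM
  set X := centralizer ({t} : Set G) with hX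
  set T := (S : Subgroup G) ⊓ X with hT
  have htX : t ∈ X := mem_centralizer_singleton_iff.2 rfl
  have hTp : IsPGroup 2 (T.subgroupOf X) :=
    (S.isPGroup'.to_le inf_le_left).comap_of_injective _ (subtype_injective _)
  obtain ⟨Tx, hTx⟩ := hTp.exists_le_sylow
  have hTxS : ∀ {x : X}, x ∈ (Tx : Subgroup X) → (x : G) ∈ (S : Subgroup G) := fun {x} hx => by
    refine (hmax ((Tx : Subgroup X).map X.subtype) (Tx.isPGroup'.map _) ?_ (map_subtype_le _)
      ⟨x, hx, rfl⟩).1
    exact fun y hy => ⟨⟨y, hy.2⟩, hTx (mem_subgroupOf.2 hy), rfl⟩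
  set q := QuotientGroup.mk' (Cfsg.pPrimeCore 2 X) with hq
  set N := Cfsg.pPrimePCore 2 X with hN
  have hNmem : ∀ {x : X}, x ∈ N ↔ q x ∈ Cfsg.pCore 2 (X ⧸ Cfsg.pPrimeCore 2 X) := Iff.rfl
  haveI : N.Normal := Subgroup.Normal.comap inferInstance _
  obtain ⟨Pn, hPn⟩ := CfsgLib.NT.SylowCount.exists_sylow_inf Tx N
  set P := (Tx : Subgroup X) ⊓ N with hP
  have hPmap : P.map q = Cfsg.pCore 2 (X ⧸ Cfsg.pPrimeCore 2 X) := by
    rw [← hPn]; exact sylow_pPrimePCore_map Pn
  have hcons := (centralizer_pCore_le_iff_layer (p := 2)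
    (pPrimeCore_quotient_eq_bot (p := 2) (G := X))).2 (pLayer_eq_bot_iff.1 (d.layer t ht))
  set t' : X := ⟨t, htX⟩ with ht'
  have htc : ∀ x : X, Commute x t' := fun x =>
    Subtype.ext (mem_centralizer_singleton_iff.1 x.2)
  have htT : t' ∈ (Tx : Subgroup X) := hTx (mem_subgroupOf.2 ⟨htS, htX⟩)
  have hzle : zpowers (q t') ≤ Cfsg.pCore 2 (X ⧸ Cfsg.pPrimeCore 2 X) := by
    haveI : (zpowers (q t')).Normal := ⟨fun y hy g => by
      obtain ⟨i, rfl⟩ := mem_zpowers_iff.1 hy
      obtain ⟨g, rfl⟩ := QuotientGroup.mk'_surjective _ g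
      rw [(((htc g).map q).zpow_right i).eq, mul_inv_cancel_right]
      exact zpow_mem (mem_zpowers _) i⟩
    refine Solvable.Cores.le_pCore ?_
    rw [← MonoidHom.map_zpowers]
    exact (IsPGroup.of_card (n := 1) (by rw [Nat.card_zpowers, ← Subgroup.orderOf_coe, ht,
      pow_one])).map q
  have htN : t' ∈ N := hNmem.2 (hzle (mem_zpowers _))
  -- a four-group in `P`
  obtain ⟨U, hUP, hU⟩ : ∃ U : Subgroup G, U ≤ P.map X.subtype ∧ IsKleinFour U := by
    obtain ⟨z, v, hzS, hvS, hz, hv, hzv, hzc, hvc⟩ := d.pair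
    have hmem : ∀ w ∈ (S : Subgroup G), orderOf w = 2 → t ≠ w → ∀ hw : w ∈ X,
        (⟨w, hw⟩ : X) ∈ N → ∃ U : Subgroup G, U ≤ P.map X.subtype ∧ IsKleinFour U :=
      fun w hwS hwo hne hw hwN => ⟨_, sup_le
        (zpowers_le.2 ⟨t', ⟨htT, htN⟩, rfl⟩)
        (zpowers_le.2 ⟨⟨w, hw⟩, ⟨hTx (mem_subgroupOf.2 ⟨hwS, hw⟩), hwN⟩, rfl⟩),
        kleinFour_sup ht hwo hne (mem_centralizer_singleton_iff.1 hw).symm⟩
    by_cases htz : t = z
    swap
    · have hzX : z ∈ X := mem_centralizer_singleton_iff.2 (hzc t htS).symm.eq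
      refine hmem z hzS hz htz hzX (hNmem.2 (hcons (mem_centralizer_iff.2 fun y hy => ?_)))
      rw [SetLike.mem_coe, ← hPmap] at hy
      obtain ⟨p, hp, rfl⟩ := hy
      rw [← map_mul, ← map_mul]
      exact congrArg q (Subtype.ext (hzc (p : G) (hTxS hp.1)).eq)
    have hvX : v ∈ X := mem_centralizer_singleton_iff.2 (htz ▸ (hzc v hvS).eq)
    by_cases hvN : (⟨v, hvX⟩ : X) ∈ N
    · exact hmem v hvS hv (htz ▸ hzv) hvX hvN
    exfalso
    set Q := X ⧸ Cfsg.pPrimeCore 2 X with hQ
    set Z := zpowers (q t') with hZ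
    haveI : Z.Normal := ⟨fun y hy g => by
      obtain ⟨i, rfl⟩ := mem_zpowers_iff.1 hy
      obtain ⟨g, rfl⟩ := QuotientGroup.mk'_surjective _ g
      rw [(((htc g).map q).zpow_right i).eq, mul_inv_cancel_right]
      exact zpow_mem (mem_zpowers _) i⟩
    set Y := (centralizer (((Cfsg.pCore 2 Q).map (QuotientGroup.mk' Z) : Subgroup (Q ⧸ Z)) :
      Set (Q ⧸ Z))).comap (QuotientGroup.mk' Z) with hY
    haveI : ((Cfsg.pCore 2 Q).map (QuotientGroup.mk' Z)).Normal :=
      Subgroup.Normal.map inferInstance _ (QuotientGroup.mk'_surjective _)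
    haveI : Y.Normal := Subgroup.Normal.comap inferInstance _
    have hYmem : ∀ {y : Q}, y ∈ Y ↔ ∀ p ∈ Cfsg.pCore 2 Q, y * p * y⁻¹ * p⁻¹ ∈ Z := fun {y} => by
      rw [hY, mem_comap, mem_centralizer_iff]
      constructor
      · intro h p hp
        rw [← QuotientGroup.eq_one_iff]
        change QuotientGroup.mk' Z (y * p * y⁻¹ * p⁻¹) = 1
        rw [map_mul, map_mul, map_mul, map_inv, map_inv, ← h _ (mem_map_of_mem _ hp),
          mul_inv_cancel_right, mul_inv_cancel]
      · rintro h _ ⟨p, hp, rfl⟩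
        have h1 := (QuotientGroup.eq_one_iff _).2 (h p hp)
        change QuotientGroup.mk' Z (y * p * y⁻¹ * p⁻¹) = 1 at h1
        rw [map_mul, map_mul, map_mul, map_inv, map_inv, mul_inv_eq_one,
          mul_inv_eq_iff_eq_mul] at h1
        exact h1.symm
    have hYle : Y ≤ Cfsg.pCore 2 Q := Solvable.Cores.le_pCore (IsPGroup.of_card
      (n := (Nat.card Y).factorization 2) (by
        refine Nat.eq_pow_of_factorization_eq_single Nat.card_pos.ne' ?_
        ext ℓ
        rcases eq_or_ne ℓ 2 with rfl | hℓ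
        · simp
        rw [Finsupp.single_eq_of_ne hℓ]
        by_contra hne
        have hℓp : ℓ.Prime := Nat.prime_of_mem_primeFactors
          (Nat.support_factorization (Nat.card Y) ▸ Finsupp.mem_support_iff.2 hne)
        haveI := Fact.mk hℓp
        obtain ⟨y, hy⟩ := exists_prime_orderOf_dvd_card' ℓ
          (Nat.dvd_of_factorization_pos hne)
        rw [← Subgroup.orderOf_coe] at hy
        have hyC : (y : Q) ∈ Cfsg.pCore 2 Q := hcons (mem_centralizer_iff.2 fun p hp => ?_)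
        · obtain ⟨i, hi⟩ := IsPGroup.iff_orderOf.1 (Solvable.Cores.isPGroup_pCore 2) ⟨_, hyC⟩
          rw [← Subgroup.orderOf_coe] at hi
          exact hℓ ((Nat.prime_dvd_prime_iff_eq hℓp Nat.prime_two).1
            (hℓp.dvd_of_dvd_pow (hy ▸ hi.dvd)))
        obtain ⟨c, hc⟩ : ∃ c, c = p⁻¹ * ((y : Q) * p * (y : Q)⁻¹) := ⟨_, rfl⟩
        have hcZ : c ∈ Z := by
          have h1 := (inferInstance : Z.Normal).conj_mem _ (hYmem.1 y.2 p hp) p⁻¹
          rw [inv_inv] at h1
          rw [hc]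
          convert h1 using 1
          group
        have hcy : Commute (y : Q) c := by
          obtain ⟨i, hi⟩ := mem_zpowers_iff.1 hcZ
          obtain ⟨x, hx⟩ := QuotientGroup.mk'_surjective _ (y : Q)
          rw [← hi, ← hx]
          exact ((htc x).map q).zpow_right i
        have hc1 : c = 1 := OddOrder.Stabilize.eq_one_of_conj_eq_mul
          (a := (y : Q)) (h := p) (by rw [hc, mul_inv_cancel_left]) hcy (by
            refine Nat.Coprime.coprime_dvd_right (Subgroup.orderOf_dvd_natCard Z hcZ) ?_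
            rw [hy, hZ, Nat.card_zpowers]
            refine ((Nat.coprime_primes hℓp Nat.prime_two).2 hℓ).coprime_dvd_right
              ((orderOf_map_dvd q t').trans ?_)
            rw [← Subgroup.orderOf_coe, ht])
        rw [hc, inv_mul_eq_one] at hc1
        exact (mul_inv_eq_iff_eq_mul.1 hc1.symm).symm))
    refine hvN (hNmem.2 (hYle (hYmem.2 fun p hp => ?_)))
    rw [← hPmap] at hp
    obtain ⟨p, hp, rfl⟩ := hp
    rw [← map_inv, ← map_inv, ← map_mul, ← map_mul, ← map_mul, hZ, ← MonoidHom.map_zpowers]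
    refine mem_map_of_mem q ?_
    obtain ⟨i, hi⟩ := mem_zpowers_iff.1 (inv_mem (hvc _ (hTxS hp.1)))
    refine mem_zpowers_iff.2 ⟨i, Subtype.ext ?_⟩
    rw [← htz] at hi
    change t ^ i = v * (p : G) * v⁻¹ * (p : G)⁻¹
    rw [hi]
    group
  -- the Frattini argument
  have hPM : P.map X.subtype ≤ M := by
    rintro _ ⟨x, hx, rfl⟩
    exact d.sylow_le (hTxS hx.1)
  have hfr := Pn.normalizer_sup_eq_top
  rw [hPn] at hfr
  intro g hg
  have hgt : (⟨g, hg⟩ : X) ∈ normalizer (P : Set X) ⊔ N := hfr ▸ mem_top _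
  refine (show normalizer (P : Set X) ⊔ N ≤ M.subgroupOf X from sup_le ?_ ?_) hgt
  · intro x hx
    refine mem_subgroupOf.2 (d.mem_of_conj hU (hUP.trans hPM)
      ((Tx.isPGroup'.to_le inf_le_left).map X.subtype) hPM ?_)
    rintro _ ⟨y, hy, rfl⟩
    obtain ⟨p, hp, rfl⟩ := hUP hy
    exact ⟨x * p * x⁻¹, CfsgLib.Components.SFT.conj_mem_of_mem_normalizer hx hp, rfl⟩
  · intro x hx
    obtain ⟨p, hp, hqp⟩ : q x ∈ P.map q := hPmap.symm ▸ hNmem.1 hx
    have h1 : p⁻¹ * x ∈ Cfsg.pPrimeCore 2 X := QuotientGroup.eq.1 hqp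
    have h2 : ((p⁻¹ * x : X) : G) ∈ M := le_normalizer
      (d.core_le ht (d.sylow_le htS) (mem_map_of_mem _ h1))
    have h3 := mul_mem (hPM ⟨p, hp, rfl⟩) h2
    refine mem_subgroupOf.2 ?_
    simpa using h3

/-- The centralisers of the involutions of `N(W)` lie in `N(W)`. -/
theorem centralizer_le {t : G} (ht : orderOf t = 2) (htM : t ∈ normalizer (W : Set G)) :
    centralizer ({t} : Set G) ≤ normalizer (W : Set G) := by
  classical
  haveI : Fact (Nat.Prime 2) := ⟨Nat.prime_two⟩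
  set M := normalizer (W : Set G) with hM
  set X := centralizer ({t} : Set G) with hX
  obtain ⟨m, hm, hmt⟩ := d.exists_conj_le (T := zpowers t)
    (IsPGroup.of_card (n := 1) (by rw [Nat.card_zpowers, ht, pow_one])) (zpowers_le.2 htM)
  obtain ⟨U₁, hU₁S, htU₁, hU₁⟩ :=
    d.exists_four ((Dihedral.orderOf_conj m t).trans ht) (hmt t (mem_zpowers t))
  set U := U₁.map (MulAut.conj m⁻¹).toMonoidHom with hUdef
  have hU : IsKleinFour U := klein_map hU₁ _ (MulAut.conj m⁻¹).injective
  have hUM : U ≤ M := by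
    rintro _ ⟨x, hx, rfl⟩
    exact mul_mem (mul_mem (inv_mem hm) (d.sylow_le (hU₁S hx))) (inv_mem (inv_mem hm))
  have htU : t ∈ U := ⟨_, htU₁, by simp [mul_assoc]⟩
  have hUX : U ≤ X := fun x hx =>
    mem_centralizer_singleton_iff.2 (commute_of_mem (elementary_of_four hU) hx htU)
  obtain ⟨Tx, hTx⟩ := ((isPGroup_of_elementary (elementary_of_four hU)).comap_of_injective _
    (subtype_injective X)).exists_le_sylow
  set T := (Tx : Subgroup X).map X.subtype with hTdef
  have hTp : IsPGroup 2 T := Tx.isPGroup'.map _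
  have hUT : U ≤ T := fun x hx => ⟨⟨x, hUX hx⟩, hTx (mem_subgroupOf.2 hx), rfl⟩
  have hTM : T ≤ M := by
    by_contra hnot
    obtain ⟨x, hx, hxN, hxn⟩ := CfsgLib.LocalEven.SwapInjective.exists_normalizer_not_mem hTp
      (lt_of_le_of_ne inf_le_left fun e => hnot (inf_eq_left.1 e) : T ⊓ M < T)
    refine hxn ⟨hx, d.mem_of_conj hU hUM (hTp.to_le inf_le_left) inf_le_right ?_⟩
    rintro _ ⟨y, hy, rfl⟩
    exact CfsgLib.Components.SFT.conj_mem_of_mem_normalizer hxN ⟨hUT hy, hUM hy⟩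
  obtain ⟨k, hk, hkT⟩ := d.exists_conj_le hTp hTM
  set s := k * t * k⁻¹ with hs
  have hsS : s ∈ (S : Subgroup G) := hkT t (hUT htU)
  have hconj : ∀ {x : G}, x ∈ centralizer ({s} : Set G) ↔ k⁻¹ * x * k ∈ X := fun {x} => by
    rw [mem_centralizer_singleton_iff, hX, mem_centralizer_singleton_iff, hs]
    constructor
    · intro h
      calc k⁻¹ * x * k * t = k⁻¹ * (x * (k * t * k⁻¹)) * k := by group
        _ = _ := by rw [h]; group
    · intro h
      calc x * (k * t * k⁻¹) = k * (k⁻¹ * x * k * t) * k⁻¹ := by group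
        _ = _ := by rw [h]; group
  have h := d.centralizer_le_of_extremal (t := s) ((Dihedral.orderOf_conj k t).trans ht) hsS ?_
  · intro x hx
    have h1 : k * x * k⁻¹ ∈ centralizer ({s} : Set G) := hconj.2 (by simpa [mul_assoc] using hx)
    have := mul_mem (mul_mem (inv_mem hk) (h h1)) hk
    simpa [mul_assoc] using this
  intro Q hQ hle hQX
  set Q' := (Q.map (MulAut.conj k⁻¹).toMonoidHom).subgroupOf X with hQ'
  have hQ'le : ∀ x ∈ Q, k⁻¹ * x * k ∈ X := fun x hx => hconj.1 (hQX hx)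
  have hTQ : (Tx : Subgroup X) ≤ Q' := fun x hx => by
    have h1 : k * (x : G) * k⁻¹ ∈ Q := hle ⟨hkT _ ⟨x, hx, rfl⟩, hconj.2 (by
      simpa [mul_assoc] using x.2)⟩
    exact mem_subgroupOf.2 ⟨_, h1, by simp [mul_assoc]⟩
  have heq := Tx.is_maximal' ((hQ.map _).comap_of_injective _ (subtype_injective _)) hTQ
  intro x hx
  refine ⟨?_, hQX hx⟩
  have h1 : (⟨k⁻¹ * x * k, hQ'le x hx⟩ : X) ∈ Q' :=
    mem_subgroupOf.2 ⟨x, hx, by simp [mul_assoc]⟩
  rw [show Q' = (Tx : Subgroup X) from heq] at h1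
  have h2 := hkT _ ⟨_, h1, rfl⟩
  simp [mul_assoc] at h2
  exact h2

/-- The normaliser of the closure is strongly embedded. -/
theorem stronglyEmbedded (hM : normalizer (W : Set G) ≠ ⊤) :
    Cfsg.IsStronglyEmbedded (normalizer (W : Set G)) := by
  haveI : Fact (Nat.Prime 2) := ⟨Nat.prime_two⟩
  refine ⟨hM, ?_, fun g hg => Nat.not_even_iff_odd.1 fun hev => hg ?_⟩
  · obtain ⟨z, -, hzS, -, hz, -⟩ := d.pair
    exact even_iff_two_dvd.2 (hz ▸ Subgroup.orderOf_dvd_natCard _ (d.sylow_le hzS))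
  obtain ⟨s, ⟨hs, t, htM, rfl⟩, hs2⟩ := Involution.Basic.exists_involution_of_even _ hev
  have ht : orderOf t = 2 := (Dihedral.orderOf_conj g t).symm.trans hs2
  obtain ⟨m, hm, hmt⟩ := d.exists_conj_le (T := zpowers t)
    (IsPGroup.of_card (n := 1) (by rw [Nat.card_zpowers, ht, pow_one])) (zpowers_le.2 htM)
  obtain ⟨U₁, hU₁S, htU₁, hU₁⟩ :=
    d.exists_four ((Dihedral.orderOf_conj m t).trans ht) (hmt t (mem_zpowers t))
  set U := U₁.map (MulAut.conj m⁻¹).toMonoidHom with hUdef
  have hU : IsKleinFour U := klein_map hU₁ _ (MulAut.conj m⁻¹).injective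
  have htU : t ∈ U := ⟨_, htU₁, by simp [mul_assoc]⟩
  refine d.mem_of_conj hU ?_ ((isPGroup_of_elementary (elementary_of_four hU)).map _) ?_ le_rfl
  · rintro _ ⟨x, hx, rfl⟩
    exact mul_mem (mul_mem (inv_mem hm) (d.sylow_le (hU₁S hx))) (inv_mem (inv_mem hm))
  · rintro _ ⟨x, hx, rfl⟩
    refine d.centralizer_le hs2 hs (mem_centralizer_singleton_iff.2 ?_)
    exact (show Commute x t from commute_of_mem (elementary_of_four hU) hx htU).map
      (MulAut.conj g).toMonoidHom |>.eq

end Data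

/-- Constrained involution centralisers have trivial cores. -/
theorem core_eq_bot (hO : Cfsg.oddCore G = ⊥)
    (hL : ∀ t : G, orderOf t = 2 → Cfsg.pLayer 2 ↥(centralizer ({t} : Set G)) = ⊥)
    (S : Sylow 2 G) {E : Subgroup G} (hES : E ≤ (S : Subgroup G))
    (hE : Cfsg.IsElementaryAbelian 2 E) (hE8 : 2 ^ 3 ≤ Nat.card E)
    (hconn : Cfsg.IsFourConnected ↥(S : Subgroup G)) {t : G} (ht : orderOf t = 2) :
    Cfsg.centralizerPPrimeCore 2 t = ⊥ := by
  classical
  haveI : Fact (Nat.Prime 2) := ⟨Nat.prime_two⟩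
  obtain ⟨W, hWodd, hWeq⟩ := exists_closure hL S hES hE hE8 hconn
  have d : Data S W := ⟨hL, exists_normal_pair S hES hE hE8, hWeq⟩
  set M := normalizer (W : Set G) with hM
  have hW : W = ⊥ := by
    by_cases htop : M = ⊤
    · haveI : W.Normal := normalizer_eq_top_iff.1 htop
      exact le_bot_iff.1 (hO ▸ ZStar.le_oddCore inferInstance hWodd)
    have h := LocalEven.StrongCore.oddCore_le (d.stronglyEmbedded htop)
    rw [hO, le_bot_iff, Subgroup.map_eq_bot_iff_of_injective _ (subtype_injective _)] at h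
    haveI : (W.subgroupOf M).Normal :=
      (normal_subgroupOf_iff_le_normalizer Subgroup.le_normalizer).2 le_rfl
    have h1 : W.subgroupOf M ≤ Cfsg.oddCore M := ZStar.le_oddCore inferInstance (by
      rwa [Nat.card_congr (subgroupOfEquivOfLe (Subgroup.le_normalizer : W ≤ M)).toEquiv])
    rw [h, le_bot_iff] at h1
    have h2 := congrArg (Subgroup.map M.subtype) h1
    rwa [map_subgroupOf_eq_of_le Subgroup.le_normalizer, Subgroup.map_bot] at h2
  obtain ⟨g, hg⟩ := Involution.Basic.exists_conj_le S (Q := zpowers t)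
    (IsPGroup.of_card (n := 1) (by rw [Nat.card_zpowers, ht, pow_one]))
  have h := d.core_le ((Dihedral.orderOf_conj g t).trans ht) (d.sylow_le (hg t (mem_zpowers t)))
  rw [hW, le_bot_iff, map_conj_core,
    Subgroup.map_eq_bot_iff_of_injective _ (MulAut.conj g).injective] at h
  exact h

/-- A group of characteristic 2 type from its involution centralisers. -/
theorem characteristicTwoType (heven : Even (Nat.card G))
    (hL : ∀ t : G, orderOf t = 2 → Cfsg.pLayer 2 ↥(centralizer ({t} : Set G)) = ⊥)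
    (hcore : ∀ t : G, orderOf t = 2 → Cfsg.centralizerPPrimeCore 2 t = ⊥) :
    Cfsg.IsCharacteristicTwoType G := by
  classical
  haveI : Fact (Nat.Prime 2) := ⟨Nat.prime_two⟩
  refine ⟨heven, fun T hT hT1 => ?_⟩
  set H := normalizer (T : Set G) with hH
  haveI : Nontrivial T := (Subgroup.nontrivial_iff_ne_bot T).2 hT1
  haveI : Nontrivial (center T) := hT.center_nontrivial
  obtain ⟨n, hn0, hn⟩ := (hT.to_subgroup (center T)).nontrivial_iff_card.1 inferInstance
  obtain ⟨⟨⟨t, htT⟩, htZ⟩, hto⟩ := exists_prime_orderOf_dvd_card' (G := center T) 2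
    (hn ▸ dvd_pow_self 2 hn0.ne')
  rw [Subgroup.orderOf_mk, Subgroup.orderOf_mk] at hto
  set X := centralizer ({t} : Set G) with hX
  have hTX : T ≤ X := fun x hx => mem_centralizer_singleton_iff.2
    (congrArg Subtype.val (Subgroup.mem_center_iff.1 htZ ⟨x, hx⟩))
  set Q := Cfsg.pCore 2 H with hQ
  set K := centralizer (Q : Set H) with hK
  haveI : (T.subgroupOf H).Normal :=
    (normal_subgroupOf_iff_le_normalizer Subgroup.le_normalizer).2 le_rfl
  have hTQ : T.subgroupOf H ≤ Q :=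
    Solvable.Cores.le_pCore (hT.comap_of_injective _ (subtype_injective _))
  have hKT : ∀ {k : H}, k ∈ K → ∀ x ∈ T, Commute (k : G) x := fun {k} hk x hx =>
    (congrArg Subtype.val (mem_centralizer_iff.1 hk ⟨x, Subgroup.le_normalizer hx⟩
      (hTQ (mem_subgroupOf.2 hx)))).symm
  have hKX : ∀ {k : H}, k ∈ K → (k : G) ∈ X := fun hk =>
    mem_centralizer_singleton_iff.2 (hKT hk t htT).eq
  -- the local subgroup of `C(t)`
  have hgf : Cfsg.generalizedFittingSubgroup X = Cfsg.pCore 2 X := by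
    have h0 : Cfsg.pPrimeCore 2 X = ⊥ := by
      have := hcore t hto
      exact (Subgroup.map_eq_bot_iff_of_injective _ (subtype_injective _)).1 this
    exact genFitting_eq_pCore_of h0 (layer_eq_bot_of_pLayer h0 (hL t hto))
  set Y := normalizer ((T.subgroupOf X : Subgroup X) : Set X) with hY
  have hYgf := genFitting_normalizer hgf (hT.comap_of_injective _ (subtype_injective X) :
    IsPGroup 2 (T.subgroupOf X))
  set R := Cfsg.pCore 2 Y with hR
  have hRc : centralizer (R : Set Y) ≤ R := by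
    have := centralizer_generalizedFitting_le (G := Y)
    rwa [show Cfsg.generalizedFittingSubgroup Y = R from hYgf] at this
  have hYH : ∀ y : Y, ((y : X) : G) ∈ H := fun y =>
    Coprime.mem_normalizer_of_conj_map_le fun x hx => by
      exact mem_subgroupOf.1 (CfsgLib.Components.SFT.conj_mem_of_mem_normalizer y.2
        (mem_subgroupOf.2 hx : (⟨x, hTX hx⟩ : X) ∈ T.subgroupOf X))
  have hKp : IsPGroup 2 K := by
    refine IsPGroup.of_card (n := (Nat.card K).factorization 2)
      (Nat.eq_pow_of_factorization_eq_single Nat.card_pos.ne' ?_)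
    ext ℓ
    rcases eq_or_ne ℓ 2 with rfl | hℓ
    · simp
    rw [Finsupp.single_eq_of_ne hℓ]
    by_contra hne
    have hℓp : ℓ.Prime := Nat.prime_of_mem_primeFactors
      (Nat.support_factorization (Nat.card K) ▸ Finsupp.mem_support_iff.2 hne)
    haveI := Fact.mk hℓp
    obtain ⟨k, hk⟩ := exists_prime_orderOf_dvd_card' ℓ (Nat.dvd_of_factorization_pos hne)
    rw [← Subgroup.orderOf_coe, ← Subgroup.orderOf_coe] at hk
    have hkY : (⟨(k : H), hKX k.2⟩ : X) ∈ Y :=
      Coprime.mem_normalizer_of_conj_map_le fun x hx => by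
        refine mem_subgroupOf.2 ?_
        change ((k : H) : G) * (x : G) * ((k : H) : G)⁻¹ ∈ T
        rw [(hKT k.2 _ (mem_subgroupOf.1 hx)).eq, mul_inv_cancel_right]
        exact hx
    set y : Y := ⟨⟨(k : H), hKX k.2⟩, hkY⟩ with hy
    have hyo : orderOf y = ℓ := by
      rw [← Subgroup.orderOf_coe, ← Subgroup.orderOf_coe]; exact hk
    have hyR : y ∈ R := hRc (mem_centralizer_iff.2 fun r hr => ?_)
    · obtain ⟨i, hi⟩ := IsPGroup.iff_orderOf.1 (Solvable.Cores.isPGroup_pCore 2) ⟨_, hyR⟩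
      rw [← Subgroup.orderOf_coe] at hi
      exact hℓ ((Nat.prime_dvd_prime_iff_eq hℓp Nat.prime_two).1
        (hℓp.dvd_of_dvd_pow (hyo ▸ hi.dvd)))
    set c := r⁻¹ * (y * r * y⁻¹) with hc
    haveI : R.Normal := inferInstanceAs (Cfsg.pCore 2 Y).Normal
    have hcR : c ∈ R := mul_mem (inv_mem hr) ((inferInstance : R.Normal).conj_mem r hr y)
    -- the elements of `K` inside `R` form a normal `2`-subgroup of `K`
    let f : Y →* H :=
      { toFun := fun y => ⟨((y : X) : G), hYH y⟩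
        map_one' := rfl
        map_mul' := fun _ _ => rfl }
    set L := (R.map f ⊓ K).subgroupOf K with hL'
    haveI : L.Normal := ⟨fun l hl g => by
      obtain ⟨⟨a, ha, hal⟩, -⟩ := mem_subgroupOf.1 hl
      have hgY : (⟨(g : H), hKX g.2⟩ : X) ∈ Y :=
        Coprime.mem_normalizer_of_conj_map_le fun x hx => by
          refine mem_subgroupOf.2 ?_
          change ((g : H) : G) * (x : G) * ((g : H) : G)⁻¹ ∈ T
          rw [(hKT g.2 _ (mem_subgroupOf.1 hx)).eq, mul_inv_cancel_right]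
          exact hx
      refine mem_subgroupOf.2 ⟨⟨⟨_, hgY⟩ * a * ⟨_, hgY⟩⁻¹,
        (inferInstance : R.Normal).conj_mem a ha _, ?_⟩, (g * l * g⁻¹).2⟩
      rw [map_mul, map_mul, map_inv, hal]
      rfl⟩
    have hLp : IsPGroup 2 L := (((Solvable.Cores.isPGroup_pCore 2).map f).to_le
      inf_le_left).comap_of_injective _ (subtype_injective _)
    haveI : K.Normal := inferInstanceAs (centralizer (Q : Set H)).Normal
    have hLQ : L.map K.subtype ≤ Q := by
      refine le_trans (map_mono (Solvable.Cores.le_pCore hLp)) (Solvable.Cores.le_pCore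
        ((Solvable.Cores.isPGroup_pCore 2).map _))
    have hcK : f c ∈ K := by
      rw [hc, map_mul, map_inv, map_mul, map_mul, map_inv,
        show (f r)⁻¹ * (f y * f r * (f y)⁻¹) = (f r)⁻¹ * f y * f r * (f y)⁻¹ by group]
      refine mul_mem ?_ (inv_mem k.2)
      have := (inferInstance : K.Normal).conj_mem (f y) k.2 (f r)⁻¹
      rwa [inv_inv] at this
    have hcQ : f c ∈ Q := hLQ ⟨⟨f c, hcK⟩, mem_subgroupOf.2 ⟨mem_map_of_mem f hcR, hcK⟩, rfl⟩
    have hcy : Commute y c := by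
      refine Subtype.ext (Subtype.ext ?_)
      have h2 := congrArg Subtype.val (mem_centralizer_iff.1 k.2 _ hcQ).symm
      exact h2
    have hc1 : c = 1 := OddOrder.Stabilize.eq_one_of_conj_eq_mul (a := y) (h := r)
      (by rw [hc, mul_inv_cancel_left]) hcy (by
        obtain ⟨i, hi⟩ := IsPGroup.iff_orderOf.1 (Solvable.Cores.isPGroup_pCore 2) ⟨_, hcR⟩
        rw [← Subgroup.orderOf_coe] at hi
        rw [hyo, hi]
        exact ((Nat.coprime_primes hℓp Nat.prime_two).2 hℓ).pow_right i)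
    rw [hc, inv_mul_eq_one] at hc1
    exact (mul_inv_eq_iff_eq_mul.1 hc1.symm).symm
  haveI : K.Normal := inferInstanceAs (centralizer (Q : Set H)).Normal
  exact Solvable.Cores.le_pCore hKp

end CfsgLib.FTApps.CoreClosure
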