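import Cfsg.Agent.Lib.FTApps.CoreClosureEmbedded
import Cfsg.Agent.Lib.Fusion.ThompsonTransfer
import Cfsg.Agent.Lib.TwoGroups.MaximalClass

/-!
# Trivial cores without connectedness

When every involution centraliser is 2-constrained, `O(G) = 1`, `G` has no subgroup of index two
and 2-rank at least three, the cores of the involution centralisers are trivial.  The vertices
are the elementary abelian subgroups of order eight; the case of a normal one is the connected
case, otherwise a Sylow 2-subgroup has a normal four-group `⟨z, v⟩` with `z` central.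
-/

set_option autoImplicit false
set_option linter.style.haveILetI false

namespace CfsgLib.FTApps.CoreClosureRank

open scoped commutatorElement
open Subgroup CfsgLib.Components CfsgLib.Components.Signalizer CfsgLib.Components.SFT
  CfsgLib.Involution CfsgLib.Involution.Dihedral CfsgLib.FTApps.CoreClosure

universe u

variable {G : Type u} [Group G] [Finite G]

theorem elementary_zpowers {a : G} (ha : orderOf a = 2) :
    Cfsg.IsElementaryAbelian 2 (zpowers a) := by
  refine ⟨⟨⟨fun x y => Subtype.ext ?_⟩⟩, fun x hx => ?_⟩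
  · obtain ⟨i, hi⟩ := mem_zpowers_iff.1 x.2
    obtain ⟨j, hj⟩ := mem_zpowers_iff.1 y.2
    simp only [Subgroup.coe_mul, ← hi, ← hj, ← zpow_add, add_comm]
  · rcases (mem_zpowers_two ha).1 hx with rfl | rfl
    · exact one_pow _
    · rw [← ha, pow_orderOf_eq_one]

omit [Finite G] in
theorem pair_commute {a b w : G} (ha : Commute a w) (hb : Commute b w) :
    ∀ x ∈ (zpowers a ⊔ zpowers b : Subgroup G), Commute x w := fun _ hx =>
  mem_centralizer_singleton_iff.1 ((sup_le (zpowers_le.2 (mem_centralizer_singleton_iff.2 ha.eq))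
    (zpowers_le.2 (mem_centralizer_singleton_iff.2 hb.eq)) :
      zpowers a ⊔ zpowers b ≤ centralizer ({w} : Set G)) hx)

/-- Three commuting involutions, the third outside the four-group of the first two. -/
theorem elementary_three {a b c : G} (ha : orderOf a = 2) (hb : orderOf b = 2)
    (hc : orderOf c = 2) (hab : Commute a b) (hac : Commute a c) (hbc : Commute b c)
    (hne : a ≠ b) (hnot : c ≠ a ∧ c ≠ b ∧ c ≠ a * b) :
    Cfsg.IsElementaryAbelian 2 (zpowers a ⊔ zpowers b ⊔ zpowers c : Subgroup G) ∧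
      2 ^ 3 ≤ Nat.card (zpowers a ⊔ zpowers b ⊔ zpowers c : Subgroup G) := by
  haveI : Fact (Nat.Prime 2) := ⟨Nat.prime_two⟩
  have hU : IsKleinFour (zpowers a ⊔ zpowers b : Subgroup G) := kleinFour_sup ha hb hne hab.eq
  have hsup := elementary_sup (elementary_of_four hU) (elementary_zpowers hc)
    (zpowers_le.2 (mem_centralizer_iff.2 fun x hx => (pair_commute hac hbc x hx).eq))
  refine ⟨hsup, ?_⟩
  obtain ⟨n, hn⟩ := (isPGroup_of_elementary hsup).exists_card_eq
  have hcU : c ∉ (zpowers a ⊔ zpowers b : Subgroup G) := fun h => by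
    have hmem : c = 1 ∨ c = a ∨ c = b ∨ c = a * b := by
      have hle : zpowers a ⊔ zpowers b ≤
          TwoGroupLifts.fourGroup a b (mul_self ha) (mul_self hb) hab.eq :=
        sup_le (zpowers_le.2 (TwoGroupLifts.mem_fourGroup.2 (by simp)))
          (zpowers_le.2 (TwoGroupLifts.mem_fourGroup.2 (by simp)))
      exact TwoGroupLifts.mem_fourGroup.1 (hle h)
    rcases hmem with e | e | e | e
    exacts [ne_one hc e, hnot.1 e, hnot.2.1 e, hnot.2.2 e]
  have hlt : Nat.card (zpowers a ⊔ zpowers b : Subgroup G) <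
      Nat.card (zpowers a ⊔ zpowers b ⊔ zpowers c : Subgroup G) := by
    refine lt_of_le_of_ne (card_le_of_le le_sup_left) fun e => hcU ?_
    rw [eq_of_le_of_card_ge (le_sup_left : zpowers a ⊔ zpowers b ≤ _) e.ge]
    exact mem_sup_right (mem_zpowers c)
  rw [hU.card_four, hn, show 4 = 2 ^ 2 by norm_num] at hlt
  rw [hn]
  exact Nat.pow_le_pow_right two_pos ((Nat.pow_lt_pow_iff_right (le_refl 2)).1 hlt)

/-- An element of a Sylow 2-subgroup of `C(z)` with commutators in `⟨z⟩` lies in `O_{2',2}`. -/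
theorem mem_pPrimePCore_of_comm {z : G} (hz : orderOf z = 2)
    (hL : Cfsg.pLayer 2 ↥(centralizer ({z} : Set G)) = ⊥) (S : Sylow 2 G)
    (hzc : ∀ g ∈ (S : Subgroup G), Commute g z) {w : G} (hwS : w ∈ (S : Subgroup G))
    (hwc : ∀ g ∈ (S : Subgroup G), g * w * g⁻¹ * w⁻¹ ∈ zpowers z)
    (hw : w ∈ centralizer ({z} : Set G)) :
    (⟨w, hw⟩ : centralizer ({z} : Set G)) ∈
      Cfsg.pPrimePCore 2 (centralizer ({z} : Set G)) := by
  classical
  haveI : Fact (Nat.Prime 2) := ⟨Nat.prime_two⟩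
  set X := centralizer ({z} : Set G) with hX
  set Tx : Sylow 2 X :=
    S.subtype (fun g hg => mem_centralizer_singleton_iff.2 (hzc g hg).eq) with hTx
  have hTmem : ∀ {x : X}, x ∈ (Tx : Subgroup X) → (x : G) ∈ (S : Subgroup G) := fun h => h
  set q := QuotientGroup.mk' (Cfsg.pPrimeCore 2 X) with hq
  set N := Cfsg.pPrimePCore 2 X with hN
  haveI : N.Normal := Subgroup.Normal.comap inferInstance _
  obtain ⟨Pn, hPn⟩ := CfsgLib.NT.SylowCount.exists_sylow_inf Tx N
  have hPmap : ((Tx : Subgroup X) ⊓ N).map q = Cfsg.pCore 2 (X ⧸ Cfsg.pPrimeCore 2 X) := by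
    rw [← hPn]; exact sylow_pPrimePCore_map Pn
  have hcons := (centralizer_pCore_le_iff_layer (p := 2)
    (pPrimeCore_quotient_eq_bot (p := 2) (G := X))).2 (pLayer_eq_bot_iff.1 hL)
  set z' : X := ⟨z, mem_centralizer_singleton_iff.2 rfl⟩ with hz'
  have htc : ∀ x : X, Commute x z' := fun x =>
    Subtype.ext (mem_centralizer_singleton_iff.1 x.2)
  set Q := X ⧸ Cfsg.pPrimeCore 2 X with hQ
  set Z := zpowers (q z') with hZ
  haveI : Z.Normal := ⟨fun y hy g => by
    obtain ⟨i, rfl⟩ := mem_zpowers_iff.1 hy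
    obtain ⟨g, rfl⟩ := QuotientGroup.mk'_surjective _ g
    rw [(((htc g).map q).zpow_right i).eq, mul_inv_cancel_right]
    exact zpow_mem (mem_zpowers _) i⟩
  set Y := (centralizer (((Cfsg.pCore 2 Q).map (QuotientGroup.mk' Z) : Subgroup (Q ⧸ Z)) :
    Set (Q ⧸ Z))).comap (QuotientGroup.mk' Z) with hY
  haveI : ((Cfsg.pCore 2 Q).map (QuotientGroup.mk' Z)).Normal :=
    Subgroup.Normal.map inferInstance _ (QuotientGroup.mk'_surjective _)
  haveI : Y.Normal := Subgroup.Normal.comap inferInstance _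
  have hYmem : ∀ {y : Q}, y ∈ Y ↔ ∀ p ∈ Cfsg.pCore 2 Q, y * p * y⁻¹ * p⁻¹ ∈ Z := fun {y} => by
    rw [hY, mem_comap, mem_centralizer_iff]
    constructor
    · intro h p hp
      rw [← QuotientGroup.eq_one_iff]
      change QuotientGroup.mk' Z (y * p * y⁻¹ * p⁻¹) = 1
      rw [map_mul, map_mul, map_mul, map_inv, map_inv, ← h _ (mem_map_of_mem _ hp),
        mul_inv_cancel_right, mul_inv_cancel]
    · rintro h _ ⟨p, hp, rfl⟩
      have h1 := (QuotientGroup.eq_one_iff _).2 (h p hp)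
      change QuotientGroup.mk' Z (y * p * y⁻¹ * p⁻¹) = 1 at h1
      rw [map_mul, map_mul, map_mul, map_inv, map_inv, mul_inv_eq_one,
        mul_inv_eq_iff_eq_mul] at h1
      exact h1.symm
  have hYle : Y ≤ Cfsg.pCore 2 Q := Solvable.Cores.le_pCore (IsPGroup.of_card
    (n := (Nat.card Y).factorization 2) (by
      refine Nat.eq_pow_of_factorization_eq_single Nat.card_pos.ne' ?_
      ext ℓ
      rcases eq_or_ne ℓ 2 with rfl | hℓ
      · simp
      rw [Finsupp.single_eq_of_ne hℓ]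
      by_contra hne
      have hℓp : ℓ.Prime := Nat.prime_of_mem_primeFactors
        (Nat.support_factorization (Nat.card Y) ▸ Finsupp.mem_support_iff.2 hne)
      haveI := Fact.mk hℓp
      obtain ⟨y, hy⟩ := exists_prime_orderOf_dvd_card' ℓ (Nat.dvd_of_factorization_pos hne)
      rw [← Subgroup.orderOf_coe] at hy
      have hyC : (y : Q) ∈ Cfsg.pCore 2 Q := hcons (mem_centralizer_iff.2 fun p hp => ?_)
      · obtain ⟨i, hi⟩ := IsPGroup.iff_orderOf.1 (Solvable.Cores.isPGroup_pCore 2) ⟨_, hyC⟩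
        rw [← Subgroup.orderOf_coe] at hi
        exact hℓ ((Nat.prime_dvd_prime_iff_eq hℓp Nat.prime_two).1
          (hℓp.dvd_of_dvd_pow (hy ▸ hi.dvd)))
      obtain ⟨c, hc⟩ : ∃ c, c = p⁻¹ * ((y : Q) * p * (y : Q)⁻¹) := ⟨_, rfl⟩
      have hcZ : c ∈ Z := by
        have h1 := (inferInstance : Z.Normal).conj_mem _ (hYmem.1 y.2 p hp) p⁻¹
        rw [inv_inv] at h1
        rw [hc]
        convert h1 using 1
        group
      have hcy : Commute (y : Q) c := by
        obtain ⟨i, hi⟩ := mem_zpowers_iff.1 hcZ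
        obtain ⟨x, hx⟩ := QuotientGroup.mk'_surjective _ (y : Q)
        rw [← hi, ← hx]
        exact ((htc x).map q).zpow_right i
      have hc1 : c = 1 := OddOrder.Stabilize.eq_one_of_conj_eq_mul
        (a := (y : Q)) (h := p) (by rw [hc, mul_inv_cancel_left]) hcy (by
          refine Nat.Coprime.coprime_dvd_right (Subgroup.orderOf_dvd_natCard Z hcZ) ?_
          rw [hy, hZ, Nat.card_zpowers]
          refine ((Nat.coprime_primes hℓp Nat.prime_two).2 hℓ).coprime_dvd_right
            ((orderOf_map_dvd q z').trans ?_)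
          rw [← Subgroup.orderOf_coe, hz])
      rw [hc, inv_mul_eq_one] at hc1
      exact (mul_inv_eq_iff_eq_mul.1 hc1.symm).symm))
  refine hYle (hYmem.2 fun p hp => ?_)
  rw [← hPmap] at hp
  obtain ⟨p, hp, rfl⟩ := hp
  rw [← map_inv, ← map_inv, ← map_mul, ← map_mul, ← map_mul, hZ, ← MonoidHom.map_zpowers]
  refine mem_map_of_mem q ?_
  obtain ⟨i, hi⟩ := mem_zpowers_iff.1 (inv_mem (hwc _ (hTmem hp.1)))
  refine mem_zpowers_iff.2 ⟨i, Subtype.ext ?_⟩
  change z ^ i = w * (p : G) * w⁻¹ * (p : G)⁻¹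
  rw [hi]
  group

/-- Odd subgroups of `C(a)` normalised by `b` lie in the core when their fixed points do. -/
def Absorbs (a b : G) : Prop :=
  ∀ Y : Subgroup G, Odd (Nat.card Y) → Y ≤ centralizer ({a} : Set G) →
    b ∈ normalizer (Y : Set G) → Y ⊓ centralizer {b} ≤ Cfsg.centralizerPPrimeCore 2 a →
      Y ≤ Cfsg.centralizerPPrimeCore 2 a

theorem absorbs_of_mem {a b : G} (hb : orderOf b = 2) (hba : b ∈ centralizer ({a} : Set G))
    (hbN : (⟨b, hba⟩ : centralizer ({a} : Set G)) ∈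
      Cfsg.pPrimePCore 2 (centralizer ({a} : Set G))) :
    Absorbs a b := by
  classical
  haveI : Fact (Nat.Prime 2) := ⟨Nat.prime_two⟩
  intro Y hY hYa hbY hfix y hy
  set X := centralizer ({a} : Set G) with hX
  set O := Cfsg.centralizerPPrimeCore 2 a with hO
  set q := QuotientGroup.mk' (Cfsg.pPrimeCore 2 X) with hq
  have hbO : b ∈ normalizer (O : Set G) :=
    map_subtype_normal_of_characteristic (le_normalizer hba)
  have hc : ∀ s ∈ zpowers b, ⁅s, y⁆ ∈ Y ⊓ O := by
    intro s hs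
    rcases (mem_zpowers_two hb).1 hs with rfl | rfl
    · rw [commutatorElement_one_left]; exact one_mem _
    have hcY : ⁅s, y⁆ ∈ Y := by
      rw [commutatorElement_def]
      exact mul_mem (CfsgLib.Components.SFT.conj_mem_of_mem_normalizer hbY hy) (inv_mem hy)
    refine ⟨hcY, ?_⟩
    set c : X := ⁅(⟨s, hba⟩ : X), (⟨y, hYa hy⟩ : X)⁆ with hcdef
    have hcval : (c : G) = ⁅s, y⁆ := rfl
    have hc2 : q c ∈ Cfsg.pCore 2 (X ⧸ Cfsg.pPrimeCore 2 X) := by
      haveI : (Cfsg.pPrimePCore 2 X).Normal := Subgroup.Normal.comap inferInstance _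
      have h := mul_mem hbN ((inferInstance : (Cfsg.pPrimePCore 2 X).Normal).conj_mem _
        (inv_mem hbN) ⟨y, hYa hy⟩)
      simp only [hcdef, commutatorElement_def]
      rw [show (⟨s, hba⟩ : X) * ⟨y, hYa hy⟩ * (⟨s, hba⟩ : X)⁻¹ * (⟨y, hYa hy⟩ : X)⁻¹ =
        ⟨s, hba⟩ * (⟨y, hYa hy⟩ * (⟨s, hba⟩ : X)⁻¹ * (⟨y, hYa hy⟩ : X)⁻¹) by group]
      exact h
    obtain ⟨i, hi⟩ := IsPGroup.iff_orderOf.1 (Solvable.Cores.isPGroup_pCore 2) ⟨_, hc2⟩
    rw [Subgroup.orderOf_mk] at hi
    have h1 : orderOf (q c) = 1 := by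
      refine Nat.eq_one_of_dvd_coprimes ((Nat.coprime_two_left.2 hY).pow_left i) hi.dvd ?_
      refine (orderOf_map_dvd q c).trans ?_
      rw [← Subgroup.orderOf_coe, hcval]
      exact Subgroup.orderOf_dvd_natCard Y hcY
    exact hcval ▸ mem_map_of_mem X.subtype
      ((QuotientGroup.eq_one_iff c).1 (orderOf_eq_one_iff.1 h1))
  obtain ⟨n, hn, hnb⟩ := Coprime.exists_mul_mem_centralizer (A := zpowers b) (N := Y ⊓ O)
    (zpowers_le.2 (CfsgLib.LocalEven.BenderTransitive.mem_normalizer_inf' hbY hbO))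
    (by rw [Nat.card_zpowers, hb]
        exact Nat.coprime_two_left.2 (hY.of_dvd_nat (card_dvd_of_le inf_le_left)))
    (.inl (Coprime.isSolvable_zpowers b)) hc
  have h1 : n * y ∈ O := hfix ⟨mul_mem hn.1 hy,
    mem_centralizer_singleton_iff.2 ((mem_centralizer_iff.1 hnb b (mem_zpowers b)).symm)⟩
  simpa using mul_mem (inv_mem (Subgroup.mem_inf.1 hn).2) h1

theorem Absorbs.conj {a b : G} (h : Absorbs a b) (g : G) :
    Absorbs (g * a * g⁻¹) (g * b * g⁻¹) := by
  intro Y hY hYa hbY hfix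
  set Y' := Y.map (MulAut.conj g⁻¹).toMonoidHom with hY'
  have hmem : ∀ {x : G}, x ∈ Y' ↔ g * x * g⁻¹ ∈ Y := fun {x} => by
    constructor
    · rintro ⟨y, hy, rfl⟩
      simpa [mul_assoc] using hy
    · intro hx
      exact ⟨_, hx, by simp [mul_assoc]⟩
  have hC : ∀ {x w : G}, g * x * g⁻¹ ∈ centralizer ({g * w * g⁻¹} : Set G) ↔
      x ∈ centralizer ({w} : Set G) := fun {x w} => by
    rw [mem_centralizer_singleton_iff, mem_centralizer_singleton_iff]
    constructor
    · intro e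
      have := congrArg (fun k => g⁻¹ * k * g) e
      simpa [mul_assoc] using this
    · intro e
      calc g * x * g⁻¹ * (g * w * g⁻¹) = g * (x * w) * g⁻¹ := by group
        _ = _ := by rw [e]; group
  have h1 := h Y' (by rwa [hY', card_map_of_injective (MulAut.conj g⁻¹).injective])
    (fun x hx => hC.1 (hYa (hmem.1 hx)))
    (by
      rw [mem_normalizer_iff]
      intro x
      rw [hmem, hmem, mem_normalizer_iff.1 hbY (g * x * g⁻¹)]
      rw [show g * b * g⁻¹ * (g * x * g⁻¹) * (g * b * g⁻¹)⁻¹ = g * (b * x * b⁻¹) * g⁻¹ by group])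
    (fun x hx => by
      have := hfix ⟨hmem.1 hx.1, hC.2 hx.2⟩
      rw [map_conj_core] at this
      obtain ⟨o, ho, e⟩ := this
      simpa [mul_assoc] using (show o = x by
        have e' : g * o * g⁻¹ = g * x * g⁻¹ := e
        simpa using e') ▸ ho)
  intro y hy
  rw [map_conj_core]
  exact ⟨g⁻¹ * y * g, h1 (hmem.2 (by simpa [mul_assoc] using hy)), by simp [mul_assoc]⟩

theorem exists_functor
    (hL : ∀ t : G, orderOf t = 2 → Cfsg.pLayer 2 ↥(centralizer ({t} : Set G)) = ⊥)
    {A : Subgroup G} (hA : Cfsg.IsElementaryAbelian 2 A) (hA8 : 2 ^ 3 ≤ Nat.card A) :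
    Odd (Nat.card (closureOf A)) ∧
      (∀ a ∈ A, a ≠ 1 → closureOf A ⊓ centralizer {a} = Cfsg.centralizerPPrimeCore 2 a) ∧
      ∀ E : Subgroup G, E ≤ A → 2 ^ 2 ≤ Nat.card E → closureOf E = closureOf A := by
  classical
  haveI : Fact (Nat.Prime 2) := ⟨Nat.prime_two⟩
  set θ : G → Subgroup G := fun a => Cfsg.centralizerPPrimeCore 2 a with hθdef
  have hodd : ∀ a, ¬ 2 ∣ Nat.card ↥(θ a) := fun a => not_dvd_centralizerPPrimeCore a
  have hC : ∀ a : G, Good 2 a → θ a ≤ centralizer ({a} : Set G) ∧ ¬ 2 ∣ Nat.card ↥(θ a) ∧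
      Group.IsSolvable ↥(θ a) := fun a _ =>
    ⟨centralizerPPrimeCore_le a, hodd a,
      OddOrder.Final.oddSolvable _ (Nat.odd_iff.2 (by have := hodd a; omega))⟩
  have heq : ∀ a g : G, Good 2 a → θ (g * a * g⁻¹) = (θ a).map (MulAut.conj g).toMonoidHom :=
    fun a g _ => map_conj_core a g
  have hbal : ∀ a b : G, Good 2 a → Good 2 b → a * b = b * a →
      θ a ⊓ centralizer {b} ≤ θ b := fun a b ha hb hab =>
    core_pow_inf_centralizer_le (k := 1) hab (by rw [pow_one]; exact ha.1) (hL b hb.1)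
  obtain ⟨hWm, hfix⟩ := solvable_complete hA hA8 (functor_of_big hC heq hbal hA hA8)
  exact ⟨Nat.odd_iff.2 (Nat.two_dvd_ne_zero.1 hWm.2.1), hfix,
    fun E hE hE4 => vertexClosure_eq hC heq hbal hA hA8 hE hE4⟩

/-- The setting without a normal elementary abelian subgroup of order eight. -/
structure Data (S : Sylow 2 G) (W : Subgroup G) (z v : G) : Prop where
  layer : ∀ t : G, orderOf t = 2 → Cfsg.pLayer 2 ↥(centralizer ({t} : Set G)) = ⊥
  noNormal : ∀ E : Subgroup G, E ≤ (S : Subgroup G) → Cfsg.IsElementaryAbelian 2 E →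
    (S : Subgroup G) ≤ normalizer (E : Set G) → Nat.card E < 2 ^ 3
  two : ∀ N : Subgroup G, N.Normal → N.index ≠ 2
  exists_eight : ∃ E : Subgroup G, E ≤ (S : Subgroup G) ∧ Cfsg.IsElementaryAbelian 2 E ∧
    2 ^ 3 ≤ Nat.card E
  zS : z ∈ (S : Subgroup G)
  vS : v ∈ (S : Subgroup G)
  hz : orderOf z = 2
  hv : orderOf v = 2
  hzv : z ≠ v
  hzc : ∀ g ∈ (S : Subgroup G), Commute g z
  hvc : ∀ g ∈ (S : Subgroup G), g * v * g⁻¹ * v⁻¹ ∈ zpowers z
  closure : closureOf (zpowers z ⊔ zpowers v) = W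

namespace Data

variable {S : Sylow 2 G} {W : Subgroup G} {z v : G} (d : Data S W z v)

include d

theorem commute_zv : Commute z v := (d.hzc v d.vS).symm

theorem klein : IsKleinFour (zpowers z ⊔ zpowers v : Subgroup G) :=
  kleinFour_sup d.hz d.hv d.hzv d.commute_zv.eq

theorem conj_v {g : G} (hg : g ∈ (S : Subgroup G)) : g * v * g⁻¹ = v ∨ g * v * g⁻¹ = z * v := by
  rcases (mem_zpowers_two d.hz).1 (d.hvc g hg) with e | e
  · exact .inl (mul_inv_eq_one.1 e)
  · exact .inr (mul_inv_eq_iff_eq_mul.1 e)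

/-- Two elements of `S` outside `C(v)` differ by one inside. -/
theorem inv_mul_mem {g h : G} (hg : g ∈ (S : Subgroup G)) (hh : h ∈ (S : Subgroup G))
    (hgv : ¬ Commute g v) (hhv : ¬ Commute h v) : Commute (g⁻¹ * h) v := by
  have e1 := (d.conj_v hg).resolve_left fun e => hgv (mul_inv_eq_iff_eq_mul.1 e)
  have e2 := (d.conj_v hh).resolve_left fun e => hhv (mul_inv_eq_iff_eq_mul.1 e)
  refine mul_inv_eq_iff_eq_mul.1 ?_
  calc g⁻¹ * h * v * (g⁻¹ * h)⁻¹ = g⁻¹ * (h * v * h⁻¹) * g := by group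
    _ = g⁻¹ * (g * v * g⁻¹) * g := by rw [e2, e1]
    _ = v := by group

theorem card_le_two_mul {K : Subgroup G} (hK : K ≤ (S : Subgroup G)) :
    Nat.card K ≤ 2 * Nat.card (K ⊓ centralizer ({v} : Set G) : Subgroup G) := by
  classical
  set B := K ⊓ centralizer ({v} : Set G) with hB
  by_cases hall : K ≤ centralizer ({v} : Set G)
  · rw [hB, inf_eq_left.2 hall]; omega
  obtain ⟨g, hgK, hgv⟩ := SetLike.not_le_iff_exists.1 hall
  have hgv' : ¬ Commute g v := fun h => hgv (mem_centralizer_singleton_iff.2 h.eq)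
  let f : K → Bool × B := fun x =>
    if h : Commute (x : G) v then (true, ⟨x, x.2, mem_centralizer_singleton_iff.2 h.eq⟩)
    else (false, ⟨g⁻¹ * x, Subgroup.mem_inf.2 ⟨mul_mem (inv_mem hgK) x.2,
      mem_centralizer_singleton_iff.2 (d.inv_mul_mem (hK hgK) (hK x.2) hgv' h).eq⟩⟩)
  have hf : Function.Injective f := by
    intro x y h
    simp only [f] at h
    split_ifs at h with h1 h2 h2
    · exact Subtype.ext (congrArg (fun p : Bool × B => (p.2 : G)) h)
    · exact absurd (congrArg Prod.fst h) (by simp)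
    · exact absurd (congrArg Prod.fst h) (by simp)
    · exact Subtype.ext (mul_left_cancel (congrArg (fun p : Bool × B => (p.2 : G)) h))
  have := Nat.card_le_card_of_injective f hf
  rwa [Nat.card_prod, Nat.card_eq_fintype_card (α := Bool), Fintype.card_bool] at this

/-- The elementary abelian subgroup of order eight of `C_S(v)` containing `z` and `v`. -/
theorem exists_base : ∃ A : Subgroup G, A ≤ (S : Subgroup G) ∧ A ≤ centralizer ({v} : Set G) ∧
    z ∈ A ∧ v ∈ A ∧ Cfsg.IsElementaryAbelian 2 A ∧ 2 ^ 3 ≤ Nat.card A := by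
  haveI : Fact (Nat.Prime 2) := ⟨Nat.prime_two⟩
  obtain ⟨E, hES, hE, hE8⟩ := d.exists_eight
  set U := zpowers z ⊔ zpowers v with hU
  have hzU : z ∈ U := mem_sup_left (mem_zpowers z)
  have hvU : v ∈ U := mem_sup_right (mem_zpowers v)
  have hcv : ∀ {A : Subgroup G}, Cfsg.IsElementaryAbelian 2 A → v ∈ A →
      A ≤ centralizer ({v} : Set G) := fun hA hvA x hx =>
    mem_centralizer_singleton_iff.2 (commute_of_mem hA hx hvA)
  by_cases hUE : U ≤ E
  · exact ⟨E, hES, hcv hE (hUE hvU), hUE hzU, hUE hvU, hE, hE8⟩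
  set B := E ⊓ centralizer ({v} : Set G) with hB
  have hB4 : 4 ≤ Nat.card B := by
    have := d.card_le_two_mul hES
    rw [← hB] at this
    norm_num at hE8
    omega
  have hBe : Cfsg.IsElementaryAbelian 2 B := elementary_of_le hE inf_le_left
  have hsup := elementary_sup (elementary_of_four d.klein) hBe (fun b hb =>
    mem_centralizer_iff.2 fun x hx => (pair_commute (d.hzc b (hES hb.1)).symm
      (show Commute b v from mem_centralizer_singleton_iff.1 hb.2).symm x hx).eq)
  refine ⟨U ⊔ B, sup_le (sup_le (zpowers_le.2 d.zS) (zpowers_le.2 d.vS)) (inf_le_left.trans hES),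
    hcv hsup (mem_sup_left hvU), mem_sup_left hzU, mem_sup_left hvU, hsup, ?_⟩
  obtain ⟨n, hn⟩ := (isPGroup_of_elementary hsup).exists_card_eq
  have hlt : Nat.card U < Nat.card (U ⊔ B : Subgroup G) := by
    refine lt_of_le_of_ne (card_le_of_le le_sup_left) fun e => hUE ?_
    have h1 := eq_of_le_of_card_ge (le_sup_left : U ≤ U ⊔ B) e.ge
    have h2 : B = U := eq_of_le_of_card_ge (h1 ▸ le_sup_right) (by rw [d.klein.card_four]; omega)
    exact h2 ▸ inf_le_left
  rw [d.klein.card_four, hn, show 4 = 2 ^ 2 by norm_num] at hlt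
  rw [hn]
  exact Nat.pow_le_pow_right two_pos ((Nat.pow_lt_pow_iff_right (le_refl 2)).1 hlt)

/-- The subgroups of order eight in `S` have closure `W`. -/
theorem closure_eq {A : Subgroup G} (hAS : A ≤ (S : Subgroup G))
    (hA : Cfsg.IsElementaryAbelian 2 A) (hA8 : 2 ^ 3 ≤ Nat.card A) : closureOf A = W := by
  haveI : Fact (Nat.Prime 2) := ⟨Nat.prime_two⟩
  set U := zpowers z ⊔ zpowers v with hU
  by_cases hUA : U ≤ A
  · rw [← (exists_functor d.layer hA hA8).2.2 U hUA (by rw [d.klein.card_four]; norm_num)]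
    exact d.closure
  set B := A ⊓ centralizer ({v} : Set G) with hB
  have hB4 : 4 ≤ Nat.card B := by
    have := d.card_le_two_mul hAS
    rw [← hB] at this
    norm_num at hA8
    omega
  have hBe : Cfsg.IsElementaryAbelian 2 B := elementary_of_le hA inf_le_left
  have hsup := elementary_sup (elementary_of_four d.klein) hBe (fun b hb =>
    mem_centralizer_iff.2 fun x hx => (pair_commute (d.hzc b (hAS hb.1)).symm
      (show Commute b v from mem_centralizer_singleton_iff.1 hb.2).symm x hx).eq)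
  have h8 : 2 ^ 3 ≤ Nat.card (U ⊔ B : Subgroup G) := by
    obtain ⟨n, hn⟩ := (isPGroup_of_elementary hsup).exists_card_eq
    have hlt : Nat.card U < Nat.card (U ⊔ B : Subgroup G) := by
      refine lt_of_le_of_ne (card_le_of_le le_sup_left) fun e => hUA ?_
      have h1 := eq_of_le_of_card_ge (le_sup_left : U ≤ U ⊔ B) e.ge
      have h2 : B = U := eq_of_le_of_card_ge (h1 ▸ le_sup_right) (by rw [d.klein.card_four]; omega)
      exact h2 ▸ inf_le_left
    rw [d.klein.card_four, hn, show 4 = 2 ^ 2 by norm_num] at hlt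
    rw [hn]
    exact Nat.pow_le_pow_right two_pos ((Nat.pow_lt_pow_iff_right (le_refl 2)).1 hlt)
  rw [← (exists_functor d.layer hA hA8).2.2 B inf_le_left (by norm_num; exact hB4),
    (exists_functor d.layer hsup h8).2.2 B le_sup_right (by norm_num; exact hB4),
    ← (exists_functor d.layer hsup h8).2.2 U le_sup_left (by rw [d.klein.card_four]; norm_num)]
  exact d.closure

theorem odd_closure : Odd (Nat.card W) := by
  obtain ⟨A, hAS, -, -, -, hA, hA8⟩ := d.exists_base
  exact d.closure_eq hAS hA hA8 ▸ (exists_functor d.layer hA hA8).1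

/-- An involution of `C_S(v)` lies in an elementary abelian subgroup of order eight. -/
theorem exists_through {t : G} (ht : orderOf t = 2) (htS : t ∈ (S : Subgroup G))
    (htv : Commute t v) : ∃ A : Subgroup G, A ≤ (S : Subgroup G) ∧ t ∈ A ∧
      Cfsg.IsElementaryAbelian 2 A ∧ 2 ^ 3 ≤ Nat.card A := by
  by_cases h : t ≠ z ∧ t ≠ v ∧ t ≠ z * v
  · obtain ⟨h1, h2⟩ := elementary_three d.hz d.hv ht d.commute_zv (d.hzc t htS).symm htv.symm
      d.hzv h
    exact ⟨_, sup_le (sup_le (zpowers_le.2 d.zS) (zpowers_le.2 d.vS)) (zpowers_le.2 htS),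
      mem_sup_right (mem_zpowers t), h1, h2⟩
  · obtain ⟨A, hAS, -, hzA, hvA, hA, hA8⟩ := d.exists_base
    refine ⟨A, hAS, ?_, hA, hA8⟩
    by_cases h1 : t = z
    · exact h1 ▸ hzA
    by_cases h2 : t = v
    · exact h2 ▸ hvA
    push Not at h
    exact (h h1 h2) ▸ mul_mem hzA hvA

/-- Every involution centralises an elementary abelian subgroup of order eight. -/
theorem exists_big {t : G} (ht : orderOf t = 2) : ∃ A : Subgroup G,
    A ≤ centralizer ({t} : Set G) ∧ Cfsg.IsElementaryAbelian 2 A ∧ 2 ^ 3 ≤ Nat.card A := by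
  haveI : Fact (Nat.Prime 2) := ⟨Nat.prime_two⟩
  suffices h : ∃ g : G, g * t * g⁻¹ ∈ (S : Subgroup G) ∧ Commute (g * t * g⁻¹) v by
    obtain ⟨g, hgS, hgv⟩ := h
    obtain ⟨A, hAS, htA, hA, hA8⟩ :=
      d.exists_through ((Dihedral.orderOf_conj g t).trans ht) hgS hgv
    refine ⟨A.map (MulAut.conj g⁻¹).toMonoidHom, ?_, ⟨⟨⟨?_⟩⟩, ?_⟩, ?_⟩
    · rintro _ ⟨x, hx, rfl⟩
      refine mem_centralizer_singleton_iff.2 ?_
      have := (show Commute x (g * t * g⁻¹) from commute_of_mem hA hx htA).map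
        (MulAut.conj g⁻¹).toMonoidHom
      simpa [mul_assoc] using this.eq
    · rintro ⟨_, a, ha, rfl⟩ ⟨_, b, hb, rfl⟩
      refine Subtype.ext ?_
      simp only [Subgroup.coe_mul]
      rw [← map_mul, ← map_mul]
      exact congrArg _ (commute_of_mem hA ha hb)
    · rintro _ ⟨a, ha, rfl⟩
      rw [← map_pow, hA.2 a ha, map_one]
    · rwa [card_map_of_injective (MulAut.conj g⁻¹).injective]
  obtain ⟨g, hg⟩ := Involution.Basic.exists_conj_le S (Q := zpowers t)
    (IsPGroup.of_card (n := 1) (by rw [Nat.card_zpowers, ht, pow_one]))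
  have hsS := hg t (mem_zpowers t)
  by_cases hsv : Commute (g * t * g⁻¹) v
  · exact ⟨g, hsS, hsv⟩
  set T := (S : Subgroup G) ⊓ centralizer ({v} : Set G) with hT
  have hidx : T.relIndex (S : Subgroup G) = 2 := by
    refine Subgroup.index_eq_two_iff.2 ⟨⟨g * t * g⁻¹, hsS⟩, fun x => ?_⟩
    simp only [mem_subgroupOf, hT, mem_inf, mem_centralizer_singleton_iff,
      SetLike.coe_mem, true_and, Subgroup.coe_mul]
    by_cases hx : Commute (x : G) v
    · refine .inr ⟨hx.eq, fun h => hsv ?_⟩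
      have := hx.inv_left.mul_left (show Commute ((x : G) * (g * t * g⁻¹)) v from h.2)
      rwa [inv_mul_cancel_left] at this
    · refine .inl ⟨⟨mul_mem x.2 hsS, ?_⟩, hx⟩
      have hinv : ¬ Commute (x : G)⁻¹ v := fun h => hx (by simpa using h.inv_left)
      have h1 := d.inv_mul_mem (inv_mem x.2) hsS hinv hsv
      rw [inv_inv] at h1
      exact h1.eq
  rcases CfsgLib.Fusion.ThompsonTransfer.thompson_transfer S T inf_le_left hidx (g * t * g⁻¹)
    (by rw [pow_two]; exact mul_self ((Dihedral.orderOf_conj g t).trans ht)) hsS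
    (fun h => hsv (mem_centralizer_singleton_iff.1 h.2)) with ⟨N, hN, hN2, -⟩ | ⟨k, hk⟩
  · exact absurd hN2 (d.two N hN)
  · refine ⟨k * g, ?_, ?_⟩
    · rw [show k * g * t * (k * g)⁻¹ = k * (g * t * g⁻¹) * k⁻¹ by group]
      exact hk.1
    · have := mem_centralizer_singleton_iff.1 hk.2
      simpa [mul_assoc] using (show Commute (k * (g * t * g⁻¹) * k⁻¹) v from this)

/-- An element carrying a subgroup of order eight of `S` into `S` normalises the closure. -/
theorem mem_normalizer_of_conj {g : G} {A : Subgroup G} (hA : Cfsg.IsElementaryAbelian 2 A)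
    (hA8 : 2 ^ 3 ≤ Nat.card A) (hAS : A ≤ (S : Subgroup G))
    (hgA : A.map (MulAut.conj g).toMonoidHom ≤ (S : Subgroup G)) :
    g ∈ normalizer (W : Set G) := by
  refine Coprime.mem_normalizer_of_conj_map_le ?_
  have hA' : Cfsg.IsElementaryAbelian 2 (A.map (MulAut.conj g).toMonoidHom) := by
    refine ⟨⟨⟨?_⟩⟩, ?_⟩
    · rintro ⟨_, a, ha, rfl⟩ ⟨_, b, hb, rfl⟩
      refine Subtype.ext ?_
      simp only [Subgroup.coe_mul]
      rw [← map_mul, ← map_mul]
      exact congrArg _ (commute_of_mem hA ha hb)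
    · rintro _ ⟨a, ha, rfl⟩
      rw [← map_pow, hA.2 a ha, map_one]
  have h := CoreClosure.Data.closureOf_conj g A
  rw [d.closure_eq hAS hA hA8, d.closure_eq hgA hA'
    (by rwa [card_map_of_injective (MulAut.conj g).injective])] at h
  exact fun x hx => h ⟨x, hx, rfl⟩

theorem sylow_le : (S : Subgroup G) ≤ normalizer (W : Set G) := by
  obtain ⟨A, hAS, -, -, -, hA, hA8⟩ := d.exists_base
  intro g hg
  refine d.mem_normalizer_of_conj hA hA8 hAS ?_
  rintro _ ⟨x, hx, rfl⟩
  exact mul_mem (mul_mem hg (hAS hx)) (inv_mem hg)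

theorem exists_conj_le {T : Subgroup G} (hT : IsPGroup 2 T) (hTM : T ≤ normalizer (W : Set G)) :
    ∃ m ∈ normalizer (W : Set G), ∀ x ∈ T, m * x * m⁻¹ ∈ (S : Subgroup G) := by
  haveI : Fact (Nat.Prime 2) := ⟨Nat.prime_two⟩
  obtain ⟨m, hm⟩ := Involution.Basic.exists_conj_le (S.subtype d.sylow_le)
    (Q := T.subgroupOf (normalizer (W : Set G))) (hT.comap_of_injective _ (subtype_injective _))
  exact ⟨m, m.2, fun x hx => hm ⟨x, hTM hx⟩ hx⟩

/-- An element carrying a subgroup of order eight of `N(W)` into a 2-subgroup of `N(W)` lies in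
`N(W)`. -/
theorem mem_of_conj {A T : Subgroup G} (hA : Cfsg.IsElementaryAbelian 2 A)
    (hA8 : 2 ^ 3 ≤ Nat.card A) (hAM : A ≤ normalizer (W : Set G))
    (hT : IsPGroup 2 T) (hTM : T ≤ normalizer (W : Set G)) {g : G}
    (hg : A.map (MulAut.conj g).toMonoidHom ≤ T) : g ∈ normalizer (W : Set G) := by
  haveI : Fact (Nat.Prime 2) := ⟨Nat.prime_two⟩
  obtain ⟨m, hm, hmA⟩ := d.exists_conj_le (isPGroup_of_elementary hA) hAM
  obtain ⟨k, hk, hkT⟩ := d.exists_conj_le hT hTM
  have hA' : Cfsg.IsElementaryAbelian 2 (A.map (MulAut.conj m).toMonoidHom) := by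
    refine ⟨⟨⟨?_⟩⟩, ?_⟩
    · rintro ⟨_, a, ha, rfl⟩ ⟨_, b, hb, rfl⟩
      refine Subtype.ext ?_
      simp only [Subgroup.coe_mul]
      rw [← map_mul, ← map_mul]
      exact congrArg _ (commute_of_mem hA ha hb)
    · rintro _ ⟨a, ha, rfl⟩
      rw [← map_pow, hA.2 a ha, map_one]
  have h := d.mem_normalizer_of_conj (g := k * g * m⁻¹) hA'
    (by rwa [card_map_of_injective (MulAut.conj m).injective])
    (by rintro _ ⟨x, hx, rfl⟩; exact hmA x hx) (by
      rintro _ ⟨_, ⟨x, hx, rfl⟩, rfl⟩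
      have h1 := hkT _ (hg ⟨x, hx, rfl⟩)
      simpa [mul_assoc] using h1)
  have := mul_mem (mul_mem (inv_mem hk) h) hm
  simpa [mul_assoc] using this

/-- The second generator may be multiplied by `z`. -/
theorem swap : Data S W z (z * v) where
  layer := d.layer
  noNormal := d.noNormal
  two := d.two
  exists_eight := d.exists_eight
  zS := d.zS
  vS := mul_mem d.zS d.vS
  hz := d.hz
  hv := orderOf_eq_two (by rw [d.commute_zv.symm.mul_mul_mul_comm, mul_self d.hz,
    mul_self d.hv, one_mul]) fun e => d.hzv ((mul_eq_one_iff_eq_inv.1 e).trans (inv_eq d.hv))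
  hzv := fun e => ne_one d.hv (mul_eq_left.1 e.symm)
  hzc := d.hzc
  hvc := fun g hg => by
    rw [show g * (z * v) * g⁻¹ * (z * v)⁻¹ = (g * z * g⁻¹) * (g * v * g⁻¹ * v⁻¹) * z⁻¹ by group,
      (d.hzc g hg).eq, mul_inv_cancel_right]
    exact mul_mem (mul_mem (mem_zpowers z) (d.hvc g hg)) (inv_mem (mem_zpowers z))
  closure := by
    rw [← d.closure]
    congr 1
    refine le_antisymm (sup_le le_sup_left (zpowers_le.2 (mul_mem
      (mem_sup_left (mem_zpowers z)) (mem_sup_right (mem_zpowers v)))))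
      (sup_le le_sup_left (zpowers_le.2 ?_))
    have : z⁻¹ * (z * v) ∈ zpowers z ⊔ zpowers (z * v) :=
      mul_mem (inv_mem (mem_sup_left (mem_zpowers z))) (mem_sup_right (mem_zpowers _))
    rwa [inv_mul_cancel_left] at this

/-- The odd subgroups of `C(v)` normalised by `z`. -/
theorem absorbs : Absorbs v z := by
  classical
  haveI : Fact (Nat.Prime 2) := ⟨Nat.prime_two⟩
  set M := normalizer (W : Set G) with hM
  set X := centralizer ({v} : Set G) with hX
  set T := (S : Subgroup G) ⊓ X with hT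
  have hzX : z ∈ X := mem_centralizer_singleton_iff.2 d.commute_zv.eq
  obtain ⟨Rx, hRx⟩ := ((S.isPGroup'.to_le (inf_le_left : T ≤ _)).comap_of_injective _
    (subtype_injective X)).exists_le_sylow
  set R := (Rx : Subgroup X).map X.subtype with hR
  have hTR : T ≤ R := fun x hx => ⟨⟨x, hx.2⟩, hRx (mem_subgroupOf.2 hx), rfl⟩
  by_cases hRT : R ≤ T
  · refine absorbs_of_mem d.hz hzX ?_
    set N := Cfsg.pPrimePCore 2 X with hN
    haveI : N.Normal := Subgroup.Normal.comap inferInstance _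
    obtain ⟨Pn, hPn⟩ := CfsgLib.NT.SylowCount.exists_sylow_inf Rx N
    have hcons := (centralizer_pCore_le_iff_layer (p := 2)
      (pPrimeCore_quotient_eq_bot (p := 2) (G := X))).2 (pLayer_eq_bot_iff.1 (d.layer v d.hv))
    refine hcons (mem_centralizer_iff.2 fun y hy => ?_)
    rw [SetLike.mem_coe, ← sylow_pPrimePCore_map Pn, hPn] at hy
    obtain ⟨p, hp, rfl⟩ := hy
    rw [← map_mul, ← map_mul]
    exact congrArg _ (Subtype.ext (d.hzc (p : G) (hRT ⟨p, hp.1, rfl⟩).1).eq)
  obtain ⟨A, hAS, hAv, -, -, hA, hA8⟩ := d.exists_base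
  have hAT : A ≤ T := le_inf hAS hAv
  have hRp : IsPGroup 2 R := Rx.isPGroup'.map _
  have hTM : T ≤ M := inf_le_left.trans d.sylow_le
  have hRM : R ≤ M := by
    by_contra hnot
    obtain ⟨x, hx, hxN, hxn⟩ := CfsgLib.LocalEven.SwapInjective.exists_normalizer_not_mem hRp
      (lt_of_le_of_ne inf_le_left fun e => hnot (inf_eq_left.1 e) : R ⊓ M < R)
    refine hxn ⟨hx, d.mem_of_conj hA hA8 (hAT.trans hTM) (hRp.to_le inf_le_left) inf_le_right ?_⟩
    rintro _ ⟨y, hy, rfl⟩
    exact CfsgLib.Components.SFT.conj_mem_of_mem_normalizer hxN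
      ⟨hTR (hAT hy), hTM (hAT hy)⟩
  obtain ⟨m, hm, hmR⟩ := d.exists_conj_le hRp hRM
  -- `m` carries `R` onto `S`
  have hcardST : Nat.card (S : Subgroup G) ≤ 2 * Nat.card T := d.card_le_two_mul le_rfl
  have hlt : Nat.card T < Nat.card R := by
    refine lt_of_le_of_ne (card_le_of_le hTR) fun e => hRT ?_
    exact (eq_of_le_of_card_ge hTR e.ge).ge
  have hmS : R.map (MulAut.conj m).toMonoidHom = (S : Subgroup G) := by
    refine eq_of_le_of_card_ge (by rintro _ ⟨x, hx, rfl⟩; exact hmR x hx) ?_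
    rw [card_map_of_injective (MulAut.conj m).injective]
    obtain ⟨a, ha⟩ := (S.isPGroup'.to_le (inf_le_left : T ≤ _)).exists_card_eq
    obtain ⟨b, hb⟩ := hRp.exists_card_eq
    rw [ha, hb] at hlt
    have : 2 ^ (a + 1) ≤ 2 ^ b :=
      Nat.pow_le_pow_right two_pos ((Nat.pow_lt_pow_iff_right (le_refl 2)).1 hlt)
    rw [pow_succ'] at this
    rw [ha] at hcardST
    omega
  have hback : ∀ g ∈ (S : Subgroup G), m⁻¹ * g * m ∈ R := by
    intro g hg
    rw [← hmS] at hg
    obtain ⟨x, hx, rfl⟩ := hg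
    simpa [mul_assoc] using hx
  have hvR : ∀ x ∈ R, Commute x v := fun x hx =>
    mem_centralizer_singleton_iff.1 (map_subtype_le _ hx : x ∈ X)
  have hzR : z ∈ R := hTR ⟨d.zS, hzX⟩
  have hvRm : v ∈ R := hTR ⟨d.vS, mem_centralizer_singleton_iff.2 rfl⟩
  set t1 := m * v * m⁻¹ with ht1
  have ht1S : t1 ∈ (S : Subgroup G) := hmR v hvRm
  have ht1o : orderOf t1 = 2 := (Dihedral.orderOf_conj m v).trans d.hv
  have ht1c : ∀ g ∈ (S : Subgroup G), Commute g t1 := fun g hg => by
    have h1 : Commute (m * (m⁻¹ * g * m) * m⁻¹) (m * v * m⁻¹) :=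
      (hvR _ (hback g hg)).map (MulAut.conj m).toMonoidHom
    rwa [show m * (m⁻¹ * g * m) * m⁻¹ = g by group] at h1
  have hST : ¬ ∀ g ∈ (S : Subgroup G), Commute g v := fun h => by
    have e : (S : Subgroup G) ≤ T :=
      le_inf le_rfl fun g hg => mem_centralizer_singleton_iff.2 (h g hg).eq
    have h1 := card_le_of_le e
    have h2 : Nat.card R ≤ Nat.card (S : Subgroup G) := by
      rw [← hmS, Coprime.card_conj_map]
    omega
  have ht1z : t1 = z := by
    by_contra hne
    by_cases h : t1 ≠ v ∧ t1 ≠ z * v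
    · obtain ⟨hE, hE8⟩ := elementary_three d.hz d.hv ht1o d.commute_zv (ht1c z d.zS)
        (ht1c v d.vS) d.hzv ⟨hne, h⟩
      refine absurd hE8 (not_le.2 (d.noNormal _
        (sup_le (sup_le (zpowers_le.2 d.zS) (zpowers_le.2 d.vS)) (zpowers_le.2 ht1S)) hE ?_))
      intro g hg
      have key : ∀ x ∈ zpowers z ⊔ zpowers v ⊔ zpowers t1,
          g * x * g⁻¹ ∈ zpowers z ⊔ zpowers v ⊔ zpowers t1 := by
        show zpowers z ⊔ zpowers v ⊔ zpowers t1 ≤
          (zpowers z ⊔ zpowers v ⊔ zpowers t1).comap (MulAut.conj g).toMonoidHom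
        refine sup_le (sup_le (zpowers_le.2 ?_) (zpowers_le.2 ?_)) (zpowers_le.2 ?_)
        · rw [mem_comap]
          show g * z * g⁻¹ ∈ _
          rw [(d.hzc g hg).eq, mul_inv_cancel_right]
          exact mem_sup_left (mem_sup_left (mem_zpowers z))
        · rw [mem_comap]
          show g * v * g⁻¹ ∈ _
          refine mem_sup_left ?_
          rcases d.conj_v hg with e | e <;> rw [e]
          exacts [mem_sup_right (mem_zpowers v),
            mul_mem (mem_sup_left (mem_zpowers z)) (mem_sup_right (mem_zpowers v))]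
        · rw [mem_comap]
          show g * t1 * g⁻¹ ∈ _
          rw [(ht1c g hg).eq, mul_inv_cancel_right]
          exact mem_sup_right (mem_zpowers t1)
      exact Coprime.mem_normalizer_of_conj_map_le key
    · refine hST fun g hg => ?_
      by_cases h' : t1 = v
      · exact h' ▸ ht1c g hg
      push Not at h
      have h2 := ht1c g hg
      rw [h h'] at h2
      have := ((d.hzc g hg).inv_right).mul_right h2
      rwa [inv_mul_cancel_left] at this
  have hidx : (T.subgroupOf R).index = 2 := by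
    have h1 := card_mul_index (T.subgroupOf R)
    rw [Nat.card_congr (subgroupOfEquivOfLe hTR).toEquiv] at h1
    obtain ⟨a, ha⟩ := (S.isPGroup'.to_le (inf_le_left : T ≤ _)).exists_card_eq
    obtain ⟨b, hb⟩ := hRp.exists_card_eq
    rw [ha, hb] at hlt h1
    have hab := (Nat.pow_lt_pow_iff_right (le_refl 2)).1 hlt
    have hR2 : 2 ^ b ≤ 2 * 2 ^ a := by
      rw [← hb, ← ha]
      refine le_trans ?_ hcardST
      rw [← hmS, Coprime.card_conj_map]
    have h2 : 2 ^ (a + 1) ≤ 2 ^ b := Nat.pow_le_pow_right two_pos hab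
    rw [pow_succ'] at h2
    refine Nat.eq_of_mul_eq_mul_left (pow_pos two_pos a) ?_
    rw [h1]; omega
  set v1 := m * z * m⁻¹ with hv1
  have hv1S : v1 ∈ (S : Subgroup G) := hmR z hzR
  have hv1o : orderOf v1 = 2 := (Dihedral.orderOf_conj m z).trans d.hz
  have hcomm1 : ∀ g ∈ T, Commute (m * g * m⁻¹) v1 := fun g hg => by
    exact (d.hzc g hg.1).map (MulAut.conj m).toMonoidHom
  have hv1c : ∀ s ∈ (S : Subgroup G), s * v1 * s⁻¹ * v1⁻¹ ∈ zpowers z := by
    intro s hs
    set y := m⁻¹ * s * m with hy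
    have hyR : y ∈ R := hback s hs
    have hsy : s = m * y * m⁻¹ := by rw [hy]; group
    by_cases hyz : Commute y z
    · rw [hsy, show m * y * m⁻¹ * v1 * (m * y * m⁻¹)⁻¹ = m * (y * z * y⁻¹) * m⁻¹ by
        rw [hv1]; group, hyz.eq, mul_inv_cancel_right, ← hv1, mul_inv_cancel]
      exact one_mem _
    set w := s * v1 * s⁻¹ with hw
    have hwo : orderOf w = 2 := (Dihedral.orderOf_conj s v1).trans hv1o
    -- `T` has index two in `R`
    haveI hTn : (T.subgroupOf R).Normal := normal_of_index_eq_two hidx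
    have hnorm : ∀ x ∈ T, y⁻¹ * x * y ∈ T ∧ y * x * y⁻¹ ∈ T := fun x hx => by
      constructor
      · have := hTn.conj_mem ⟨x, hTR hx⟩ (mem_subgroupOf.2 hx) ⟨y, hyR⟩⁻¹
        simpa [mem_subgroupOf] using this
      · exact mem_subgroupOf.1 (hTn.conj_mem ⟨x, hTR hx⟩ (mem_subgroupOf.2 hx) ⟨y, hyR⟩)
    have hwc : ∀ g ∈ T, Commute (m * g * m⁻¹) w := fun g hg => by
      have h1 := (d.hzc _ (hnorm g hg).1.1).map (MulAut.conj (m * y)).toMonoidHom
      have e1 : (MulAut.conj (m * y)).toMonoidHom (y⁻¹ * g * y) = m * g * m⁻¹ := by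
        show m * y * (y⁻¹ * g * y) * (m * y)⁻¹ = _
        group
      have e2 : (MulAut.conj (m * y)).toMonoidHom z = w := by
        show m * y * z * (m * y)⁻¹ = _
        rw [hw, hv1, hsy]; group
      rwa [e1, e2] at h1
    have hzT1 : ∃ g ∈ T, m * g * m⁻¹ = z :=
      ⟨v, ⟨d.vS, mem_centralizer_singleton_iff.2 rfl⟩, ht1z⟩
    have hv1T1 : ∃ g ∈ T, m * g * m⁻¹ = v1 := ⟨z, ⟨d.zS, hzX⟩, rfl⟩
    have hwT1 : ∃ g ∈ T, m * g * m⁻¹ = w := ⟨y * z * y⁻¹, (hnorm z ⟨d.zS, hzX⟩).2, by
      rw [hw, hv1, hsy]; group⟩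
    have hzv1 : z ≠ v1 := fun e => by
      rw [← ht1z, ht1, hv1, mul_left_inj, mul_right_inj] at e
      exact d.hzv e.symm
    by_cases hwU : w ≠ z ∧ w ≠ v1 ∧ w ≠ z * v1
    · exfalso
      obtain ⟨gz, hgz, ez⟩ := hzT1
      obtain ⟨gv, hgv, ev⟩ := hv1T1
      obtain ⟨gw, hgw, ew⟩ := hwT1
      obtain ⟨hE, hE8⟩ := elementary_three d.hz hv1o hwo (ez ▸ hcomm1 gz hgz)
        (ez ▸ hwc gz hgz) (ev ▸ hwc gv hgv) hzv1 hwU
      have hwS : w ∈ (S : Subgroup G) := mul_mem (mul_mem hs hv1S) (inv_mem hs)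
      refine absurd hE8 (not_le.2 (d.noNormal _
        (sup_le (sup_le (zpowers_le.2 d.zS) (zpowers_le.2 hv1S)) (zpowers_le.2 hwS)) hE ?_))
      set E := zpowers z ⊔ zpowers v1 ⊔ zpowers w with hEdef
      have hsE : ∀ x ∈ E, s * x * s⁻¹ ∈ E := by
        show E ≤ E.comap (MulAut.conj s).toMonoidHom
        refine sup_le (sup_le (zpowers_le.2 ?_) (zpowers_le.2 ?_)) (zpowers_le.2 ?_)
        · rw [mem_comap]
          show s * z * s⁻¹ ∈ _
          rw [(d.hzc s hs).eq, mul_inv_cancel_right]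
          exact mem_sup_left (mem_sup_left (mem_zpowers z))
        · exact mem_sup_right (mem_zpowers w)
        · rw [mem_comap]
          show s * w * s⁻¹ ∈ _
          have hy2 : y * y ∈ T := mem_subgroupOf.1
            (mul_self_mem_of_index_two (H := T.subgroupOf R) hidx ⟨y, hyR⟩)
          rw [hw, show s * (s * v1 * s⁻¹) * s⁻¹ = (m * (y * y) * m⁻¹) * v1 * (m * (y * y) * m⁻¹)⁻¹ by
            rw [hsy]; group, (hcomm1 _ hy2).eq, mul_inv_cancel_right]
          exact mem_sup_left (mem_sup_right (mem_zpowers v1))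
      -- `S` is generated by `s` and the image of `T`
      intro g hg
      refine Coprime.mem_normalizer_of_conj_map_le ?_
      have hfix : ∀ k ∈ T, ∀ x ∈ E, m * k * m⁻¹ * x * (m * k * m⁻¹)⁻¹ ∈ E := fun k hk x hx => by
        have hle : E ≤ centralizer ({m * k * m⁻¹} : Set G) := sup_le (sup_le
          (zpowers_le.2 (mem_centralizer_singleton_iff.2 (d.hzc _ (hmR k (hTR hk))).symm.eq))
          (zpowers_le.2 (mem_centralizer_singleton_iff.2 (hcomm1 k hk).symm.eq)))
          (zpowers_le.2 (mem_centralizer_singleton_iff.2 (hwc k hk).symm.eq))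
        rw [← mem_centralizer_singleton_iff.1 (hle hx), mul_inv_cancel_right]
        exact hx
      set y' := m⁻¹ * g * m with hy'
      have hy'R : y' ∈ R := hback g hg
      have hgy : g = m * y' * m⁻¹ := by rw [hy']; group
      intro x hx
      by_cases hT' : y' ∈ T
      · rw [hgy]; exact hfix y' hT' x hx
      have hk : y⁻¹ * y' ∈ T := by
        have hyT : y ∉ T := fun h => hyz (d.hzc y h.1)
        have := (mul_mem_iff_of_index_two hidx (a := (⟨y, hyR⟩ : R)⁻¹) (b := ⟨y', hy'R⟩)).2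
          (iff_of_false (fun h => hyT (mem_subgroupOf.1 ((Subgroup.inv_mem_iff _).1 h)))
            fun h => hT' (mem_subgroupOf.1 h))
        exact mem_subgroupOf.1 this
      have h1 := hsE _ (hfix _ hk x hx)
      rw [hgy]
      rw [hsy] at h1
      simpa [mul_assoc] using h1
    rcases not_and_or.1 hwU with h | h
    · exfalso
      push Not at h
      -- `w = z` forces `v1 = z`
      refine hzv1 ?_
      have : v1 = s⁻¹ * w * s := by rw [hw]; group
      rw [this, h, mul_assoc, ← (d.hzc s hs).eq, inv_mul_cancel_left]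
    · rcases not_and_or.1 h with h | h <;> push Not at h
      · rw [h, mul_inv_cancel]; exact one_mem _
      · rw [h, mul_inv_cancel_right]; exact mem_zpowers z
  have hv1X : v1 ∈ centralizer ({z} : Set G) := mem_centralizer_singleton_iff.2 (d.hzc v1 hv1S).eq
  have hmem := mem_pPrimePCore_of_comm d.hz (d.layer z d.hz) S d.hzc hv1S hv1c hv1X
  have h := (absorbs_of_mem hv1o hv1X hmem).conj m⁻¹
  have e1 : m⁻¹ * z * m⁻¹⁻¹ = v := by rw [← ht1z, ht1]; group
  have e2 : m⁻¹ * v1 * m⁻¹⁻¹ = z := by rw [hv1]; group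
  rwa [e1, e2] at h

/-- The centraliser of the central involution. -/
theorem centralizer_z_le : centralizer ({z} : Set G) ≤ normalizer (W : Set G) := by
  classical
  haveI : Fact (Nat.Prime 2) := ⟨Nat.prime_two⟩
  set M := normalizer (W : Set G) with hM
  set X := centralizer ({z} : Set G) with hX
  obtain ⟨A, hAS, -, hzA, hvA, hA, hA8⟩ := d.exists_base
  have hWA := d.closure_eq hAS hA hA8
  set Tx : Sylow 2 X :=
    S.subtype (fun g hg => mem_centralizer_singleton_iff.2 (d.hzc g hg).eq) with hTx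
  set N := Cfsg.pPrimePCore 2 X with hN
  haveI : N.Normal := Subgroup.Normal.comap inferInstance _
  obtain ⟨Pn, hPn⟩ := CfsgLib.NT.SylowCount.exists_sylow_inf Tx N
  have hPmap : ((Tx : Subgroup X) ⊓ N).map (QuotientGroup.mk' (Cfsg.pPrimeCore 2 X)) =
      Cfsg.pCore 2 (X ⧸ Cfsg.pPrimeCore 2 X) := by
    rw [← hPn]; exact sylow_pPrimePCore_map Pn
  set P := (Tx : Subgroup X) ⊓ N with hP
  have hvX : v ∈ X := mem_centralizer_singleton_iff.2 (d.hzc v d.vS).eq
  have hvP : (⟨v, hvX⟩ : X) ∈ P :=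
    ⟨d.vS, mem_pPrimePCore_of_comm d.hz (d.layer z d.hz) S d.hzc d.vS d.hvc hvX⟩
  have hzX : z ∈ X := mem_centralizer_singleton_iff.2 rfl
  have hzP : (⟨z, hzX⟩ : X) ∈ P :=
    ⟨d.zS, mem_pPrimePCore_of_comm d.hz (d.layer z d.hz) S d.hzc d.zS (fun g hg => by
      rw [(d.hzc g hg).eq, mul_inv_cancel_right, mul_inv_cancel]; exact one_mem _) hzX⟩
  have hfr := Pn.normalizer_sup_eq_top
  rw [hPn] at hfr
  intro g hg
  have hgt : (⟨g, hg⟩ : X) ∈ normalizer (P : Set X) ⊔ N := hfr ▸ mem_top _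
  refine (show normalizer (P : Set X) ⊔ N ≤ M.subgroupOf X from sup_le ?_ ?_) hgt
  · intro x hx
    refine mem_subgroupOf.2 (inv_inv (x : G) ▸ inv_mem ?_)
    set p := (x : G) * v * (x : G)⁻¹ with hp
    have hxz : (x : G) * z * (x : G)⁻¹ = z := by
      rw [mem_centralizer_singleton_iff.1 x.2, mul_inv_cancel_right]
    have hpP : (⟨p, (x * ⟨v, hvX⟩ * x⁻¹).2⟩ : X) ∈ P :=
      CfsgLib.Components.SFT.conj_mem_of_mem_normalizer hx hvP
    have hpS : p ∈ (S : Subgroup G) := hpP.1
    have hpv : p * p = 1 := by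
      rw [hp, ← mul_self ((Dihedral.orderOf_conj (x : G) v).trans d.hv)]
    have hpo : orderOf p = 2 := (Dihedral.orderOf_conj (x : G) v).trans d.hv
    have hzp : z ≠ p := fun e => d.hzv (by
      rw [hp, ← hxz] at e
      simpa using e)
    set U := zpowers z ⊔ zpowers p with hU
    have hUk : IsKleinFour U := kleinFour_sup d.hz hpo hzp (d.hzc p hpS).eq.symm
    have hUS : U ≤ (S : Subgroup G) := sup_le (zpowers_le.2 d.zS) (zpowers_le.2 hpS)
    haveI : IsMulCommutative U := IsKleinFour.isMulCommutative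
    have hgen := Coprime.iSup_centralizer_singleton (A := U) (K := W) IsKleinFour.not_isCyclic
      (hUS.trans d.sylow_le) (by
        rw [hUk.card_four, show (4 : ℕ) = 2 ^ 2 by norm_num]
        exact (Nat.coprime_two_left.2 d.odd_closure).pow_left 2)
    have hcz : W ⊓ centralizer {z} = Cfsg.centralizerPPrimeCore 2 z := by
      rw [← hWA]; exact (exists_functor d.layer hA hA8).2.1 z hzA (ne_one d.hz)
    have hle : ∀ u ∈ U, u ≠ 1 → W ⊓ centralizer {u} ≤ Cfsg.centralizerPPrimeCore 2 u := by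
      have hkey : ∀ {w : G}, Absorbs w z → orderOf w = 2 → w ∈ (S : Subgroup G) →
          W ⊓ centralizer {w} ≤ Cfsg.centralizerPPrimeCore 2 w := by
        intro w hw hwo hwS
        refine hw _ (d.odd_closure.of_dvd_nat (card_dvd_of_le inf_le_left)) inf_le_right
          (CfsgLib.LocalEven.BenderTransitive.mem_normalizer_inf' (d.sylow_le d.zS)
            (le_normalizer (mem_centralizer_singleton_iff.2 (d.hzc w hwS).eq.symm))) ?_
        intro y hy
        refine core_pow_inf_centralizer_le (k := 1) (d.hzc w hwS).eq.symm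
          (by rw [pow_one]; exact d.hz) (d.layer w hwo) ⟨?_, hy.1.2⟩
        rw [← hcz]
        exact ⟨hy.1.1, hy.2⟩
      intro u hu hu1
      have hu' : u = z ∨ u = p ∨ u = z * p := by
        have hU' : U ≤ TwoGroupLifts.fourGroup z p (mul_self d.hz) hpv (d.hzc p hpS).eq.symm :=
          sup_le (zpowers_le.2 (TwoGroupLifts.mem_fourGroup.2 (by simp)))
            (zpowers_le.2 (TwoGroupLifts.mem_fourGroup.2 (by simp)))
        exact (TwoGroupLifts.mem_fourGroup.1 (hU' hu)).resolve_left hu1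
      rcases hu' with rfl | rfl | rfl
      · exact hcz.le
      · have h := d.absorbs.conj (x : G)
        rw [hxz] at h
        exact hkey h hpo hpS
      · have h := d.swap.absorbs.conj (x : G)
        rw [hxz, show (x : G) * (z * v) * (x : G)⁻¹ = z * p by
          rw [hp, ← mul_assoc, ← mul_assoc, ← mul_assoc,
            ← show (x : G) * z = z * x from mem_centralizer_singleton_iff.1 x.2]] at h
        refine hkey h ?_ (mul_mem d.zS hpS)
        refine orderOf_eq_two ?_ fun e => hzp ((mul_eq_one_iff_eq_inv.1 e).trans (inv_eq hpo))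
        rw [(d.hzc p hpS).mul_mul_mul_comm, mul_self d.hz, hpv, one_mul]
    refine Coprime.mem_normalizer_of_conj_map_le fun y hy => ?_
    have hsub : W ≤ W.map (MulAut.conj (x : G)).toMonoidHom := by
      refine le_of_eq_of_le hgen.symm ?_
      refine iSup₂_le fun u hu => (hle u hu.1 hu.2).trans ?_
      have hu' : ∃ u₀ ∈ A, u₀ ≠ 1 ∧ (x : G) * u₀ * (x : G)⁻¹ = u := by
        have hU' : U ≤ A.map (MulAut.conj (x : G)).toMonoidHom := sup_le
          (zpowers_le.2 ⟨z, hzA, hxz⟩) (zpowers_le.2 ⟨v, hvA, rfl⟩)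
        obtain ⟨u₀, hu₀, e⟩ := hU' hu.1
        exact ⟨u₀, hu₀, fun e1 => hu.2 (by rw [← e, e1, map_one]), e⟩
      obtain ⟨u₀, hu₀, hu₀1, rfl⟩ := hu'
      rw [map_conj_core, ← hWA]
      exact map_mono (le_iSup (fun e : {e : G // e ∈ A ∧ e ≠ 1} =>
        Cfsg.centralizerPPrimeCore 2 (e : G)) ⟨u₀, hu₀, hu₀1⟩)
    obtain ⟨y', hy', e⟩ := hsub hy
    rw [← e]
    simpa [mul_assoc] using hy'
  · intro x hx
    obtain ⟨p, hp, hqp⟩ : QuotientGroup.mk' (Cfsg.pPrimeCore 2 X) x ∈
        P.map (QuotientGroup.mk' (Cfsg.pPrimeCore 2 X)) := hPmap.symm ▸ hx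
    have h1 : p⁻¹ * x ∈ Cfsg.pPrimeCore 2 X := QuotientGroup.eq.1 hqp
    have h2 : ((p⁻¹ * x : X) : G) ∈ W := by
      rw [← hWA]
      exact le_iSup (fun e : {e : G // e ∈ A ∧ e ≠ 1} => Cfsg.centralizerPPrimeCore 2 (e : G))
        ⟨z, hzA, ne_one d.hz⟩ (mem_map_of_mem X.subtype h1)
    have h3 := mul_mem (d.sylow_le hp.1) (le_normalizer h2 : ((p⁻¹ * x : X) : G) ∈ M)
    refine mem_subgroupOf.2 ?_
    simpa using h3

/-- An involution with maximal centraliser in `S` among the 2-subgroups of its centraliser in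
`N(W)`. -/
theorem extremal {t : G} (ht : orderOf t = 2) (htS : t ∈ (S : Subgroup G))
    (hmax : ∀ Q : Subgroup G, IsPGroup 2 Q → (S : Subgroup G) ⊓ centralizer ({t} : Set G) ≤ Q →
      Q ≤ normalizer (W : Set G) ⊓ centralizer ({t} : Set G) →
      Q ≤ (S : Subgroup G) ⊓ centralizer ({t} : Set G)) :
    (∃ A : Subgroup G, A ≤ (S : Subgroup G) ∧ t ∈ A ∧ Cfsg.IsElementaryAbelian 2 A ∧
      2 ^ 3 ≤ Nat.card A) ∧ centralizer ({t} : Set G) ≤ normalizer (W : Set G) := by
  classical
  haveI : Fact (Nat.Prime 2) := ⟨Nat.prime_two⟩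
  set M := normalizer (W : Set G) with hM
  set X := centralizer ({t} : Set G) with hX
  set P := (S : Subgroup G) ⊓ X with hP
  have hPM : P ≤ M := inf_le_left.trans d.sylow_le
  have htX : t ∈ X := mem_centralizer_singleton_iff.2 rfl
  have hzX : z ∈ X := mem_centralizer_singleton_iff.2 (d.hzc t htS).symm.eq
  obtain ⟨Rx, hRx⟩ := ((S.isPGroup'.to_le (inf_le_left : P ≤ _)).comap_of_injective _
    (subtype_injective X)).exists_le_sylow
  set R := (Rx : Subgroup X).map X.subtype with hR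
  have hRp : IsPGroup 2 R := Rx.isPGroup'.map _
  have hPR : P ≤ R := fun x hx => ⟨⟨x, hx.2⟩, hRx (mem_subgroupOf.2 hx), rfl⟩
  -- elements of `R` normalising `P` and lying in `N(W)`
  have hgrow : ∀ x ∈ R, x ∈ normalizer (P : Set G) → x ∈ M → x ∈ P := by
    intro x hx hxN hxM
    exact hmax (P ⊔ zpowers x) (hRp.to_le (sup_le hPR (zpowers_le.2 hx))) le_sup_left
      (sup_le (le_inf hPM inf_le_right) (zpowers_le.2 ⟨hxM, map_subtype_le _ hx⟩))
      (mem_sup_right (mem_zpowers x))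
  have hstep : ∀ {x : G}, x ∈ R → x ∈ normalizer (P : Set G) → x ∉ P →
      ∀ A : Subgroup G, A ≤ P → Cfsg.IsElementaryAbelian 2 A → 2 ^ 3 ≤ Nat.card A → False := by
    intro x hx hxN hxP A hAP hA hA8
    refine hxP (hgrow x hx hxN (d.mem_of_conj hA hA8 (hAP.trans hPM)
      (S.isPGroup'.to_le inf_le_left) hPM ?_))
    rintro _ ⟨y, hy, rfl⟩
    exact CfsgLib.Components.SFT.conj_mem_of_mem_normalizer hxN (hAP hy)
  -- an elementary abelian subgroup of order eight in `P` through `t`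
  obtain ⟨A, hAP, htA, hA, hA8⟩ : ∃ A : Subgroup G, A ≤ P ∧ t ∈ A ∧
      Cfsg.IsElementaryAbelian 2 A ∧ 2 ^ 3 ≤ Nat.card A := by
    have hinP : ∀ A : Subgroup G, A ≤ (S : Subgroup G) → t ∈ A →
        Cfsg.IsElementaryAbelian 2 A → A ≤ P := fun A hAS htA hA =>
      le_inf hAS fun x hx => mem_centralizer_singleton_iff.2 (commute_of_mem hA hx htA)
    by_cases htv : Commute t v
    · obtain ⟨A, hAS, htA, hA, hA8⟩ := d.exists_through ht htS htv
      exact ⟨A, hinP A hAS htA hA, htA, hA, hA8⟩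
    have htz : t ≠ z := fun e => htv (e ▸ d.commute_zv)
    by_cases hq : ∃ q ∈ P, Commute q v ∧ orderOf q = 2 ∧ q ≠ z
    · obtain ⟨q, hqP, hqv, hqo, hqz⟩ := hq
      have hqt : Commute q t := mem_centralizer_singleton_iff.1 hqP.2
      obtain ⟨h1, h2⟩ := elementary_three ht d.hz hqo (d.hzc t htS) hqt.symm (d.hzc q hqP.1).symm
        htz ⟨fun e => htv (e ▸ hqv), hqz, fun e => htv (by
          have := hqv.mul_left (d.commute_zv.inv_left)
          rwa [e, mul_inv_cancel_right] at this)⟩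
      exact ⟨_, sup_le (sup_le (zpowers_le.2 ⟨htS, htX⟩) (zpowers_le.2 ⟨d.zS, hzX⟩))
          (zpowers_le.2 hqP), mem_sup_left (mem_sup_left (mem_zpowers t)), h1, h2⟩
    exfalso
    push Not at hq
    have honly : ∀ q ∈ P, Commute q v → orderOf q = 2 → q = z := hq
    have hsq : ∀ q ∈ P, Commute (q * q) v := fun q hq' => by
      by_cases hqv : Commute q v
      · exact hqv.mul_left hqv
      · have hinv : ¬ Commute q⁻¹ v := fun h => hqv (by simpa using h.inv_left)
        simpa using d.inv_mul_mem (inv_mem hq'.1) hq'.1 hinv hqv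
    -- `P` is not a Sylow subgroup of the centraliser
    obtain ⟨x, hx, hxN, hxP⟩ : ∃ x ∈ R, x ∈ normalizer (P : Set G) ∧ x ∉ P := by
      refine CfsgLib.LocalEven.SwapInjective.exists_normalizer_not_mem hRp
        (lt_of_le_of_ne hPR fun e => ?_)
      obtain ⟨B, hBX, hB, hB8⟩ := d.exists_big ht
      obtain ⟨T, hT⟩ := ((isPGroup_of_elementary hB).comap_of_injective _
        (subtype_injective X)).exists_le_sylow
      obtain ⟨k, hk⟩ := MulAction.exists_smul_eq X T Rx
      have hkB : ∀ b ∈ B, (k : G) * b * (k : G)⁻¹ ∈ P := fun b hb => by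
        rw [e, hR]
        refine ⟨k * ⟨b, hBX hb⟩ * k⁻¹, ?_, rfl⟩
        rw [← hk]
        exact ⟨⟨b, hBX hb⟩, hT (mem_subgroupOf.2 hb), rfl⟩
      have hB' : Cfsg.IsElementaryAbelian 2 (B.map (MulAut.conj (k : G)).toMonoidHom) := by
        refine ⟨⟨⟨?_⟩⟩, ?_⟩
        · rintro ⟨_, a, ha, rfl⟩ ⟨_, b, hb, rfl⟩
          refine Subtype.ext ?_
          simp only [Subgroup.coe_mul]
          rw [← map_mul, ← map_mul]
          exact congrArg _ (commute_of_mem hB ha hb)
        · rintro _ ⟨a, ha, rfl⟩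
          rw [← map_pow, hB.2 a ha, map_one]
      set B' := B.map (MulAut.conj (k : G)).toMonoidHom with hB'def
      have hB'P : B' ≤ P := by rintro _ ⟨b, hb, rfl⟩; exact hkB b hb
      have h4 := d.card_le_two_mul (hB'P.trans inf_le_left)
      have h8 : 2 ^ 3 ≤ Nat.card B' := by
        rwa [card_map_of_injective (MulAut.conj (k : G)).injective]
      have h2 : Nat.card (B' ⊓ centralizer ({v} : Set G) : Subgroup G) ≤ 2 := by
        rw [← d.hz, ← Nat.card_zpowers]
        refine card_le_of_le fun b hb => ?_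
        by_cases hb1 : b = 1
        · exact hb1 ▸ one_mem _
        · rw [honly b (hB'P hb.1) (mem_centralizer_singleton_iff.1 hb.2)
            (orderOf_eq_prime (hB'.2 b hb.1) hb1)]
          exact mem_zpowers z
      norm_num at h8
      omega
    refine hxP (hgrow x hx hxN (d.centralizer_z_le (mem_centralizer_singleton_iff.2 ?_)))
    by_cases hexp : ∃ q ∈ P, q * q ≠ 1
    · -- some square in `P` is `z`
      obtain ⟨q, hq', hq2⟩ := hexp
      obtain ⟨i, hi⟩ := IsPGroup.iff_orderOf.1 (S.isPGroup'.to_le inf_le_left) ⟨q, hq'⟩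
      rw [Subgroup.orderOf_mk] at hi
      obtain ⟨j, rfl⟩ : ∃ j, i = j + 2 := by
        refine ⟨i - 2, ?_⟩
        by_contra hne
        refine hq2 ?_
        rw [← pow_two, ← orderOf_dvd_iff_pow_eq_one, hi]
        exact dvd_trans (pow_dvd_pow 2 (by omega : i ≤ 1)) (by norm_num)
      set r := q ^ 2 ^ j with hr
      have hrP : r ∈ P := pow_mem hq' _
      have hro : orderOf (r * r) = 2 := by
        rw [hr, ← pow_add, ← two_mul, ← pow_succ', orderOf_pow_of_dvd (by positivity)
          (by rw [hi]; exact pow_dvd_pow 2 (by omega)), hi, Nat.pow_div (by omega) two_pos,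
          show j + 2 - (j + 1) = 1 by omega, pow_one]
      have hrz : r * r = z := honly _ (mul_mem hrP hrP) (hsq r hrP) hro
      have hxr : x * r * x⁻¹ ∈ P := CfsgLib.Components.SFT.conj_mem_of_mem_normalizer hxN hrP
      have h1 : x * r * x⁻¹ * (x * r * x⁻¹) = z := by
        refine honly _ (mul_mem hxr hxr) (hsq _ hxr) ?_
        rw [show x * r * x⁻¹ * (x * r * x⁻¹) = x * (r * r) * x⁻¹ by group, Dihedral.orderOf_conj]
        exact hro
      rw [show x * r * x⁻¹ * (x * r * x⁻¹) = x * (r * r) * x⁻¹ by group, hrz] at h1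
      exact mul_inv_eq_iff_eq_mul.1 h1
    · -- the centraliser in `S` has order four
      exfalso
      push Not at hexp
      set t' : (S : Subgroup G) := ⟨t, htS⟩ with ht'
      have hcard : Nat.card (centralizer ({t'} : Set (S : Subgroup G))) = 4 := by
        have e : (centralizer ({t'} : Set (S : Subgroup G))).map (S : Subgroup G).subtype = P := by
          ext y
          constructor
          · rintro ⟨y, hy, rfl⟩
            exact ⟨y.2, mem_centralizer_singleton_iff.2
              (congrArg Subtype.val (mem_centralizer_singleton_iff.1 hy))⟩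
          · rintro ⟨hyS, hyX⟩
            exact ⟨⟨y, hyS⟩, mem_centralizer_singleton_iff.2
              (Subtype.ext (mem_centralizer_singleton_iff.1 hyX)), rfl⟩
        rw [← card_map_of_injective (S : Subgroup G).subtype_injective, e]
        refine le_antisymm ?_ ?_
        · have h2 : Nat.card (P ⊓ centralizer ({v} : Set G) : Subgroup G) ≤ 2 := by
            rw [← d.hz, ← Nat.card_zpowers]
            refine card_le_of_le fun b hb => ?_
            by_cases hb1 : b = 1
            · exact hb1 ▸ one_mem _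
            · rw [honly b hb.1 (mem_centralizer_singleton_iff.1 hb.2)
                (orderOf_eq_prime (by rw [pow_two]; exact hexp b hb.1) hb1)]
              exact mem_zpowers z
          have := d.card_le_two_mul (K := P) inf_le_left
          omega
        · rw [← (kleinFour_sup ht d.hz htz (d.hzc t htS).eq).card_four]
          exact card_le_of_le (sup_le (zpowers_le.2 ⟨htS, htX⟩) (zpowers_le.2 ⟨d.zS, hzX⟩))
      obtain ⟨E, hES, hE, hE8⟩ := d.exists_eight
      obtain ⟨n, hn⟩ := S.isPGroup'.exists_card_eq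
      have hn3 : 3 ≤ n := by
        have := card_le_of_le hES
        rw [hn] at this
        exact (Nat.pow_le_pow_iff_right (le_refl 2)).1 (hE8.trans this)
      obtain ⟨C, hCc, hCi⟩ := CfsgLib.TwoGroups.MaximalClass.cyclic_max_of_involution_centralizer
        (n - 3) (S : Subgroup G) (by rw [hn, Nat.sub_add_cancel hn3]) t'
        (by rw [← Subgroup.orderOf_coe]; exact ht) hcard
      set E' := E.subgroupOf (S : Subgroup G) with hE'
      have hE'8 : 8 ≤ Nat.card E' := by
        rw [Nat.card_congr (subgroupOfEquivOfLe hES).toEquiv]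
        norm_num at hE8
        exact hE8
      haveI : IsCyclic (E' ⊓ C : Subgroup (S : Subgroup G)) :=
        isCyclic_of_injective (Subgroup.inclusion inf_le_right) (Subgroup.inclusion_injective _)
      have hle2 : Nat.card (E' ⊓ C : Subgroup (S : Subgroup G)) ≤ 2 := by
        obtain ⟨g, hg⟩ := IsCyclic.exists_ofOrder_eq_natCard
          (α := (E' ⊓ C : Subgroup (S : Subgroup G)))
        rw [← hg]
        refine orderOf_le_of_pow_eq_one two_pos (Subtype.ext (Subtype.ext ?_))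
        exact hE.2 _ (mem_subgroupOf.1 g.2.1)
      haveI := Subgroup.normal_of_index_eq_two hCi
      have h1 := Nat.le_of_dvd (by rw [hCi]; norm_num) (relIndex_dvd_index_of_normal C E')
      have h2 := Subgroup.card_mul_index (C.subgroupOf E')
      rw [Nat.card_congr (subgroupOfEquivOfLe (inf_le_left : E' ⊓ C ≤ E')).toEquiv.symm] at hle2
      rw [show (E' ⊓ C).subgroupOf E' = C.subgroupOf E' by
        rw [inf_comm, inf_subgroupOf_right]] at hle2
      rw [Subgroup.relIndex, hCi] at h1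
      rw [← h2] at hE'8
      nlinarith
  refine ⟨⟨A, hAP.trans inf_le_left, htA, hA, hA8⟩, ?_⟩
  -- `P` is a Sylow subgroup of the centraliser
  have hRP : R ≤ P := by
    by_contra hne
    obtain ⟨x, hx, hxN, hxP⟩ := CfsgLib.LocalEven.SwapInjective.exists_normalizer_not_mem hRp
      (lt_of_le_of_ne hPR fun e => hne e.ge)
    exact hstep hx hxN hxP A hAP hA hA8
  by_cases htz : t = z
  · rw [show X = centralizer ({z} : Set G) by rw [hX, htz]]
    exact d.centralizer_z_le
  have hRS : ∀ {x : X}, x ∈ (Rx : Subgroup X) → (x : G) ∈ (S : Subgroup G) := fun {x} hx =>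
    (hRP ⟨x, hx, rfl⟩).1
  set q := QuotientGroup.mk' (Cfsg.pPrimeCore 2 X) with hq
  set N := Cfsg.pPrimePCore 2 X with hN
  haveI : N.Normal := Subgroup.Normal.comap inferInstance _
  obtain ⟨Pn, hPn⟩ := CfsgLib.NT.SylowCount.exists_sylow_inf Rx N
  set Q := (Rx : Subgroup X) ⊓ N with hQ
  have hQmap : Q.map q = Cfsg.pCore 2 (X ⧸ Cfsg.pPrimeCore 2 X) := by
    rw [← hPn]; exact sylow_pPrimePCore_map Pn
  have hcons := (centralizer_pCore_le_iff_layer (p := 2)
    (pPrimeCore_quotient_eq_bot (p := 2) (G := X))).2 (pLayer_eq_bot_iff.1 (d.layer t ht))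
  have hcen : ∀ (w : G) (hw : w ∈ X), w ∈ P → (∀ g ∈ P, Commute g w) → (⟨w, hw⟩ : X) ∈ Q := by
    intro w hw hwP hwc
    refine ⟨hRx (mem_subgroupOf.2 hwP), hcons (mem_centralizer_iff.2 fun y hy => ?_)⟩
    rw [SetLike.mem_coe, ← hQmap] at hy
    obtain ⟨p, hp, rfl⟩ := hy
    rw [← map_mul, ← map_mul]
    exact congrArg q (Subtype.ext (hwc _ (hRP ⟨p, hp.1, rfl⟩)).eq)
  have hzQ : (⟨z, hzX⟩ : X) ∈ Q := hcen z hzX ⟨d.zS, hzX⟩ fun g hg => d.hzc g hg.1
  have htQ : (⟨t, htX⟩ : X) ∈ Q :=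
    hcen t htX ⟨htS, htX⟩ fun g hg => mem_centralizer_singleton_iff.1 hg.2
  have hfr := Pn.normalizer_sup_eq_top
  rw [hPn] at hfr
  intro g hg
  have hgt : (⟨g, hg⟩ : X) ∈ normalizer (Q : Set X) ⊔ N := hfr ▸ mem_top _
  refine (show normalizer (Q : Set X) ⊔ N ≤ M.subgroupOf X from sup_le ?_ ?_) hgt
  · intro x hx
    refine mem_subgroupOf.2 ?_
    by_cases hQ8 : ∃ B : Subgroup G, B ≤ Q.map X.subtype ∧ Cfsg.IsElementaryAbelian 2 B ∧
        2 ^ 3 ≤ Nat.card B
    · obtain ⟨B, hBQ, hB, hB8⟩ := hQ8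
      have hQM : Q.map X.subtype ≤ M := by
        rintro _ ⟨y, hy, rfl⟩
        exact d.sylow_le (hRS hy.1)
      refine d.mem_of_conj hB hB8 (hBQ.trans hQM) ((Rx.isPGroup'.to_le inf_le_left).map _) hQM ?_
      rintro _ ⟨y, hy, rfl⟩
      obtain ⟨p, hp, rfl⟩ := hBQ hy
      exact ⟨x * p * x⁻¹, CfsgLib.Components.SFT.conj_mem_of_mem_normalizer hx hp, rfl⟩
    -- otherwise `z` has at most two conjugates
    refine d.centralizer_z_le (mem_centralizer_singleton_iff.2 ?_)
    have htwo : ∀ y : X, y ∈ normalizer (Q : Set X) →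
        (y : G) * z * (y : G)⁻¹ = z ∨ (y : G) * z * (y : G)⁻¹ = t * z := by
      intro y hy
      by_contra hne
      push Not at hne
      set z1 := (y : G) * z * (y : G)⁻¹ with hz1
      have hz1Q : y * ⟨z, hzX⟩ * y⁻¹ ∈ Q :=
        CfsgLib.Components.SFT.conj_mem_of_mem_normalizer hy hzQ
      have hz1c : Commute z1 z := (d.hzc z1 (hRS hz1Q.1))
      have hyt : (y : G) * t * (y : G)⁻¹ = t := by
        rw [mem_centralizer_singleton_iff.1 y.2, mul_inv_cancel_right]
      have hz1t : Commute t z1 :=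
        (show Commute z1 t from mem_centralizer_singleton_iff.1
          (y * (⟨z, hzX⟩ : X) * y⁻¹).2).symm
      obtain ⟨h1, h2⟩ := elementary_three ht d.hz ((Dihedral.orderOf_conj (y : G) z).trans d.hz)
        (d.hzc t htS) hz1t hz1c.symm htz ⟨fun e => htz (by
          conv_rhs at e => rw [← hyt]
          exact (mul_right_injective _ (mul_left_injective _ e)).symm), hne.1, hne.2⟩
      refine hQ8 ⟨_, sup_le (sup_le (zpowers_le.2 ⟨_, htQ, rfl⟩) (zpowers_le.2 ⟨_, hzQ, rfl⟩))
          (zpowers_le.2 ⟨_, hz1Q, rfl⟩), h1, h2⟩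
    set i := (orderOf x).factorization 2 with hi
    set m := orderOf x / 2 ^ i with hm
    have hmodd : Odd m := by
      rw [Nat.odd_iff]
      have := Nat.not_dvd_ordCompl Nat.prime_two (orderOf_pos x).ne'
      rw [← hi, ← hm] at this
      omega
    set y := x ^ m with hy
    have hy2 : y ^ 2 ^ i = 1 := by
      rw [hy, ← pow_mul, hm, Nat.div_mul_cancel (Nat.ordProj_dvd _ 2), pow_orderOf_eq_one]
    have hyN : y ∈ normalizer (Q : Set X) := pow_mem hx m
    have hyp : IsPGroup 2 (zpowers y) := by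
      obtain ⟨j, -, hj⟩ := (Nat.dvd_prime_pow Nat.prime_two).1 (orderOf_dvd_of_pow_eq_one hy2)
      exact IsPGroup.of_card (n := j) (by rw [Nat.card_zpowers, hj])
    have hRN : (Rx : Subgroup X) ≤ normalizer (Q : Set X) := fun r hr =>
      CfsgLib.LocalEven.BenderTransitive.mem_normalizer_inf' (le_normalizer hr) (by rw [normalizer_eq_top]; exact mem_top r)
    obtain ⟨k, hk⟩ := Involution.Basic.exists_conj_le (Rx.subtype hRN)
      (Q := (zpowers y).subgroupOf (normalizer (Q : Set X)))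
      (hyp.comap_of_injective _ (subtype_injective _))
    have hky : ((k : X) : G) * (y : G) * ((k : X) : G)⁻¹ ∈ (S : Subgroup G) :=
      hRS (x := (k : X) * y * (k : X)⁻¹) (hk ⟨y, hyN⟩ (mem_subgroupOf.2 (mem_zpowers y)))
    have hyz : Commute (y : G) z := by
      have h1 := (d.hzc _ hky).map (MulAut.conj ((k : X) : G)⁻¹).toMonoidHom
      simp only [MulEquiv.coe_toMonoidHom, MulAut.conj_apply, inv_inv] at h1
      rw [show ((k : X) : G)⁻¹ * (((k : X) : G) * (y : G) * ((k : X) : G)⁻¹) * ((k : X) : G) =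
        (y : G) by group] at h1
      have hyt : Commute (y : G) t := mem_centralizer_singleton_iff.1 y.2
      rcases htwo (k : X)⁻¹ (inv_mem k.2) with e | e <;>
        simp only [InvMemClass.coe_inv, inv_inv] at e <;> rw [e] at h1
      · exact h1
      · have := hyt.inv_right.mul_right h1
        rwa [inv_mul_cancel_left] at this
    have hx2 : Commute ((x : G) * x) z := by
      refine mul_inv_eq_iff_eq_mul.1 ?_
      have hxt : (x : G) * t * (x : G)⁻¹ = t := by
        rw [mem_centralizer_singleton_iff.1 x.2, mul_inv_cancel_right]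
      rw [show (x : G) * x * z * ((x : G) * x)⁻¹ = x * ((x : G) * z * (x : G)⁻¹) * (x : G)⁻¹ by
        group]
      rcases htwo x hx with e | e
      · rw [e, e]
      · rw [e, show (x : G) * (t * z) * (x : G)⁻¹ =
          ((x : G) * t * (x : G)⁻¹) * ((x : G) * z * (x : G)⁻¹) by group, hxt, e, ← mul_assoc,
          mul_self ht, one_mul]
    obtain ⟨j, hj⟩ := hmodd
    have hxy : (x : G) = (((x : G) * x) ^ j)⁻¹ * (y : G) := by
      rw [hy, SubmonoidClass.coe_pow, hj, ← pow_two, ← pow_mul, pow_succ, inv_mul_cancel_left]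
    rw [hxy]
    exact ((hx2.pow_left j).inv_left.mul_left hyz).eq
  · intro x hx
    obtain ⟨p, hp, hqp⟩ : q x ∈ Q.map q := hQmap.symm ▸ hx
    have h1 : p⁻¹ * x ∈ Cfsg.pPrimeCore 2 X := QuotientGroup.eq.1 hqp
    have h2 : ((p⁻¹ * x : X) : G) ∈ W := by
      rw [← d.closure_eq (hAP.trans inf_le_left) hA hA8]
      exact le_iSup (fun e : {e : G // e ∈ A ∧ e ≠ 1} => Cfsg.centralizerPPrimeCore 2 (e : G))
        ⟨t, htA, ne_one ht⟩ (mem_map_of_mem X.subtype h1)
    have h3 := mul_mem (d.sylow_le (hRS hp.1)) (le_normalizer h2 : ((p⁻¹ * x : X) : G) ∈ M)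
    refine mem_subgroupOf.2 ?_
    simpa using h3

/-- The centralisers of the involutions of `N(W)` lie in `N(W)` and contain subgroups of order
eight through them. -/
theorem centralizer_le {t : G} (ht : orderOf t = 2) (htM : t ∈ normalizer (W : Set G)) :
    (∃ A : Subgroup G, A ≤ normalizer (W : Set G) ∧ t ∈ A ∧ Cfsg.IsElementaryAbelian 2 A ∧
      2 ^ 3 ≤ Nat.card A) ∧ centralizer ({t} : Set G) ≤ normalizer (W : Set G) := by
  classical
  haveI : Fact (Nat.Prime 2) := ⟨Nat.prime_two⟩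
  set M := normalizer (W : Set G) with hM
  set K := M ⊓ centralizer ({t} : Set G) with hK
  have htK : t ∈ K := ⟨htM, mem_centralizer_singleton_iff.2 rfl⟩
  obtain ⟨Kx, hKx⟩ := ((elementary_zpowers ht |> isPGroup_of_elementary).comap_of_injective _
    (subtype_injective K)).exists_le_sylow
  set T := (Kx : Subgroup K).map K.subtype with hT
  have hTp : IsPGroup 2 T := Kx.isPGroup'.map _
  have htT : t ∈ T := ⟨⟨t, htK⟩, hKx (mem_subgroupOf.2 (mem_zpowers t)), rfl⟩
  obtain ⟨m, hm, hmT⟩ := d.exists_conj_le hTp ((map_subtype_le _).trans inf_le_left)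
  set s := m * t * m⁻¹ with hs
  have hso : orderOf s = 2 := (Dihedral.orderOf_conj m t).trans ht
  have hback : ∀ {x : G}, x ∈ centralizer ({s} : Set G) →
      m⁻¹ * x * m ∈ centralizer ({t} : Set G) := fun {x} hx => by
    refine mem_centralizer_singleton_iff.2 ?_
    calc m⁻¹ * x * m * t = m⁻¹ * (x * (m * t * m⁻¹)) * m := by group
      _ = _ := by rw [← hs, mem_centralizer_singleton_iff.1 hx, hs]; group
  obtain ⟨⟨A, hAS, hsA, hA, hA8⟩, hC⟩ := d.extremal hso (hmT t htT) (by
    intro Q hQ hle hQK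
    have hQ' : ∀ x ∈ Q, m⁻¹ * x * m ∈ K := fun x hx =>
      Subgroup.mem_inf.2 ⟨mul_mem (mul_mem (inv_mem hm) (hQK hx).1) hm, hback (hQK hx).2⟩
    set Q' := (Q.map (MulAut.conj m⁻¹).toMonoidHom).subgroupOf K with hQ'def
    have hTQ : (Kx : Subgroup K) ≤ Q' := fun x hx => by
      have h1 : m * (x : G) * m⁻¹ ∈ Q := hle ⟨hmT _ ⟨x, hx, rfl⟩, by
        refine mem_centralizer_singleton_iff.2 ?_
        rw [hs]
        calc m * (x : G) * m⁻¹ * (m * t * m⁻¹) = m * ((x : G) * t) * m⁻¹ := by group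
          _ = _ := by rw [mem_centralizer_singleton_iff.1 x.2.2]; group⟩
      exact mem_subgroupOf.2 ⟨_, h1, by simp [mul_assoc]⟩
    have heq := Kx.is_maximal' ((hQ.map _).comap_of_injective _ (subtype_injective _)) hTQ
    intro x hx
    refine ⟨?_, (hQK hx).2⟩
    have h1 : (⟨m⁻¹ * x * m, hQ' x hx⟩ : K) ∈ Q' :=
      mem_subgroupOf.2 ⟨x, hx, by simp [mul_assoc]⟩
    rw [show Q' = (Kx : Subgroup K) from heq] at h1
    have h2 := hmT _ ⟨_, h1, rfl⟩
    simp [mul_assoc] at h2
    exact h2)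
  refine ⟨⟨A.map (MulAut.conj m⁻¹).toMonoidHom, ?_, ⟨s, hsA, by simp [hs, mul_assoc]⟩,
    ⟨⟨⟨?_⟩⟩, ?_⟩, ?_⟩, ?_⟩
  · rintro _ ⟨x, hx, rfl⟩
    exact mul_mem (mul_mem (inv_mem hm) (d.sylow_le (hAS hx))) (inv_mem (inv_mem hm))
  · rintro ⟨_, a, ha, rfl⟩ ⟨_, b, hb, rfl⟩
    refine Subtype.ext ?_
    simp only [Subgroup.coe_mul]
    rw [← map_mul, ← map_mul]
    exact congrArg _ (commute_of_mem hA ha hb)
  · rintro _ ⟨a, ha, rfl⟩
    rw [← map_pow, hA.2 a ha, map_one]
  · rwa [card_map_of_injective (MulAut.conj m⁻¹).injective]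
  · intro x hx
    have h1 : m * x * m⁻¹ ∈ centralizer ({s} : Set G) := by
      refine mem_centralizer_singleton_iff.2 ?_
      rw [hs]
      calc m * x * m⁻¹ * (m * t * m⁻¹) = m * (x * t) * m⁻¹ := by group
        _ = _ := by rw [mem_centralizer_singleton_iff.1 hx]; group
    have := mul_mem (mul_mem (inv_mem hm) (hC h1)) hm
    simpa [mul_assoc] using this

theorem stronglyEmbedded (hM : normalizer (W : Set G) ≠ ⊤) :
    Cfsg.IsStronglyEmbedded (normalizer (W : Set G)) := by
  haveI : Fact (Nat.Prime 2) := ⟨Nat.prime_two⟩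
  refine ⟨hM, ?_, fun g hg => Nat.not_even_iff_odd.1 fun hev => hg ?_⟩
  · exact even_iff_two_dvd.2 (d.hz ▸ Subgroup.orderOf_dvd_natCard _ (d.sylow_le d.zS))
  obtain ⟨s, ⟨hs, t, htM, rfl⟩, hs2⟩ := Involution.Basic.exists_involution_of_even _ hev
  have ht : orderOf t = 2 := (Dihedral.orderOf_conj g t).symm.trans hs2
  obtain ⟨A, hAM, htA, hA, hA8⟩ := (d.centralizer_le ht htM).1
  refine d.mem_of_conj hA hA8 hAM ((isPGroup_of_elementary hA).map _) ?_ le_rfl
  rintro _ ⟨x, hx, rfl⟩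
  refine (d.centralizer_le hs2 hs).2 (mem_centralizer_singleton_iff.2 ?_)
  exact (show Commute x t from commute_of_mem hA hx htA).map
    (MulAut.conj g).toMonoidHom |>.eq

end Data

/-- Cores vanish without connectedness when `G` has no subgroup of index two. -/
theorem core_eq_bot (hO : Cfsg.oddCore G = ⊥) (h2 : ∀ N : Subgroup G, N.Normal → N.index ≠ 2)
    (hL : ∀ t : G, orderOf t = 2 → Cfsg.pLayer 2 ↥(centralizer ({t} : Set G)) = ⊥)
    (S : Sylow 2 G) {E : Subgroup G} (hES : E ≤ (S : Subgroup G))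
    (hE : Cfsg.IsElementaryAbelian 2 E) (hE8 : 2 ^ 3 ≤ Nat.card E) {t : G} (ht : orderOf t = 2) :
    Cfsg.centralizerPPrimeCore 2 t = ⊥ := by
  classical
  haveI : Fact (Nat.Prime 2) := ⟨Nat.prime_two⟩
  by_cases hnormal : ∃ E' : Subgroup G, E' ≤ (S : Subgroup G) ∧ Cfsg.IsElementaryAbelian 2 E' ∧
      (S : Subgroup G) ≤ normalizer (E' : Set G) ∧ 2 ^ 3 ≤ Nat.card E'
  · obtain ⟨E', hE'S, hE', hn, h8⟩ := hnormal
    haveI : (E'.subgroupOf (S : Subgroup G)).Normal :=
      (normal_subgroupOf_iff_le_normalizer hE'S).2 hn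
    have hconn : Cfsg.IsFourConnected ↥(S : Subgroup G) :=
      Cfsg.Agent.S0502.result S.isPGroup' (E'.subgroupOf (S : Subgroup G))
        ⟨⟨fun a b => Subtype.ext (Subtype.ext (commute_of_mem hE'
          (mem_subgroupOf.1 a.2) (mem_subgroupOf.1 b.2)))⟩⟩
        (fun e he => Subtype.ext (hE'.2 e.1 he))
        (by rw [Nat.card_congr (subgroupOfEquivOfLe hE'S).toEquiv]; norm_num at h8; exact h8)
    exact CoreClosure.core_eq_bot hO hL S hE'S hE' h8 hconn ht
  obtain ⟨z, v, hzS, hvS, hz, hv, hzv, hzc, hvc⟩ := exists_normal_pair S hES hE hE8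
  set W := closureOf (zpowers z ⊔ zpowers v) with hW
  have d : Data S W z v := ⟨hL, fun E' h1 h2' h3 => by
    by_contra hlt
    exact hnormal ⟨E', h1, h2', h3, not_lt.1 hlt⟩, h2, ⟨E, hES, hE, hE8⟩,
    hzS, hvS, hz, hv, hzv, hzc, hvc, rfl⟩
  set M := normalizer (W : Set G) with hM
  have hWbot : W = ⊥ := by
    by_cases htop : M = ⊤
    · haveI : W.Normal := normalizer_eq_top_iff.1 htop
      exact le_bot_iff.1 (hO ▸ ZStar.le_oddCore inferInstance d.odd_closure)
    have h := LocalEven.StrongCore.oddCore_le (d.stronglyEmbedded htop)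
    rw [hO, le_bot_iff, Subgroup.map_eq_bot_iff_of_injective _ (subtype_injective _)] at h
    haveI : (W.subgroupOf M).Normal :=
      (normal_subgroupOf_iff_le_normalizer Subgroup.le_normalizer).2 le_rfl
    have h1 : W.subgroupOf M ≤ Cfsg.oddCore M := ZStar.le_oddCore inferInstance (by
      rw [Nat.card_congr (subgroupOfEquivOfLe (Subgroup.le_normalizer : W ≤ M)).toEquiv]
      exact d.odd_closure)
    rw [h, le_bot_iff] at h1
    have h2' := congrArg (Subgroup.map M.subtype) h1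
    rwa [map_subgroupOf_eq_of_le Subgroup.le_normalizer, Subgroup.map_bot] at h2'
  obtain ⟨g, hg⟩ := Involution.Basic.exists_conj_le S (Q := zpowers t)
    (IsPGroup.of_card (n := 1) (by rw [Nat.card_zpowers, ht, pow_one]))
  have hs2 : orderOf (g * t * g⁻¹) = 2 := (Dihedral.orderOf_conj g t).trans ht
  obtain ⟨A, hAM, hsA, hA, hA8⟩ :=
    (d.centralizer_le hs2 (d.sylow_le (hg t (mem_zpowers t)))).1
  obtain ⟨m, hm, hmA⟩ := d.exists_conj_le (isPGroup_of_elementary hA) hAM
  set A' := A.map (MulAut.conj m).toMonoidHom with hA'def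
  have hA' : Cfsg.IsElementaryAbelian 2 A' := by
    refine ⟨⟨⟨?_⟩⟩, ?_⟩
    · rintro ⟨_, a, ha, rfl⟩ ⟨_, b, hb, rfl⟩
      refine Subtype.ext ?_
      simp only [Subgroup.coe_mul]
      rw [← map_mul, ← map_mul]
      exact congrArg _ (commute_of_mem hA ha hb)
    · rintro _ ⟨a, ha, rfl⟩
      rw [← map_pow, hA.2 a ha, map_one]
  have hcl := d.closure_eq (A := A') (by rintro _ ⟨x, hx, rfl⟩; exact hmA x hx) hA'
    (by rwa [card_map_of_injective (MulAut.conj m).injective])
  have h : Cfsg.centralizerPPrimeCore 2 (m * (g * t * g⁻¹) * m⁻¹) ≤ W := by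
    rw [← hcl]
    exact le_iSup (fun e : {e : G // e ∈ A' ∧ e ≠ 1} => Cfsg.centralizerPPrimeCore 2 (e : G))
      ⟨_, ⟨_, hsA, rfl⟩, ne_one ((Dihedral.orderOf_conj m _).trans hs2)⟩
  rw [hWbot, le_bot_iff, map_conj_core,
    Subgroup.map_eq_bot_iff_of_injective _ (MulAut.conj m).injective, map_conj_core,
    Subgroup.map_eq_bot_iff_of_injective _ (MulAut.conj g).injective] at h
  exact h

end CfsgLib.FTApps.CoreClosureRank
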