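import Cfsg.Agent.Lib.FTApps.Metacyclic
import Cfsg.Agent.Lib.FrobRealize.Quaternion
import Cfsg.Agent.S0201

/-! A non-cyclic finite simple group contains a Klein four-group (given FT). -/

namespace CfsgLib.FTApps

universe u

open Subgroup

/-- Two distinct commuting involutions generate a four-group. -/
theorem kleinFour_sup {G : Type*} [Group G] [Finite G] {x z : G} (hx : orderOf x = 2)
    (hz : orderOf z = 2) (hne : x ≠ z) (hc : x * z = z * x) :
    IsKleinFour (zpowers x ⊔ zpowers z : Subgroup G) := by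
  haveI : Fact (Nat.Prime 2) := ⟨Nat.prime_two⟩
  have hnorm : zpowers z ≤ normalizer ((zpowers x : Subgroup G) : Set G) := by
    refine zpowers_le.2 (centralizer_le_normalizer _ (mem_centralizer_iff.2 fun y hy => ?_))
    obtain ⟨i, rfl⟩ := mem_zpowers_iff.1 hy
    exact ((show Commute x z from hc).zpow_left i).eq
  have hdis : Disjoint (zpowers x) (zpowers z) := by
    rw [Subgroup.disjoint_def]
    intro y h1 h2
    by_contra hy
    have : zpowers x = zpowers z := by
      have e1 : ∀ a : G, orderOf a = 2 → y ∈ zpowers a → zpowers y = zpowers a := fun a ha hya => by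
        refine Subgroup.eq_of_le_of_card_ge (zpowers_le.2 hya) ?_
        rw [Nat.card_zpowers, Nat.card_zpowers, ha]
        have h3 : orderOf y ∣ 2 := by
          rw [← ha, ← Nat.card_zpowers a]; exact Subgroup.orderOf_dvd_natCard _ hya
        rcases (Nat.dvd_prime Nat.prime_two).1 h3 with h | h
        · exact absurd (orderOf_eq_one_iff.1 h) hy
        · exact h.ge
      rw [← e1 x hx h1, ← e1 z hz h2]
    have hmem : z ∈ zpowers x := this ▸ mem_zpowers z
    obtain ⟨i, hi⟩ := mem_zpowers_iff.1 hmem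
    rcases Int.even_or_odd i with ⟨j, rfl⟩ | ⟨j, rfl⟩
    · rw [← two_mul, zpow_mul, zpow_two, ← pow_two,
        orderOf_dvd_iff_pow_eq_one.1 hx.dvd, one_zpow] at hi
      rw [← hi, orderOf_one] at hz
      exact absurd hz (by norm_num)
    · rw [zpow_add, zpow_mul, zpow_two, ← pow_two, orderOf_dvd_iff_pow_eq_one.1 hx.dvd, one_zpow,
        one_mul, zpow_one] at hi
      exact hne hi
  set E := zpowers x ⊔ zpowers z
  have hcard : Nat.card E = 4 := by
    rw [CfsgLib.Coprime.card_sup_of_le_normalizer hnorm hdis, Nat.card_zpowers, Nat.card_zpowers,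
      hx, hz]
  haveI : Nontrivial E := Finite.one_lt_card_iff_nontrivial.1 (by rw [hcard]; norm_num)
  refine ⟨hcard, (Monoid.exponent_eq_prime_iff (p := 2) Nat.prime_two).2 ?_⟩
  rintro ⟨g, hg⟩ hg1
  refine orderOf_eq_prime ?_ hg1
  apply Subtype.ext
  obtain ⟨a, ha, b, hb, rfl⟩ := (CfsgLib.Coprime.mem_sup_of_le_normalizer hnorm).1 hg
  have hab : Commute a b := by
    obtain ⟨i, rfl⟩ := mem_zpowers_iff.1 ha
    obtain ⟨j, rfl⟩ := mem_zpowers_iff.1 hb
    exact ((show Commute x z from hc).zpow_left i).zpow_right j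
  have h2 : ∀ (w c : G), orderOf w = 2 → c ∈ zpowers w → c ^ 2 = 1 := fun w c hw hc' => by
    rw [← orderOf_dvd_iff_pow_eq_one]
    rw [← hw, ← Nat.card_zpowers w]
    exact Subgroup.orderOf_dvd_natCard _ hc'
  show (a * b) ^ 2 = 1
  rw [hab.mul_pow, h2 x a hx ha, h2 z b hz hb, one_mul]

/-- The statement of S0204, given FT. -/
theorem exists_kleinFour_of_simple (hFT : OddSolvable.{u}) {G : Type u} [Group G] [Finite G]
    [IsSimpleGroup G] (hG : ¬ IsCyclic G) : ∃ E : Subgroup G, IsKleinFour E := by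
  classical
  haveI : Fact (Nat.Prime 2) := ⟨Nat.prime_two⟩
  by_contra hcon
  have hnab : ¬ ∀ a b : G, a * b = b * a := fun h => by
    obtain ⟨g, hg⟩ := exists_ne (1 : G)
    haveI hn : (zpowers g).Normal := ⟨fun n hn x => by rwa [h x n, mul_inv_cancel_right]⟩
    refine hG ?_
    rw [isCyclic_iff_exists_zpowers_eq_top]
    refine ⟨g, hn.eq_bot_or_eq_top.resolve_left fun e => hg ?_⟩
    rw [← mem_bot, ← e]; exact mem_zpowers g
  have hns : ¬ Group.IsSolvable G := fun hs =>
    hnab (IsSimpleGroup.comm_iff_isSolvable.2 hs)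
  obtain ⟨S⟩ : Nonempty (Sylow 2 G) := inferInstance
  have hfew : Nat.card {x : (S : Subgroup G) // x ^ 2 = 1} ≤ 2 := by
    by_contra hlt
    obtain ⟨a, ha⟩ := IsPGroup.iff_card.1 S.isPGroup'
    have ha0 : 1 ≤ a := by
      by_contra h
      have h1 : Nat.card {x : (S : Subgroup G) // x ^ 2 = 1} ≤ Nat.card (S : Subgroup G) :=
        Nat.card_le_card_of_injective Subtype.val Subtype.val_injective
      rw [ha, show a = 0 by omega, pow_zero] at h1
      omega
    haveI : Nontrivial (S : Subgroup G) := Finite.one_lt_card_iff_nontrivial.1 (by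
      rw [ha]; exact Nat.one_lt_pow (by omega) (by norm_num))
    have hZ := S.isPGroup'.center_nontrivial
    obtain ⟨z, hz⟩ := exists_prime_orderOf_dvd_card' (G := center (S : Subgroup G)) 2 (by
      obtain ⟨b, hb⟩ := IsPGroup.iff_card.1 (S.isPGroup'.to_subgroup (center (S : Subgroup G)))
      have h2 : 1 < Nat.card (center (S : Subgroup G)) := Finite.one_lt_card_iff_nontrivial.2 hZ
      rw [hb] at h2 ⊢
      exact dvd_pow_self 2 (by rintro rfl; norm_num at h2))
    obtain ⟨x, hx1, hxz⟩ : ∃ x : {x : (S : Subgroup G) // x ^ 2 = 1},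
        (x : (S : Subgroup G)) ≠ 1 ∧ (x : (S : Subgroup G)) ≠ (z : (S : Subgroup G)) := by
      by_contra h
      push Not at h
      apply hlt
      let f : {x : (S : Subgroup G) // x ^ 2 = 1} → Fin 2 := fun x => if x.1 = 1 then 0 else 1
      refine (Nat.card_le_card_of_injective f fun u v huv => Subtype.ext ?_).trans_eq (Nat.card_fin 2)
      by_cases hu : u.1 = 1 <;> by_cases hv : v.1 = 1 <;> simp [f, hu, hv] at huv ⊢
      rw [h u hu, h v hv]
    have hzo : orderOf ((z : (S : Subgroup G)) : G) = 2 := by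
      rw [Subgroup.orderOf_coe, Subgroup.orderOf_coe]; exact hz
    have hxo : orderOf ((x : (S : Subgroup G)) : G) = 2 := by
      rw [Subgroup.orderOf_coe]; exact orderOf_eq_prime x.2 hx1
    exact hcon ⟨_, kleinFour_sup hxo hzo (fun e => hxz (Subtype.ext e))
      (congrArg Subtype.val (mem_center_iff.1 z.2 x.1))⟩
  obtain ⟨a, ha⟩ := IsPGroup.iff_card.1 S.isPGroup'
  by_cases hcyc : IsCyclic (S : Subgroup G)
  · by_cases hmin : (Nat.card G).minFac = 2
    · haveI := hcyc
      exact hns (solvable_of_npc hFT (CfsgLib.Fusion.Abelian.npc_of_normalizer_le_centralizer S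
        (hcyc.normalizer_le_centralizer hmin)))
    · refine hns (hFT G ?_)
      rw [Nat.odd_iff]
      by_contra hh
      exact hmin ((Nat.minFac_eq_two_iff _).2 (by omega))
  obtain ⟨-, n, ⟨e⟩⟩ :=
    (CfsgLib.FrobRealize.Quaternion.cyclic_or_quaternion S.isPGroup' hfew).resolve_left hcyc
  rcases n with _ | n
  · exact hcyc (quaternion_cyclic (by norm_num) e ha)
  have hZ : Nat.card (center G) = 2 := Cfsg.Agent.S0201.result S n e fun N hN hodd =>
    hN.eq_bot_or_eq_top.resolve_right fun h => hns (hFT G (by rwa [h, card_top] at hodd))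
  rcases (inferInstance : (center G).Normal).eq_bot_or_eq_top with h | h
  · rw [h, card_bot] at hZ; exact absurd hZ (by norm_num)
  · exact hnab fun a b => (mem_center_iff.1 (h ▸ mem_top b : b ∈ center G) a)

end CfsgLib.FTApps
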