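import Cfsg.Agent.Lib.FTApps.Basic
import Cfsg.Agent.Lib.Components.Basic

/-! Conjugate cyclic subgroups of equal prime power order: one component (given FT). -/

namespace CfsgLib.FTApps

universe u

open Subgroup CfsgLib.Components

/-- Given FT, a quasisimple group has a noncentral 2-element. -/
theorem exists_noncentral_two {K : Type u} [Group K] [Finite K] (hFT : OddSolvable.{u})
    (hK : Cfsg.IsQuasisimple K) : ∃ x : K, (∃ a, orderOf x = 2 ^ a) ∧ x ∉ center K := by
  by_contra hcon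
  push Not at hcon
  haveI : Fact (Nat.Prime 2) := ⟨Nat.prime_two⟩
  obtain ⟨P⟩ : Nonempty (Sylow 2 K) := inferInstance
  have hP : (P : Subgroup K) ≤ center K := fun x hx => by
    obtain ⟨a, ha⟩ := IsPGroup.iff_orderOf.1 P.isPGroup' ⟨x, hx⟩
    rw [← Subgroup.orderOf_coe] at ha
    exact hcon x ⟨a, ha⟩
  haveI : Group.IsSolvable (center K) := Group.isSolvable_of_comm fun a b => mul_comm' a b
  refine IsQuasisimple.not_isSolvable hK (isSolvable_of_odd_index hFT (center K) inferInstance ?_)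
  have h2 : ¬ 2 ∣ (center K).index := fun h =>
    P.not_dvd_index (h.trans (Subgroup.index_dvd_of_le hP))
  rw [Nat.odd_iff]; omega

/-- The statement of S3915, given FT. -/
theorem layer_simple_of_conjugate_cyclic (hFT : OddSolvable.{u}) {G : Type u} [Group G] [Finite G]
    (hP : ∀ (p : ℕ), p.Prime → ∀ A B : Subgroup G, IsCyclic ↥A → IsCyclic ↥B → IsPGroup p ↥A →
      Nat.card ↥A = Nat.card ↥B → ∃ g : G, B = A.map (MulAut.conj g).toMonoidHom)
    (hE : Cfsg.layer G ≠ ⊥) :
    IsSimpleGroup (↥(Cfsg.layer G) ⧸ Subgroup.center ↥(Cfsg.layer G)) ∧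
      ¬ IsMulCommutative (↥(Cfsg.layer G) ⧸ Subgroup.center ↥(Cfsg.layer G)) := by
  classical
  obtain ⟨L, hL⟩ : ∃ L : Subgroup G, Cfsg.IsComponent L := by
    by_contra h
    push Not at h
    exact hE (layer_eq_bot_iff.2 h)
  by_cases huniq : ∀ K : Subgroup G, Cfsg.IsComponent K → K = L
  · have heq : Cfsg.layer G = L :=
      le_antisymm (layer_le_iff.2 fun K hK => (huniq K hK).le) (IsComponent.le_layer hL)
    rw [heq]
    refine ⟨hL.2.2, fun hc => ?_⟩
    haveI := hL.2.1
    haveI := hL.2.2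
    haveI : Group.IsPerfect (↥L ⧸ center ↥L) :=
      Group.IsPerfect.ofSurjective (QuotientGroup.mk'_surjective _)
    exact Group.IsPerfect.not_isMulCommutative _ hc
  exfalso
  haveI : Fact (Nat.Prime 2) := ⟨Nat.prime_two⟩
  -- noncentral 2-elements of components, of least order
  let Q : ℕ → Prop := fun a => ∃ (K : Subgroup G) (x : G), Cfsg.IsComponent K ∧ x ∈ K ∧
    x ∉ centralizer (K : Set G) ∧ orderOf x = 2 ^ a
  have hex : ∀ K : Subgroup G, Cfsg.IsComponent K → ∃ a, ∃ x ∈ K,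
      x ∉ centralizer (K : Set G) ∧ orderOf x = 2 ^ a := fun K hK => by
    obtain ⟨x, ⟨a, ha⟩, hx⟩ := exists_noncentral_two hFT hK.2
    refine ⟨a, x, x.2, fun h => hx ?_, by rw [Subgroup.orderOf_coe]; exact ha⟩
    exact mem_center_iff.2 fun k => Subtype.ext (mem_centralizer_iff.1 h k k.2)
  have hQ : ∃ a, Q a := by
    obtain ⟨a, x, h1, h2, h3⟩ := hex L hL
    exact ⟨a, L, x, hL, h1, h2, h3⟩
  obtain ⟨L1, x, hL1, hxL, hxn, hxo⟩ := Nat.find_spec hQ
  set a := Nat.find hQ with ha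
  obtain ⟨L2, hL2, hne⟩ : ∃ K : Subgroup G, Cfsg.IsComponent K ∧ K ≠ L1 := by
    by_contra h
    push Not at h
    exact huniq fun K hK => (h K hK).trans (h L hL).symm
  obtain ⟨b, y0, hy0, hy0n, hy0o⟩ := hex L2 hL2
  have hab : a ≤ b := Nat.find_le ⟨L2, y0, hL2, hy0, hy0n, hy0o⟩
  have hpg : ∀ (z : G) (c : ℕ), orderOf z = 2 ^ c → IsPGroup 2 (zpowers z) := fun z c hc =>
    IsPGroup.of_card (n := c) (by rw [Nat.card_zpowers, hc])
  have hconj : ∀ (z w : G) (c : ℕ), orderOf z = 2 ^ c → orderOf w = 2 ^ c →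
      ∃ g : G, zpowers w = zpowers (g * z * g⁻¹) := by
    intro z w c hz hw
    obtain ⟨g, hg⟩ := hP 2 Nat.prime_two (zpowers z) (zpowers w) inferInstance inferInstance
      (hpg z c hz) (by rw [Nat.card_zpowers, Nat.card_zpowers, hz, hw])
    exact ⟨g, by rw [hg, MonoidHom.map_zpowers]; rfl⟩
  have hmapmem : ∀ (K : Subgroup G) (g z : G), z ∈ K →
      g * z * g⁻¹ ∈ K.map (MulAut.conj g).toMonoidHom := fun K g z hz => ⟨z, hz, rfl⟩
  -- a conjugate of `x` in `L2`
  set y1 := y0 ^ 2 ^ (b - a) with hy1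
  have hy1o : orderOf y1 = 2 ^ a := by
    rw [hy1, orderOf_pow_of_dvd (by positivity) (by rw [hy0o]; exact pow_dvd_pow 2 (Nat.sub_le b a)),
      hy0o, Nat.pow_div (Nat.sub_le b a) two_pos, Nat.sub_sub_self hab]
  obtain ⟨g, hg⟩ := hconj x y1 a hxo hy1o
  set y := g * x * g⁻¹ with hy
  have hy2 : y ∈ L2 := by
    have h1 : y ∈ zpowers y1 := hg.symm ▸ mem_zpowers y
    exact zpowers_le.2 (pow_mem hy0 _) h1
  have hLg : L1.map (MulAut.conj g).toMonoidHom = L2 := by
    by_contra hne'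
    refine hxn (mem_centralizer_iff.2 fun l hl => ?_)
    have h1 := mem_centralizer_iff.1
      (IsComponent.le_centralizer_of_ne hL2 (IsComponent.conj hL1 g) (Ne.symm hne') hy2)
      _ (hmapmem L1 g l hl)
    rw [hy, conj_mul, conj_mul] at h1
    exact mul_left_cancel (mul_right_cancel h1)
  have hyn : y ∉ centralizer (L2 : Set G) := fun h => hxn (mem_centralizer_iff.2 fun l hl => by
    have h1 := mem_centralizer_iff.1 h _ (hLg ▸ hmapmem L1 g l hl)
    rw [hy, conj_mul, conj_mul] at h1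
    exact mul_left_cancel (mul_right_cancel h1))
  have hyo : orderOf y = 2 ^ a := by
    rw [hy, ← hxo]
    exact orderOf_injective (MulAut.conj g).toMonoidHom (MulAut.conj g).injective x
  have hyc : y ∈ centralizer (L1 : Set G) := IsComponent.le_centralizer_of_ne hL2 hL1 hne hy2
  -- the product
  set z := x * y with hz
  have hxy : Commute x y := mem_centralizer_iff.1 hyc x hxL
  have hzn : z ∉ centralizer (L1 : Set G) := fun h => hxn (by
    have := mul_mem h (inv_mem hyc)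
    rwa [hz, mul_inv_cancel_right] at this)
  have hzd : orderOf z ∣ 2 ^ a := by
    refine orderOf_dvd_of_pow_eq_one ?_
    rw [hz, hxy.mul_pow, ← hxo, pow_orderOf_eq_one, one_mul, hxo, ← hyo, pow_orderOf_eq_one]
  obtain ⟨c, hc, hzc⟩ := (Nat.dvd_prime_pow Nat.prime_two).1 hzd
  rcases hc.lt_or_eq with hlt | rfl
  · set x' := x ^ 2 ^ (a - c) with hx'
    have hx'o : orderOf x' = 2 ^ c := by
      rw [hx', orderOf_pow_of_dvd (by positivity) (by rw [hxo]; exact pow_dvd_pow 2 (Nat.sub_le a c)),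
        hxo, Nat.pow_div (Nat.sub_le a c) two_pos, Nat.sub_sub_self hc]
    have hall : ∀ K : Subgroup G, Cfsg.IsComponent K → x' ∈ centralizer (K : Set G) := by
      intro K hK
      by_cases hKL : K = L1
      · subst hKL
        by_contra hx'n
        exact Nat.find_min hQ (ha ▸ hlt) ⟨K, x', hK, pow_mem hxL _, hx'n, hx'o⟩
      · exact IsComponent.le_centralizer_of_ne hL1 hK (Ne.symm hKL) (pow_mem hxL _)
    obtain ⟨h, hh⟩ := hconj x' z c hx'o hzc
    have hmem : h * x' * h⁻¹ ∈ centralizer (L1 : Set G) := by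
      refine mem_centralizer_iff.2 fun l hl => ?_
      have h1 := mem_centralizer_iff.1 (hall _ (IsComponent.conj hL1 h⁻¹)) _ (hmapmem L1 h⁻¹ l hl)
      calc l * (h * x' * h⁻¹) = h * ((h⁻¹ * l * h⁻¹⁻¹) * x') * h⁻¹ := by group
        _ = h * (x' * (h⁻¹ * l * h⁻¹⁻¹)) * h⁻¹ := by rw [h1]
        _ = (h * x' * h⁻¹) * l := by group
    exact hzn (zpowers_le.2 hmem (hh ▸ mem_zpowers z))
  · obtain ⟨h, hh⟩ := hconj x z _ hxo hzc
    have hz3 : z ∈ L1.map (MulAut.conj h).toMonoidHom :=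
      zpowers_le.2 (hmapmem L1 h x hxL) (hh ▸ mem_zpowers z)
    have hL3 : L1.map (MulAut.conj h).toMonoidHom = L1 := by
      by_contra hne3
      exact hzn (IsComponent.le_centralizer_of_ne (IsComponent.conj hL1 h) hL1 hne3 hz3)
    rw [hL3] at hz3
    have hy1' : y ∈ L1 := by
      have := mul_mem (inv_mem hxL) hz3
      rwa [hz, inv_mul_cancel_left] at this
    exact hyn (IsComponent.le_centralizer_of_ne hL1 hL2 (Ne.symm hne) hy1')

end CfsgLib.FTApps
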