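import Cfsg.Agent.Lib.FTApps.Basic
import Cfsg.Agent.Lib.PGroup.IndexPow
import Cfsg.Agent.Lib.PGroup.Frattini
import Cfsg.Agent.Lib.Coprime.PrimePowerOrbits.Basic

/-!
A group without conjugacy classes of size divisible by four is solvable (given FT).

In a simple counterexample every element centralizes a subgroup of index at most two of a Sylow
2-subgroup `S`. So the Frattini subgroup of `S` is central, whence `S` is abelian; and the product of the
`N(S)`-conjugates of an involution of `S` is trivial, so every subgroup of index two contains one of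
them, and the conjugates of one involution centralizer cover the group.
-/

set_option autoImplicit false

universe u

namespace CfsgLib.FTApps.NoClassFour

open Subgroup

variable {G : Type u} [Group G] [Finite G]

/-- The hypothesis. -/
abbrev Small (G : Type u) [Group G] : Prop :=
  ∀ x : G, ¬ 4 ∣ (centralizer ({x} : Set G)).index

theorem small_subgroup (h : Small G) (N : Subgroup G) [N.Normal] : Small ↥N := by
  intro x hx
  refine h (x : G) (hx.trans ?_)
  have e : centralizer ({x} : Set ↥N) = (centralizer ({(x : G)} : Set G)).subgroupOf N := by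
    ext z
    rw [mem_subgroupOf, mem_centralizer_singleton_iff, mem_centralizer_singleton_iff, Subtype.ext_iff]
    rfl
  rw [e]
  exact CfsgLib.Coprime.PrimePowerOrbits.relIndex_dvd_index _ N

theorem small_quotient (h : Small G) (N : Subgroup G) [N.Normal] : Small (G ⧸ N) := by
  intro x hx
  induction x using QuotientGroup.induction_on with
  | H x =>
    refine h x (hx.trans ?_)
    have hle : (centralizer ({x} : Set G)).map (QuotientGroup.mk' N) ≤
        centralizer ({(QuotientGroup.mk x : G ⧸ N)} : Set (G ⧸ N)) := by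
      rintro _ ⟨z, hz, rfl⟩
      rw [mem_centralizer_singleton_iff, QuotientGroup.mk'_apply, ← QuotientGroup.mk_mul,
        ← QuotientGroup.mk_mul, mem_centralizer_singleton_iff.1 hz]
    exact (index_dvd_of_le hle).trans (index_map_dvd _ (QuotientGroup.mk'_surjective N))

/-- Every element has a conjugate centralizing a subgroup of index at most two of a given Sylow
2-subgroup. -/
theorem exists_large (h : Small G) [Fact (Nat.Prime 2)] (S : Sylow 2 G) (x : G) :
    ∃ (g : G) (M : Subgroup ↥(S : Subgroup G)), M.index ∣ 2 ∧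
      ∀ m ∈ M, (m : G) * (g * x * g⁻¹) = g * x * g⁻¹ * (m : G) := by
  obtain ⟨R⟩ : Nonempty (Sylow 2 ↥(centralizer ({x} : Set G))) := inferInstance
  set T := (R : Subgroup ↥(centralizer ({x} : Set G))).map (centralizer ({x} : Set G)).subtype with hT
  have hTp : IsPGroup 2 T := R.isPGroup'.map _
  obtain ⟨P, hP⟩ := hTp.exists_le_sylow
  obtain ⟨g, hg⟩ := MulAction.exists_smul_eq G P S
  set T' := T.map (MulAut.conj g).toMonoidHom with hT'
  have hTS : T' ≤ (S : Subgroup G) := by
    rw [← hg]
    rintro _ ⟨t, ht, rfl⟩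
    exact mem_map.2 ⟨t, hP ht, rfl⟩
  refine ⟨g, T'.subgroupOf S, ?_, ?_⟩
  · set v := (centralizer ({x} : Set G)).index.factorization 2 with hv
    have hv1 : v ≤ 1 := by
      by_contra hc
      exact h x (((pow_dvd_pow 2 (show 2 ≤ v by omega)).trans (Nat.ordProj_dvd _ 2)))
    have hcT : Nat.card T' = 2 ^ (Nat.card ↥(centralizer ({x} : Set G))).factorization 2 := by
      rw [hT', card_map_of_injective (MulAut.conj g).injective, hT, card_subtype,
        Sylow.card_eq_multiplicity]
    have hcS : Nat.card (S : Subgroup G) =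
        2 ^ ((Nat.card ↥(centralizer ({x} : Set G))).factorization 2 + v) := by
      rw [Sylow.card_eq_multiplicity, ← (centralizer ({x} : Set G)).card_mul_index,
        Nat.factorization_mul Nat.card_pos.ne' index_ne_zero_of_finite, Finsupp.add_apply]
    have h1 := (T'.subgroupOf (S : Subgroup G)).card_mul_index
    rw [Nat.card_congr (subgroupOfEquivOfLe hTS).toEquiv, hcT, hcS, pow_add] at h1
    rw [Nat.eq_of_mul_eq_mul_left (by positivity) h1]
    exact (pow_dvd_pow 2 hv1).trans (by norm_num)
  · rintro m hm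
    obtain ⟨t, ⟨c, -, rfl⟩, e⟩ := mem_subgroupOf.1 hm
    rw [← e]
    show g * (c : G) * g⁻¹ * (g * x * g⁻¹) = g * x * g⁻¹ * (g * (c : G) * g⁻¹)
    have hc : (c : G) * x = x * (c : G) := mem_centralizer_singleton_iff.1 c.2
    calc g * (c : G) * g⁻¹ * (g * x * g⁻¹) = g * ((c : G) * x) * g⁻¹ := by group
      _ = g * (x * (c : G)) * g⁻¹ := by rw [hc]
      _ = _ := by group

/-- A subgroup meeting, up to conjugation, all the `M` centralizes a conjugate of everything. -/
theorem central_of_meets (h : Small G) [Fact (Nat.Prime 2)] (S : Sylow 2 G) (a : G)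
    (ha : ∀ M : Subgroup ↥(S : Subgroup G), M.index ∣ 2 →
      ∃ m ∈ M, ∃ n : G, n * a * n⁻¹ = (m : G)) : a ∈ center G := by
  have htop : centralizer ({a} : Set G) = ⊤ := by
    refine CfsgLib.PGroup.IndexPow.eq_top_of_conj_cover fun x => ?_
    obtain ⟨g, M, hM, hc⟩ := exists_large h S x
    obtain ⟨m, hm, n, hn⟩ := ha M hM
    refine ⟨g⁻¹ * n, mem_centralizer_singleton_iff.2 ?_⟩
    have h1 := hc m hm
    rw [← hn] at h1
    calc (g⁻¹ * n)⁻¹ * x * (g⁻¹ * n) * a
        = n⁻¹ * (g * x * g⁻¹ * (n * a * n⁻¹)) * n := by group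
      _ = n⁻¹ * (n * a * n⁻¹ * (g * x * g⁻¹)) * n := by rw [h1]
      _ = a * ((g⁻¹ * n)⁻¹ * x * (g⁻¹ * n)) := by group
  refine mem_center_iff.2 fun z => ?_
  exact mem_centralizer_singleton_iff.1 (htop ▸ mem_top z : z ∈ centralizer ({a} : Set G))

theorem not_simple (hFT : OddSolvable.{u}) [IsSimpleGroup G] (h : Small G) : Group.IsSolvable G := by
  classical
  haveI : Fact (Nat.Prime 2) := ⟨Nat.prime_two⟩
  by_contra hns
  have hcen : center G = ⊥ := by
    rcases (inferInstance : (center G).Normal).eq_bot_or_eq_top with h0 | h0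
    · exact h0
    · exact absurd (Group.isSolvable_of_comm fun a b => (mem_center_iff.1 (h0.symm ▸ mem_top b : b ∈ center G) a)) hns
  have heven : 2 ∣ Nat.card G := by
    by_contra hc
    exact hns (hFT G (Nat.odd_iff.2 (by omega)))
  obtain ⟨S⟩ : Nonempty (Sylow 2 G) := inferInstance
  have hfr : frattini ↥(S : Subgroup G) = ⊥ := by
    rw [eq_bot_iff]
    intro a ha
    have h1 : (a : G) ∈ center G := central_of_meets h S a fun M hM => ⟨a, ?_, 1, by simp⟩
    · rw [hcen, mem_bot] at h1
      exact mem_bot.2 (Subtype.ext h1)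
    · rcases (Nat.dvd_prime Nat.prime_two).1 hM with hM | hM
      · rw [index_eq_one.1 hM]; exact mem_top a
      · refine frattini_le_coatom (K := M) ⟨fun hT => by rw [hT, index_top] at hM; omega, fun B hB => ?_⟩ ha
        have h2 := relIndex_mul_index hB.le
        rw [hM] at h2
        rcases (Nat.dvd_prime Nat.prime_two).1 (Dvd.intro_left _ h2) with hB2 | hB2
        · exact index_eq_one.1 hB2
        · rw [hB2] at h2
          exact absurd (relIndex_eq_one.1 (by omega)) (lt_iff_le_not_ge.1 hB).2
  haveI hcomm : IsMulCommutative (S : Subgroup G) := ⟨⟨fun a b => commutatorElement_eq_one_iff_mul_comm.1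
    (mem_bot.1 (hfr ▸ CfsgLib.PGroup.Frattini.commutatorElement_mem_frattini S.isPGroup' a b))⟩⟩
  obtain ⟨t, ht⟩ := exists_prime_orderOf_dvd_card' 2 (S.dvd_card_of_dvd_card heven)
  have ht1 : (t : G) ≠ 1 := fun e => by
    rw [show t = 1 from Subtype.ext e, orderOf_one] at ht; omega
  -- the orbit of `t`
  let N := normalizer ((S : Subgroup G) : Set G)
  letI : Fintype ↥(S : Subgroup G) := Fintype.ofFinite _
  let O : Finset ↥(S : Subgroup G) := Finset.univ.filter fun s => ∃ n ∈ N, n * (t : G) * n⁻¹ = (s : G)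
  have hOmem : ∀ s, s ∈ O ↔ ∃ n ∈ N, n * (t : G) * n⁻¹ = (s : G) := fun s => by simp [O]
  have hOodd : Odd O.card := by
    let D := (centralizer ({(t : G)} : Set G)).subgroupOf N
    have hSD : (S : Subgroup G).subgroupOf N ≤ D := fun z hz => mem_subgroupOf.2
      (mem_centralizer_singleton_iff.2 (setLike_mul_comm (mem_subgroupOf.1 hz) t.2))
    have hidx : ¬ 2 ∣ D.index := fun hd => by
      refine S.not_dvd_index ((hd.trans (index_dvd_of_le hSD)).trans ?_)
      have h2 := relIndex_mul_index (le_normalizer (H := (S : Subgroup G)))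
      exact Dvd.intro _ h2
    let f : ↥N ⧸ D → {s // s ∈ O} := Quotient.lift
      (fun n : ↥N => ⟨⟨(n : G) * t * (n : G)⁻¹, (mem_normalizer_iff.1 n.2 _).1 t.2⟩, (hOmem _).2 ⟨n, n.2, rfl⟩⟩)
      (fun a b hab => by
        have h1 : a⁻¹ * b ∈ D := QuotientGroup.leftRel_apply.1 hab
        have h2 := mem_centralizer_singleton_iff.1 (mem_subgroupOf.1 h1)
        refine Subtype.ext (Subtype.ext ?_)
        show (a : G) * t * (a : G)⁻¹ = (b : G) * t * (b : G)⁻¹
        simp only [coe_mul, coe_inv] at h2
        calc (a : G) * t * (a : G)⁻¹ = (a : G) * ((t : G) * ((a : G)⁻¹ * b)) * (b : G)⁻¹ := by group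
          _ = (a : G) * (((a : G)⁻¹ * b) * t) * (b : G)⁻¹ := by rw [h2]
          _ = _ := by group)
    have hf : Function.Bijective f := by
      refine ⟨fun a b hab => ?_, fun s => ?_⟩
      · induction a using QuotientGroup.induction_on with
        | H a =>
          induction b using QuotientGroup.induction_on with
          | H b =>
            refine QuotientGroup.eq.2 (mem_subgroupOf.2 (mem_centralizer_singleton_iff.2 ?_))
            have h1 : (a : G) * t * (a : G)⁻¹ = (b : G) * t * (b : G)⁻¹ := congrArg (fun z => ((z.1 : ↥(S : Subgroup G)) : G)) hab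
            simp only [coe_mul, coe_inv]
            calc (a : G)⁻¹ * b * t = (a : G)⁻¹ * ((b : G) * t * (b : G)⁻¹) * b := by group
              _ = (a : G)⁻¹ * ((a : G) * t * (a : G)⁻¹) * b := by rw [h1]
              _ = _ := by group
      · obtain ⟨n, hn, e⟩ := (hOmem _).1 s.2
        exact ⟨QuotientGroup.mk ⟨n, hn⟩, Subtype.ext (Subtype.ext e)⟩
    have h3 := Nat.card_congr (Equiv.ofBijective f hf)
    rw [← index_eq_card, Nat.card_eq_finsetCard] at h3
    rw [← h3]
    exact Nat.odd_iff.2 (by omega)
  letI : CommGroup ↥(S : Subgroup G) :=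
    { (inferInstance : Group ↥(S : Subgroup G)) with mul_comm := fun a b => hcomm.is_comm.comm a b }
  set v : ↥(S : Subgroup G) := ∏ s ∈ O, s with hv
  -- the product is fixed by the normalizer
  have hvfix : ∀ n ∈ N, n * (v : G) * n⁻¹ = (v : G) := by
    intro n hn
    haveI : ((S : Subgroup G).subgroupOf N).Normal := normal_in_normalizer
    let φ : ↥(S : Subgroup G) ≃* ↥(S : Subgroup G) :=
      { toFun := fun s => ⟨n * s * n⁻¹, (mem_normalizer_iff.1 hn _).1 s.2⟩
        invFun := fun s => ⟨n⁻¹ * s * n, by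
          have := (mem_normalizer_iff.1 (inv_mem hn) _).1 s.2
          rwa [inv_inv] at this⟩
        left_inv := fun s => Subtype.ext (show n⁻¹ * (n * (s : G) * n⁻¹) * n = s by group)
        right_inv := fun s => Subtype.ext (show n * (n⁻¹ * (s : G) * n) * n⁻¹ = s by group)
        map_mul' := fun a b => Subtype.ext
          (show n * ((a : G) * b) * n⁻¹ = n * (a : G) * n⁻¹ * (n * (b : G) * n⁻¹) by group) }
    have hφ : φ v = v := by
      rw [hv, map_prod]
      refine Finset.prod_equiv φ.toEquiv (fun s => ?_) (fun s _ => rfl)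
      rw [hOmem, hOmem]
      constructor
      · rintro ⟨m, hm, e⟩
        refine ⟨n * m, mul_mem hn hm, ?_⟩
        show n * m * (t : G) * (n * m)⁻¹ = n * (s : G) * n⁻¹
        rw [← e]; group
      · rintro ⟨m, hm, e⟩
        have e' : m * (t : G) * m⁻¹ = n * (s : G) * n⁻¹ := e
        refine ⟨n⁻¹ * m, mul_mem (inv_mem hn) hm, ?_⟩
        calc n⁻¹ * m * (t : G) * (n⁻¹ * m)⁻¹ = n⁻¹ * (m * (t : G) * m⁻¹) * n := by group
          _ = (s : G) := by rw [e']; group
    exact congrArg Subtype.val hφ
  have hv1 : v = 1 := by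
    have key : ∀ (k : ℕ) (g₀ : G), g₀⁻¹ * (v : G) ^ k * g₀ ∈ (S : Subgroup G) →
        g₀⁻¹ * (v : G) ^ k * g₀ = (v : G) ^ k := by
      intro k g₀ hk
      obtain ⟨n, hn, e⟩ := S.conj_eq_normalizer_conj_of_mem ((v : G) ^ k) g₀ (pow_mem v.2 k) hk
      rw [e]
      have h1 := hvfix n⁻¹ (inv_mem hn)
      rw [inv_inv] at h1
      have h2 := congrArg (fun z => z ^ k) h1
      rwa [show (n⁻¹ * (v : G) * n) ^ k = n⁻¹ * (v : G) ^ k * n by
        rw [show n⁻¹ * (v : G) * n = n⁻¹ * (v : G) * n⁻¹⁻¹ by group, conj_pow, inv_inv]] at h2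
    let ψ : G →* ↥(S : Subgroup G) := MonoidHom.transfer (H := (S : Subgroup G)) (MonoidHom.id _)
    have hψ : ψ (v : G) = 1 := by
      rcases (inferInstance : ψ.ker.Normal).eq_bot_or_eq_top with h0 | h0
      · exact absurd (Group.isSolvable_of_comm fun a b =>
          (MonoidHom.ker_eq_bot_iff ψ).1 h0 (by rw [map_mul, map_mul, mul_comm])) hns
      · exact MonoidHom.mem_ker.1 (h0 ▸ mem_top _)
    rw [show ψ (v : G) = (MonoidHom.id ↥(S : Subgroup G)) ⟨_, MonoidHom.transfer_eq_pow_aux (v : G) key⟩
      from MonoidHom.transfer_eq_pow _ (v : G) key] at hψ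
    have h1 : v ^ (S : Subgroup G).index = 1 := Subtype.ext (congrArg Subtype.val hψ)
    obtain ⟨k, hk⟩ := S.isPGroup' v
    have h2 : (2 ^ k).Coprime (S : Subgroup G).index :=
      (((Nat.prime_two.coprime_iff_not_dvd).2 S.not_dvd_index).pow_left k)
    exact orderOf_eq_one_iff.1 (Nat.eq_one_of_dvd_coprimes h2 (orderOf_dvd_of_pow_eq_one hk) (orderOf_dvd_of_pow_eq_one h1))
  have hmeet : ∀ M : Subgroup ↥(S : Subgroup G), M.index ∣ 2 → ∃ m ∈ M, ∃ n : G, n * (t : G) * n⁻¹ = (m : G) := by
    intro M hM
    by_contra hne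
    push Not at hne
    have hout : ∀ s ∈ O, s ∉ M := fun s hs hsM => by
      obtain ⟨n, -, e⟩ := (hOmem s).1 hs
      exact hne s hsM n e
    rcases (Nat.dvd_prime Nat.prime_two).1 hM with hM | hM
    · exact hne t (index_eq_one.1 hM ▸ mem_top t) 1 (by simp)
    have hcount : ∀ F : Finset ↥(S : Subgroup G), (∀ s ∈ F, s ∉ M) → ((∏ s ∈ F, s) ∈ M ↔ Even F.card) := by
      intro F hF
      induction F using Finset.induction_on with
      | empty => simp [one_mem]
      | @insert a F haF ih =>
        rw [Finset.prod_insert haF, Finset.card_insert_of_notMem haF,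
          Subgroup.mul_mem_iff_of_index_two hM, ih fun s hs => hF s (Finset.mem_insert_of_mem hs),
          Nat.even_add_one]
        simp only [hF a (Finset.mem_insert_self a F), false_iff]
    exact Nat.not_even_iff_odd.2 hOodd ((hcount O hout).1 (show v ∈ M by rw [hv1]; exact one_mem _))
  have := central_of_meets h S t hmeet
  rw [hcen, mem_bot] at this
  exact ht1 this

theorem main (hFT : OddSolvable.{u}) {G : Type u} [Group G] [Finite G] (h : Small G) : Group.IsSolvable G := by
  induction hn : Nat.card G using Nat.strong_induction_on generalizing G with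
  | _ n ih =>
    subst hn
    rcases subsingleton_or_nontrivial G with hs | hs
    · exact Group.isSolvable_of_comm fun a b => Subsingleton.elim _ _
    by_cases hN : ∃ N : Subgroup G, N.Normal ∧ N ≠ ⊥ ∧ N ≠ ⊤
    · obtain ⟨N, hNn, hNb, hNt⟩ := hN
      have hc := N.card_mul_index
      have h1 : 1 < Nat.card N := N.one_lt_card_iff_ne_bot.2 hNb
      have h2 : 1 < N.index := N.one_lt_index_of_ne_top hNt
      haveI : Group.IsSolvable N := ih _ (by nlinarith) (small_subgroup h N) rfl
      haveI : Group.IsSolvable (G ⧸ N) :=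
        ih _ (by rw [← index_eq_card]; nlinarith) (small_quotient h N) rfl
      exact Group.isSolvable_of_ker_le_range N.subtype (QuotientGroup.mk' N) (by simp)
    · push Not at hN
      haveI : IsSimpleGroup G :=
        { exists_pair_ne := exists_pair_ne G
          eq_bot_or_eq_top_of_normal := fun N hNn => or_iff_not_imp_left.2 (hN N hNn) }
      exact not_simple hFT h

end CfsgLib.FTApps.NoClassFour
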