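import Cfsg.Agent.Lib.FTApps.Basic
import Cfsg.Agent.Lib.Coprime.Hall

/-! Hall's theorems for π-separable groups (given FT). -/

namespace CfsgLib.FTApps

universe u

open Subgroup

/-- A natural number all of whose prime divisors lie in `π`. -/
def PiNum (π : Set ℕ) (n : ℕ) : Prop := ∀ q : ℕ, q.Prime → q ∣ n → q ∈ π

/-- A chain as in the definition of π-separability. -/
def PiChain (π : Set ℕ) (G : Type u) [Group G] : Prop :=
  ∃ (n : ℕ) (H : Fin (n + 1) → Subgroup G), H 0 = ⊥ ∧ H (Fin.last n) = ⊤ ∧ Monotone H ∧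
    (∀ i, (H i).Normal) ∧ ∀ i : Fin n,
      PiNum π ((H i.castSucc).relIndex (H i.succ)) ∨ PiNum πᶜ ((H i.castSucc).relIndex (H i.succ))

theorem relIndex_map_dvd {G G' : Type*} [Group G] [Group G'] (f : G →* G') {A B : Subgroup G}
    (h : A ≤ B) : (A.map f).relIndex (B.map f) ∣ A.relIndex B := by
  have e : (A.subgroupOf B).map (f.subgroupMap B) = (A.map f).subgroupOf (B.map f) := by
    ext ⟨y, hy⟩
    constructor
    · rintro ⟨⟨x, hx⟩, hxA, hxy⟩
      exact ⟨x, hxA, congrArg Subtype.val hxy⟩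
    · rintro ⟨x, hxA, hxy⟩
      exact ⟨⟨x, h hxA⟩, hxA, Subtype.ext hxy⟩
  rw [relIndex, relIndex, ← e]
  exact index_map_dvd _ (f.subgroupMap_surjective B)

theorem PiChain.quotient {π : Set ℕ} {G : Type u} [Group G] (h : PiChain π G) (M : Subgroup G)
    [M.Normal] : PiChain π (G ⧸ M) := by
  obtain ⟨n, H, h0, hl, hm, hn, hi⟩ := h
  refine ⟨n, fun i => (H i).map (QuotientGroup.mk' M), (congrArg (Subgroup.map _) h0).trans (Subgroup.map_bot _), ?_,
    fun a b hab => Subgroup.map_mono (hm hab),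
    fun i => (hn i).map _ (QuotientGroup.mk'_surjective M), fun i => ?_⟩
  · exact (congrArg (Subgroup.map _) hl).trans
      (map_top_of_surjective _ (QuotientGroup.mk'_surjective M))
  · have hd := relIndex_map_dvd (QuotientGroup.mk' M) (hm (Fin.castSucc_le_succ i))
    exact (hi i).imp (fun h q hq hd' => h q hq (hd'.trans hd))
      (fun h q hq hd' => h q hq (hd'.trans hd))

theorem PiChain.exists_step {π : Set ℕ} {G : Type u} [Group G] (h : PiChain π G)
    (hne : (⊥ : Subgroup G) ≠ ⊤) :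
    ∃ M : Subgroup G, M.Normal ∧ M ≠ ⊥ ∧ (PiNum π (Nat.card M) ∨ PiNum πᶜ (Nat.card M)) := by
  classical
  obtain ⟨n, H, h0, hl, hm, hn, hi⟩ := h
  obtain ⟨i, hi1, hi2⟩ : ∃ i : Fin n, H i.castSucc = ⊥ ∧ H i.succ ≠ ⊥ := by
    by_contra hcon
    push Not at hcon
    have key : ∀ j : Fin (n + 1), H j = ⊥ := fun j => by
      induction j using Fin.induction with
      | zero => exact h0
      | succ j ih => exact hcon j ih
    exact hne ((key _).symm.trans hl)
  refine ⟨H i.succ, hn _, hi2, ?_⟩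
  have := hi i
  rwa [hi1, relIndex_bot_left] at this

theorem card_eq_of_hall {π : Set ℕ} {G : Type u} [Group G] [Finite G] {K L : Subgroup G}
    (hK : Cfsg.IsPiHall π K) (hL : Cfsg.IsPiHall π L) : Nat.card K = Nat.card L := by
  have key : ∀ K L : Subgroup G, Cfsg.IsPiHall π K → Cfsg.IsPiHall π L →
      Nat.card K ∣ Nat.card L := fun K L hK hL =>
    (CfsgLib.Coprime.coprime_of_pi hK.1 hL.2).dvd_of_dvd_mul_right
      (L.card_mul_index.symm ▸ K.card_subgroup_dvd_card)
  exact Nat.dvd_antisymm (key K L hK hL) (key L K hL hK)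

theorem isPiHall_map {π : Set ℕ} {G G' : Type*} [Group G] [Group G'] (f : G →* G')
    (hf : Function.Surjective f) {K : Subgroup G} (hK : Cfsg.IsPiHall π K) :
    Cfsg.IsPiHall π (K.map f) :=
  ⟨fun q hq hd => hK.1 q hq (hd.trans (K.card_map_dvd f)),
    fun q hq hπ hd => hK.2 q hq hπ (hd.trans (index_map_dvd _ hf))⟩

/-- Existence, and every π-subgroup lies in a conjugate of any given Hall π-subgroup. -/
theorem hall_of_piChain (hFT : OddSolvable.{u}) (π : Set ℕ) : ∀ (n : ℕ) (G : Type u) [Group G]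
    [Finite G], Nat.card G = n → PiChain π G →
    (∃ K : Subgroup G, Cfsg.IsPiHall π K) ∧
      ∀ U K : Subgroup G, PiNum π (Nat.card U) → Cfsg.IsPiHall π K →
        ∃ g : G, U ≤ K.map (MulAut.conj g).toMonoidHom := by
  intro n
  induction n using Nat.strong_induction_on with
  | _ n ih =>
  intro G _ _ hn hsep
  by_cases hbt : (⊥ : Subgroup G) = ⊤
  · refine ⟨⟨⊥, ?_, ?_⟩, fun U K _ _ => ⟨1, (le_top.trans hbt.ge).trans bot_le⟩⟩
    · intro q hq hd
      rw [Subgroup.card_bot, Nat.dvd_one] at hd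
      exact absurd hd hq.ne_one
    · intro q hq _ hd
      rw [hbt, index_top, Nat.dvd_one] at hd
      exact hq.ne_one hd
  obtain ⟨M, hMn, hMne, hMπ⟩ := hsep.exists_step hbt
  haveI := hMn
  set f := QuotientGroup.mk' M with hf
  have hfs : Function.Surjective f := QuotientGroup.mk'_surjective M
  have hker : f.ker = M := QuotientGroup.ker_mk' M
  have hcard : Nat.card (G ⧸ M) < n := by
    rw [← hn, ← Subgroup.index_eq_card, ← M.card_mul_index]
    have h2 : 1 < Nat.card M := Finite.one_lt_card_iff_nontrivial.2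
      ((Subgroup.nontrivial_iff_ne_bot M).2 hMne)
    have h3 : 0 < M.index := Nat.pos_of_ne_zero Subgroup.FiniteIndex.index_ne_zero
    nlinarith
  obtain ⟨⟨Kb, hKb⟩, hcont⟩ := ih _ hcard (G ⧸ M) rfl (hsep.quotient M)
  have hMN : ∀ X : Subgroup G, X ≤ normalizer (M : Set G) := fun X => by
    rw [normalizer_eq_top_iff.2 hMn]; exact le_top
  have hidx : ∀ X : Subgroup (G ⧸ M), (X.comap f).index = X.index := fun X =>
    index_comap_of_surjective _ hfs
  have hcc : ∀ X : Subgroup (G ⧸ M), Nat.card (X.comap f) = Nat.card M * Nat.card X := fun X => by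
    have h1 := (X.comap f).card_mul_index
    have h2 := M.card_mul_index
    have h3 := X.card_mul_index
    rw [hidx] at h1
    rw [M.index_eq_card, ← h3, ← mul_assoc, ← h1] at h2
    exact (Nat.eq_of_mul_eq_mul_right (Nat.pos_of_ne_zero Subgroup.FiniteIndex.index_ne_zero) h2).symm
  -- a Hall subgroup, after a conjugation, covers a given π-subgroup modulo `M`
  have cover : ∀ U K : Subgroup G, PiNum π (Nat.card U) → Cfsg.IsPiHall π K →
      ∃ g : G, U ≤ M ⊔ K.map (MulAut.conj g).toMonoidHom := by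
    intro U K hU hK
    obtain ⟨gb, hgb⟩ := hcont (U.map f) (K.map f)
      (fun q hq hd => hU q hq (hd.trans (U.card_map_dvd f))) (isPiHall_map f hfs hK)
    obtain ⟨g, rfl⟩ := hfs gb
    refine ⟨g, fun x hx => ?_⟩
    obtain ⟨_, ⟨k, hk, rfl⟩, hky⟩ := hgb ⟨x, hx, rfl⟩
    have h1 : f (g * k * g⁻¹) = f x := by
      rw [map_mul, map_mul, map_inv]; exact hky
    have h2 : x * (g * k * g⁻¹)⁻¹ ∈ M := by
      rw [← hker, MonoidHom.mem_ker, map_mul, map_inv, h1, mul_inv_cancel]
    have h3 := mul_mem_sup (T := K.map (MulAut.conj g).toMonoidHom) h2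
      (show g * k * g⁻¹ ∈ K.map (MulAut.conj g).toMonoidHom from ⟨k, hk, rfl⟩)
    rwa [inv_mul_cancel_right] at h3
  rcases hMπ with hMp | hMp
  · -- `M` is a π-group: it lies in every Hall subgroup
    refine ⟨⟨Kb.comap f, fun q hq hd => ?_, fun q hq hπ hd => hKb.2 q hq hπ ((hidx Kb) ▸ hd)⟩,
      fun U K hU hK => ?_⟩
    · rw [hcc] at hd
      exact (hq.dvd_mul.1 hd).elim (hMp q hq) (hKb.1 q hq)
    have hMK : M ≤ K := by
      have hs : PiNum π (Nat.card ↥(M ⊔ K : Subgroup G)) := fun q hq hd => by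
        by_contra hqπ
        have h1 : Nat.card ↥(M ⊔ K : Subgroup G) ∣ Nat.card M * Nat.card K := by
          have h0 : (K.map f).comap f = M ⊔ K := by rw [comap_map_eq, hker, sup_comm]
          rw [← h0, hcc]
          exact mul_dvd_mul_left _ (K.card_map_dvd f)
        exact (hq.dvd_mul.1 (hd.trans h1)).elim (fun h => hqπ (hMp q hq h))
          (fun h => hqπ (hK.1 q hq h))
      have h4 : Nat.card ↥(M ⊔ K : Subgroup G) ∣ Nat.card K :=
        (CfsgLib.Coprime.coprime_of_pi hs hK.2).dvd_of_dvd_mul_right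
          (K.card_mul_index.symm ▸ (M ⊔ K).card_subgroup_dvd_card)
      rw [Subgroup.eq_of_le_of_card_ge (H := K) (K := M ⊔ K) le_sup_right
        (Nat.le_of_dvd Nat.card_pos h4)]
      exact le_sup_left
    obtain ⟨g, hg⟩ := cover U K hU hK
    refine ⟨g, hg.trans (sup_le ?_ le_rfl)⟩
    intro m hm
    exact ⟨g⁻¹ * m * g⁻¹⁻¹, hMK (hMn.conj_mem m hm _), by simp [mul_assoc]⟩
  · -- `M` is a π'-group: Schur-Zassenhaus
    have hcop : ∀ X : Subgroup G, PiNum π (Nat.card X) → (Nat.card M).Coprime (Nat.card X) :=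
      fun X hX => (CfsgLib.Coprime.coprime_of_pi hX
        fun q hq hπ hd => hMp q hq hd hπ).symm
    refine ⟨?_, fun U K hU hK => ?_⟩
    · set X := Kb.comap f with hX
      have hMX : M ≤ X := fun m hm => by
        rw [hX, mem_comap, show f m = 1 from (QuotientGroup.eq_one_iff m).2 hm]
        exact one_mem _
      have hN : Nat.card (M.subgroupOf X) = Nat.card M :=
        Nat.card_congr (subgroupOfEquivOfLe hMX).toEquiv
      have hNi : (M.subgroupOf X).index = Nat.card Kb := by
        have h1 := (M.subgroupOf X).card_mul_index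
        rw [hN, hcc] at h1
        exact Nat.eq_of_mul_eq_mul_left Nat.card_pos h1
      obtain ⟨C, hC⟩ := exists_right_complement'_of_coprime (N := M.subgroupOf X) (by
        rw [hN, hNi]
        exact (CfsgLib.Coprime.coprime_of_pi hKb.1 fun q hq hπ hd => hMp q hq hd hπ).symm)
      have hCc : Nat.card (C.map X.subtype) = Nat.card Kb := by
        rw [Subgroup.card_map_of_injective X.subtype_injective, ← hC.symm.index_eq_card, hNi]
      refine ⟨C.map X.subtype, fun q hq hd => hKb.1 q hq (hCc ▸ hd), fun q hq hπ hd => ?_⟩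
      have h1 := (C.map X.subtype).card_mul_index
      rw [← X.card_mul_index, hCc, hidx, hcc, mul_comm (Nat.card M), mul_assoc] at h1
      rw [Nat.eq_of_mul_eq_mul_left Nat.card_pos h1] at hd
      exact (hq.dvd_mul.1 hd).elim (fun h => hMp q hq h hπ) (hKb.2 q hq hπ)
    · obtain ⟨g, hg⟩ := cover U K hU hK
      set K' := K.map (MulAut.conj g).toMonoidHom with hK'
      have hK'π : PiNum π (Nat.card K') := fun q hq hd =>
        hK.1 q hq (by rwa [hK', CfsgLib.Coprime.card_conj_map] at hd)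
      set U' := K' ⊓ (M ⊔ U) with hU'
      have hU'π : PiNum π (Nat.card U') := fun q hq hd =>
        hK'π q hq (hd.trans (card_dvd_of_le inf_le_left))
      have hle : U ≤ M ⊔ U' := fun x hx => by
        obtain ⟨m, hm, k, hk, rfl⟩ := CfsgLib.Coprime.mem_sup_of_le_normalizer (hMN K') |>.1 (hg hx)
        refine mul_mem_sup hm ⟨hk, ?_⟩
        have := mul_mem_sup (inv_mem hm) hx
        rwa [inv_mul_cancel_left] at this
      have hsup : M ⊔ U' = M ⊔ U :=
        le_antisymm (sup_le le_sup_left inf_le_right) (sup_le le_sup_left hle)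
      have hcardU : Nat.card U' = Nat.card U := by
        have h1 := CfsgLib.Coprime.card_sup_of_le_normalizer (hMN U') 
          (disjoint_of_coprime_natCard (hcop U' hU'π))
        have h2 := CfsgLib.Coprime.card_sup_of_le_normalizer (hMN U) 
          (disjoint_of_coprime_natCard (hcop U hU))
        rw [hsup, h2] at h1
        exact (Nat.eq_of_mul_eq_mul_left Nat.card_pos h1).symm
      have hsolv : Group.IsSolvable M ∨ Group.IsSolvable U := by
        by_cases h2 : 2 ∈ π
        · left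
          refine hFT _ ?_
          rw [Nat.odd_iff]
          by_contra h
          exact hMp 2 Nat.prime_two (by omega) h2
        · right
          refine hFT _ ?_
          rw [Nat.odd_iff]
          by_contra h
          exact h2 (hU 2 Nat.prime_two (by omega))
      obtain ⟨m, -, hmc⟩ := CfsgLib.Coprime.exists_conj_eq hsolv (hMN U) (hMN U') hle hcardU.symm
        (hcop U hU)
      refine ⟨m⁻¹ * g, ?_⟩
      rw [← CfsgLib.Coprime.conj_map_map, ← hK']
      intro x hx
      exact ⟨m * x * m⁻¹, (hmc ▸ ⟨x, hx, rfl⟩ : m * x * m⁻¹ ∈ U').1, by simp [mul_assoc]⟩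

/-- The statement of S1908, given FT. -/
theorem hall_of_piSeparable (hFT : OddSolvable.{u}) {G : Type u} [Group G] [Finite G] (π : Set ℕ)
    (hsep : PiChain π G) :
    (∃ K : Subgroup G, Cfsg.IsPiHall π K) ∧
      (∀ K L : Subgroup G, Cfsg.IsPiHall π K → Cfsg.IsPiHall π L →
        ∃ g : G, L = K.map (MulAut.conj g).toMonoidHom) ∧
      ∀ U : Subgroup G, (∀ q : ℕ, q.Prime → q ∣ Nat.card U → q ∈ π) →
        ∃ K : Subgroup G, Cfsg.IsPiHall π K ∧ U ≤ K := by
  obtain ⟨⟨K0, hK0⟩, hc⟩ := hall_of_piChain hFT π _ G rfl hsep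
  refine ⟨⟨K0, hK0⟩, fun K L hK hL => ?_, fun U hU => ?_⟩
  · obtain ⟨g, hg⟩ := hc L K hL.1 hK
    exact ⟨g, Subgroup.eq_of_le_of_card_ge hg
      (by rw [CfsgLib.Coprime.card_conj_map, card_eq_of_hall hK hL])⟩
  · obtain ⟨g, hg⟩ := hc U K0 hU hK0
    exact ⟨_, isPiHall_map _ (MulAut.conj g).surjective hK0, hg⟩

end CfsgLib.FTApps
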