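import Cfsg.Agent.Lib.FTApps.KleinFour
import Cfsg.Agent.Lib.Involution.RankTwoSylowMain
import Cfsg.Agent.Lib.Involution.Isolated
import Cfsg.Agent.S0215
import Cfsg.Agent.S0949

/-! Sylow 2-subgroups of simple groups of 2-rank at most two (given FT). -/

namespace CfsgLib.FTApps

universe u v

open Subgroup

/-- The statement of S0516, given FT. -/
theorem rank_two_sylow_types (hFT : OddSolvable.{u}) {G : Type u} [Group G] [Finite G]
    [IsSimpleGroup G] (hG : ¬ IsMulCommutative G) (h2 : Cfsg.PRankLE 2 2 G) (S : Sylow 2 G)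
    {F : Type v} [Field F] [Fintype F] (hF : Fintype.card F = 16) (P : Sylow 2 (Cfsg.PSU 3 F 4)) :
    (∃ n : ℕ, 2 ≤ n ∧ Nonempty ((S : Subgroup G) ≃* DihedralGroup n)) ∨
      Cfsg.IsQuasiDihedral (S : Subgroup G) ∨ Cfsg.IsWreathed (S : Subgroup G) ∨
      Nonempty ((S : Subgroup G) ≃* (P : Subgroup (Cfsg.PSU 3 F 4))) := by
  haveI : Fact (Nat.Prime 2) := ⟨Nat.prime_two⟩
  have hnc : ¬ ∀ a b : G, a * b = b * a := fun h => hG ⟨⟨h⟩⟩
  have hns : ¬ Group.IsSolvable G := fun hs => hnc (IsSimpleGroup.comm_iff_isSolvable.2 hs)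
  have hO : ∀ N : Subgroup G, N.Normal → Odd (Nat.card N) → N = ⊥ := fun N hN hodd =>
    hN.eq_bot_or_eq_top.resolve_right fun h => hns (hFT G (by rwa [h, card_top] at hodd))
  have hcyc : ¬ IsCyclic G := fun h => hnc fun a b => by
    obtain ⟨g, hg⟩ := h.exists_generator
    obtain ⟨i, rfl⟩ := mem_zpowers_iff.1 (hg a)
    obtain ⟨j, rfl⟩ := mem_zpowers_iff.1 (hg b)
    rw [← zpow_add, ← zpow_add, add_comm]
  obtain ⟨E, hE⟩ := exists_kleinFour_of_simple hFT hcyc
  have h1 : ¬ Cfsg.PRankLE 2 1 G := fun h => by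
    have := h E ⟨⟨fun a b => mul_comm_of_exponent_two hE.exponent_two a b⟩⟩ fun a ha => by
      simpa using congrArg Subtype.val
        ((Monoid.exponent_dvd_iff_forall_pow_eq_one.1 (dvd_of_eq hE.exponent_two)) (⟨a, ha⟩ : E))
    rw [hE.card_four] at this
    omega
  have hiso : ∀ z : G, ¬ Cfsg.IsIsolatedInvolution z := by
    intro z hz
    obtain ⟨T, hT⟩ := (IsPGroup.of_card (p := 2) (n := 1)
      (by rw [Nat.card_zpowers, hz.1, pow_one] : Nat.card (zpowers z) = 2 ^ 1)).exists_le_sylow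
    have hzT : z ∈ T := hT (mem_zpowers z)
    obtain ⟨N, hN, hodd, hc⟩ := Cfsg.Agent.S0215.result T z hz.1 hzT
      ((CfsgLib.Involution.Isolated.isolated_iff_sylow hz.1 hzT).1 hz)
    have hN1 := hO N hN hodd
    have hzc : z ∈ center G := mem_center_iff.2 fun g => by
      have := hc g
      rw [hN1, mem_bot, mul_inv_eq_one, mul_inv_eq_iff_eq_mul] at this
      exact this.symm
    rcases (inferInstance : (center G).Normal).eq_bot_or_eq_top with h | h
    · rw [h, mem_bot] at hzc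
      simp [hzc] at hz
      exact absurd hz.1 (by simp)
    · exact hnc fun a b => (mem_center_iff.1 (h ▸ mem_top b : b ∈ center G) a)
  rcases CfsgLib.Involution.RankTwoSylow.main h2 h1 hiso S hF P with h | h | h | ⟨n, hn, ⟨e⟩⟩ | h
  · exact .inl h
  · exact .inr (.inl h)
  · exact .inr (.inr (.inl h))
  · exfalso
    obtain ⟨hnorm, -, -⟩ := Cfsg.Agent.S0949.result S n hn e hO
    rcases hnorm.eq_bot_or_eq_top with h | h
    · have := Nat.card_congr e.toEquiv
      rw [h, card_bot, Nat.card_congr Multiplicative.toAdd, Nat.card_prod, Nat.card_zmod] at this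
      have : 2 ^ 2 ≤ 2 ^ n := Nat.pow_le_pow_right (by norm_num) hn
      nlinarith
    · exact hnc fun a b => by
        have ha : a ∈ (S : Subgroup G) := by rw [h]; exact mem_top a
        have hb : b ∈ (S : Subgroup G) := by rw [h]; exact mem_top b
        exact congrArg Subtype.val (e.injective (show e (⟨a, ha⟩ * ⟨b, hb⟩) = e (⟨b, hb⟩ * ⟨a, ha⟩) by
          rw [map_mul, map_mul, mul_comm]))
  · exact .inr (.inr (.inr h))

end CfsgLib.FTApps
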