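import Cfsg.Agent.Lib.FTApps.Basic
import Cfsg.Agent.Lib.Fusion.Alperin
import Cfsg.Agent.Lib.Involution.BaerSuzuki
import Cfsg.Agent.Lib.Solvable.Cores
import Cfsg.Agent.Lib.Components.SFT.Criterion
import Cfsg.Agent.Lib.Coprime.SchurZassenhaus

/-!
The statement of S4193 (given FT): real elements with classes of one 2-part and no noncentral real
elements in a Sylow 2-subgroup `S`.

If some involution is not central the 2-part is one, so no nontrivial element of odd order is real and
`O₂(G)` has odd index. Otherwise an element `g` of odd order normalising `Q ≤ S` centralizes it: if `g`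
fixes `x ^ 2` and `w = x⁻¹ (g x g⁻¹)` then `x w x⁻¹ = w⁻¹`, so `w` is an involution and hence fixed,
whence `w = 1`; so `G` has a normal 2-complement by Frobenius.
-/

set_option autoImplicit false
set_option linter.style.haveILetI false

universe u

namespace CfsgLib.FTApps.RealTwoPart

open Subgroup

variable {G : Type u} [Group G]

/-- An element of odd order fixing the involutions of a 2-group without inverted elements of order
above two centralizes it. -/
theorem commute_of_odd {D : Subgroup G} {g : G} (hg : g ∈ normalizer (D : Set G))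
    (hodd : Odd (orderOf g)) (hreal : ∀ x ∈ D, ∀ y ∈ D, y * x * y⁻¹ = x⁻¹ → x * x = 1)
    (hinv : ∀ x ∈ D, x * x = 1 → g * x = x * g) :
    ∀ (k : ℕ), ∀ x ∈ D, x ^ 2 ^ k = 1 → g * x = x * g := by
  intro k
  induction k with
  | zero =>
    intro x _ hx
    rw [pow_zero, pow_one] at hx
    rw [hx, mul_one, one_mul]
  | succ k ih =>
    intro x hx hxk
    have hsq : g * x ^ 2 = x ^ 2 * g := ih _ (pow_mem hx 2) (by rw [← pow_mul, ← pow_succ']; exact hxk)
    set y := g * x * g⁻¹ with hy
    have hyD : y ∈ D := (mem_normalizer_iff.1 hg x).1 hx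
    have hy2 : y ^ 2 = x ^ 2 := by rw [hy, conj_pow, hsq, mul_inv_cancel_right]
    set w := x⁻¹ * y with hw
    have hwD : w ∈ D := mul_mem (inv_mem hx) hyD
    have hwx : x * w * x⁻¹ = w⁻¹ := by
      calc x * w * x⁻¹ = y⁻¹ * y ^ 2 * x⁻¹ := by rw [hw]; group
        _ = y⁻¹ * x ^ 2 * x⁻¹ := by rw [hy2]
        _ = w⁻¹ := by rw [hw]; group
    have hw2 : w * w = 1 := hreal w hwD x hx hwx
    have hgw : g * w * g⁻¹ = w := by rw [hinv w hwD hw2, mul_inv_cancel_right]
    have hiter : ∀ i : ℕ, g ^ i * x * (g ^ i)⁻¹ = x * w ^ i := by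
      intro i
      induction i with
      | zero => simp
      | succ i hi =>
        calc g ^ (i + 1) * x * (g ^ (i + 1))⁻¹ = g * (g ^ i * x * (g ^ i)⁻¹) * g⁻¹ := by
              rw [pow_succ']; group
          _ = g * x * g⁻¹ * (g * w * g⁻¹) ^ i := by rw [hi, conj_pow]; group
          _ = x * (w * w ^ i) := by rw [hgw, ← hy, show y = x * w by rw [hw]; group, mul_assoc]
          _ = x * w ^ (i + 1) := by rw [← pow_succ']
    have hwn : w ^ orderOf g = 1 := by
      have h1 := hiter (orderOf g)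
      rw [pow_orderOf_eq_one] at h1
      simpa using h1
    have hw1 : w = 1 := by
      obtain ⟨j, hj⟩ := hodd
      rw [hj, pow_succ, pow_mul, pow_two, hw2, one_pow, one_mul] at hwn
      exact hwn
    have hxy : y = x := (inv_mul_eq_one.1 hw1).symm
    exact mul_inv_eq_iff_eq_mul.1 hxy

variable [Finite G]

/-- No nontrivial element of odd order is real. -/
abbrev NoReal (G : Type u) [Group G] : Prop :=
  ∀ y g : G, Odd (orderOf y) → g * y * g⁻¹ = y⁻¹ → y = 1

theorem eq_one_of_mem_two {N : Subgroup G} (hN : IsPGroup 2 N) {y : G} (hy : y ∈ N)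
    (ho : Odd (orderOf y)) : y = 1 := by
  obtain ⟨k, hk⟩ := hN ⟨y, hy⟩
  have h1 : orderOf y ∣ 2 ^ k := orderOf_dvd_of_pow_eq_one (congrArg Subtype.val hk)
  exact orderOf_eq_one_iff.1 (Nat.eq_one_of_dvd_coprimes ((Nat.coprime_two_right.2 ho).pow_right k) dvd_rfl h1)

theorem odd_index_pCore (h : NoReal G) [(Cfsg.pCore 2 G).Normal] : Odd (Cfsg.pCore 2 G).index := by
  classical
  haveI : Fact (Nat.Prime 2) := ⟨Nat.prime_two⟩
  set N := Cfsg.pCore 2 G with hN
  have hN2 : IsPGroup 2 N := CfsgLib.Solvable.Cores.isPGroup_pCore 2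
  by_contra hc
  rw [Nat.not_odd_iff_even, even_iff_two_dvd, index_eq_card] at hc
  obtain ⟨t, ht⟩ := exists_prime_orderOf_dvd_card' 2 hc
  obtain ⟨h', hh1, hhodd, hth⟩ := CfsgLib.Involution.BaerSuzuki.exists_inverted_odd t ht fun M hM hM2 htM => by
    haveI := hM
    have h1 : t ∈ Cfsg.pCore 2 (G ⧸ N) := CfsgLib.Solvable.Cores.le_pCore hM2 htM
    have h1 : t = 1 := mem_bot.1 ((CfsgLib.Components.SFT.pCore_quotient_eq_bot 2 G).le h1)
    rw [h1, orderOf_one] at ht
    omega
  obtain ⟨x, rfl⟩ := QuotientGroup.mk'_surjective N h'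
  obtain ⟨T, rfl⟩ := QuotientGroup.mk'_surjective N t
  set π := QuotientGroup.mk' N
  set k := (orderOf x).factorization 2
  set y := x ^ 2 ^ k with hy
  have hyodd : Odd (orderOf y) := by
    rw [hy, orderOf_pow' x (by positivity), Nat.gcd_eq_right (Nat.ordProj_dvd _ _)]
    exact Nat.odd_iff.2 (Nat.two_dvd_ne_zero.1 (Nat.not_dvd_ordCompl Nat.prime_two (orderOf_pos x).ne'))
  have hy1 : π y ≠ 1 := by
    intro e
    rw [hy, map_pow] at e
    exact hh1 (orderOf_eq_one_iff.1 (Nat.eq_one_of_dvd_coprimes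
      ((Nat.coprime_two_right.2 hhodd).pow_right k) dvd_rfl (orderOf_dvd_of_pow_eq_one e)))
  have hty : π T * π y * (π T)⁻¹ = (π y)⁻¹ := by
    rw [hy, map_pow, ← conj_pow, hth, inv_pow]
  set K := zpowers y with hK
  set H := K.map (MulAut.conj T).toMonoidHom with hH
  have hnorm : ∀ L : Subgroup G, L ≤ normalizer (N : Set G) := fun L => by
    rw [normalizer_eq_top]; exact le_top
  have hsup : H ≤ N ⊔ K := by
    rintro _ ⟨z, hz, rfl⟩
    obtain ⟨i, rfl⟩ := mem_zpowers_iff.1 hz
    have h1 : T * y ^ i * T⁻¹ * y ^ i ∈ N := by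
      rw [← QuotientGroup.eq_one_iff]
      show π (T * y ^ i * T⁻¹ * y ^ i) = 1
      rw [map_mul, map_mul, map_mul, map_inv, map_zpow, ← conj_zpow, hty, inv_zpow, inv_mul_cancel]
    have h2 := mul_mem (mem_sup_left (T := K) h1) (mem_sup_right (S := N) (inv_mem (zpow_mem (mem_zpowers y) i)))
    rwa [mul_inv_cancel_right] at h2
  obtain ⟨j, hj⟩ := hN2.exists_card_eq
  obtain ⟨n, hn, e⟩ := CfsgLib.Coprime.exists_conj_eq (N := N) (H := H) (K := K)
    (Or.inr (by
      haveI : Group.IsSolvable ↥H := Group.isSolvable_of_comm fun a b => by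
        obtain ⟨_, z, hz, rfl⟩ := a
        obtain ⟨_, z', hz', rfl⟩ := b
        obtain ⟨i, rfl⟩ := mem_zpowers_iff.1 hz
        obtain ⟨i', rfl⟩ := mem_zpowers_iff.1 hz'
        refine Subtype.ext ?_
        show MulAut.conj T (y ^ i) * MulAut.conj T (y ^ i') = MulAut.conj T (y ^ i') * MulAut.conj T (y ^ i)
        rw [← map_mul, ← map_mul, ← zpow_add, ← zpow_add, add_comm]
      infer_instance))
    (hnorm H) (hnorm K) hsup (card_map_of_injective (MulAut.conj T).injective)
    (by rw [hj, hH, card_map_of_injective (MulAut.conj T).injective, hK, Nat.card_zpowers]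
        exact Nat.Coprime.pow_left j (Nat.coprime_two_left.2 hyodd))
  have hmem : n * (T * y * T⁻¹) * n⁻¹ ∈ K := e ▸ mem_map_of_mem _ (mem_map_of_mem _ (mem_zpowers y))
  obtain ⟨i, hi⟩ := mem_zpowers_iff.1 hmem
  have hi' : y ^ (i + 1) ∈ N := by
    rw [← QuotientGroup.eq_one_iff]
    show π (y ^ (i + 1)) = 1
    rw [zpow_add_one, map_mul, hi, map_mul, map_mul, map_mul, map_mul, map_inv, map_inv,
      show π n = 1 from (QuotientGroup.eq_one_iff n).2 hn, hty]
    simp
  have hi1 : y ^ (i + 1) = 1 := eq_one_of_mem_two hN2 hi'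
    (hyodd.of_dvd_nat (orderOf_dvd_of_pow_eq_one (by
      rw [← zpow_natCast, ← zpow_mul, mul_comm, zpow_mul, zpow_natCast, pow_orderOf_eq_one, one_zpow])))
  refine hy1 ?_
  rw [h y (n * T) hyodd ?_, map_one]
  rw [zpow_add_one] at hi1
  calc n * T * y * (n * T)⁻¹ = n * (T * y * T⁻¹) * n⁻¹ := by group
    _ = y⁻¹ := hi.symm.trans (eq_inv_of_mul_eq_one_left hi1)

theorem main (hFT : OddSolvable.{u}) (a : ℕ)
    (h : ∀ x : G, IsConj x x⁻¹ → x ∉ center G →
      ((centralizer ({x} : Set G)).index).factorization 2 = a)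
    (S : Sylow 2 G) (hS : ∀ s : ↥(S : Subgroup G), IsConj s s⁻¹ → s ∈ center ↥(S : Subgroup G)) :
    Group.IsSolvable G ∧
      Cfsg.HasNormalPComplement 2 ↥(closure {g : G | ∃ k : ℕ, orderOf g = 2 ^ k}) := by
  classical
  haveI : Fact (Nat.Prime 2) := ⟨Nat.prime_two⟩
  have hinvS : ∀ x ∈ (S : Subgroup G), x * x = 1 → (S : Subgroup G) ≤ centralizer ({x} : Set G) := by
    intro x hx hxx y hy
    have h1 : (⟨x, hx⟩ : ↥(S : Subgroup G)) ∈ center ↥(S : Subgroup G) := hS _ (by
      rw [inv_eq_of_mul_eq_one_right (Subtype.ext hxx : (⟨x, hx⟩ : ↥(S : Subgroup G)) * ⟨x, hx⟩ = 1)])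
    exact mem_centralizer_singleton_iff.2 (congrArg Subtype.val (mem_center_iff.1 h1 ⟨y, hy⟩))
  by_cases hall : ∀ t : G, t * t = 1 → t ∈ center G
  · have hnpc : Cfsg.HasNormalPComplement 2 G := by
      refine CfsgLib.Fusion.Alperin.npc_of_frobenius S fun Q hQ g hg hco => mem_centralizer_iff.2 fun x hx => ?_
      obtain ⟨k, hk⟩ := S.isPGroup' ⟨x, hQ hx⟩
      refine (commute_of_odd hg (Nat.coprime_two_right.1 hco) (fun u hu v hv huv => ?_)
        (fun u _ huu => mem_center_iff.1 (hall u huu) g) k x hx (congrArg Subtype.val hk)).symm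
      have h1 : (⟨u, hQ hu⟩ : ↥(S : Subgroup G)) ∈ center ↥(S : Subgroup G) :=
        hS _ (isConj_iff.2 ⟨⟨v, hQ hv⟩, Subtype.ext huv⟩)
      have h2 : v * u = u * v := congrArg Subtype.val (mem_center_iff.1 h1 ⟨v, hQ hv⟩)
      rw [h2, mul_inv_cancel_right] at huv
      exact eq_inv_iff_mul_eq_one.1 huv
    refine ⟨?_, CfsgLib.Fusion.Basic.npc_subgroup hnpc _⟩
    obtain ⟨P, N, hN, hNP⟩ := hnpc
    haveI := hN
    have hNo : Odd (Nat.card N) := by
      rw [← hNP.index_eq_card]
      exact Nat.odd_iff.2 (Nat.two_dvd_ne_zero.1 P.not_dvd_index)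
    haveI : Group.IsSolvable N := hFT N hNo
    haveI : Group.IsSolvable (G ⧸ N) := by
      have h1 : IsPGroup 2 (G ⧸ N) := IsPGroup.of_card (n := (Nat.card G).factorization 2)
        (by rw [← index_eq_card, hNP.symm.index_eq_card, Sylow.card_eq_multiplicity])
      haveI := h1.isNilpotent
      infer_instance
    exact Group.isSolvable_of_ker_le_range N.subtype (QuotientGroup.mk' N) (by simp)
  · push Not at hall
    obtain ⟨t, htt, htc⟩ := hall
    have ha : a = 0 := by
      obtain ⟨P, hP⟩ := (IsPGroup.of_card (n := 1) (show Nat.card (zpowers t) = 2 ^ 1 by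
        rw [Nat.card_zpowers, pow_one]
        exact orderOf_eq_prime (by rw [pow_two, htt]) fun e => htc (e ▸ one_mem _))).exists_le_sylow
      obtain ⟨c, hc⟩ := MulAction.exists_smul_eq G P S
      have hcS : c * t * c⁻¹ ∈ (S : Subgroup G) := by
        rw [← hc]; exact mem_map.2 ⟨t, hP (mem_zpowers t), rfl⟩
      have hsq : c * t * c⁻¹ * (c * t * c⁻¹) = 1 := by
        rw [show c * t * c⁻¹ * (c * t * c⁻¹) = c * (t * t) * c⁻¹ by group, htt, mul_one, mul_inv_cancel]
      have hnc : c * t * c⁻¹ ∉ center G := fun hm => htc (by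
        have := (inferInstance : (center G).Normal).conj_mem _ hm c⁻¹
        rwa [inv_inv, show c⁻¹ * (c * t * c⁻¹) * c = t by group] at this)
      rw [← h _ (by rw [inv_eq_of_mul_eq_one_right hsq]) hnc]
      exact Nat.factorization_eq_zero_of_not_dvd fun hd =>
        S.not_dvd_index (hd.trans (index_dvd_of_le (hinvS _ hcS hsq)))
    have hnr : NoReal G := by
      intro y g hy hg
      by_contra hy1
      have hy2 : y * y ≠ 1 := fun e => hy1 (orderOf_eq_one_iff.1 (Nat.eq_one_of_dvd_coprimes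
        (Nat.coprime_two_right.2 hy) dvd_rfl (orderOf_dvd_of_pow_eq_one (by rw [pow_two, e]))))
      have hgy : g * y ≠ y * g := fun e => hy2 (by
        rw [e, mul_inv_cancel_right] at hg
        exact eq_inv_iff_mul_eq_one.1 hg)
      have hync : y ∉ center G := fun hm => hgy (mem_center_iff.1 hm g)
      set C := centralizer ({y} : Set G) with hC
      have hodd : ¬ 2 ∣ C.index := fun hd => by
        have := h y (isConj_iff.2 ⟨g, hg⟩) hync
        rw [ha] at this
        have h1 := Nat.Prime.factorization_pos_of_dvd Nat.prime_two index_ne_zero_of_finite hd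
        rw [hC] at h1
        omega
      have hgN : g ∈ normalizer (C : Set G) := by
        refine CfsgLib.Coprime.mem_normalizer_of_conj_map_le fun z hz => ?_
        rw [hC, mem_centralizer_singleton_iff] at hz ⊢
        have e : g * y⁻¹ * g⁻¹ = y := by rw [← conj_inv, hg, inv_inv]
        calc g * z * g⁻¹ * y = g * z * g⁻¹ * (g * y⁻¹ * g⁻¹) := by rw [e]
          _ = g * (z * y⁻¹) * g⁻¹ := by group
          _ = g * (y⁻¹ * z) * g⁻¹ := by rw [(show Commute z y from hz).inv_right.eq]
          _ = g * y⁻¹ * g⁻¹ * (g * z * g⁻¹) := by group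
          _ = y * (g * z * g⁻¹) := by rw [e]
      haveI : (C.subgroupOf (normalizer (C : Set G))).Normal := normal_in_normalizer
      have hpow : g ^ (C.relIndex (normalizer (C : Set G))) ∈ C :=
        mem_subgroupOf.1 (pow_index_mem (C.subgroupOf (normalizer (C : Set G))) (⟨g, hgN⟩ : ↥(normalizer (C : Set G))))
      have hrodd : Odd (C.relIndex (normalizer (C : Set G))) :=
        (Nat.odd_iff.2 (Nat.two_dvd_ne_zero.1 hodd)).of_dvd_nat (relIndex_dvd_index_of_le le_normalizer)
      have hg2 : g ^ 2 ∈ C := mem_centralizer_singleton_iff.2 (by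
        calc g ^ 2 * y = g * (g * y * g⁻¹) * g⁻¹ * g ^ 2 := by rw [pow_two]; group
          _ = (g * y⁻¹ * g⁻¹) * g ^ 2 := by rw [hg]
          _ = y * g ^ 2 := by rw [← conj_inv, hg, inv_inv])
      obtain ⟨j, hj⟩ := hrodd
      rw [hj, pow_succ, pow_mul] at hpow
      exact hgy (mem_centralizer_singleton_iff.1 ((mul_mem_cancel_left (pow_mem hg2 j)).1 hpow))
    haveI hOn : (Cfsg.pCore 2 G).Normal := CfsgLib.Solvable.Cores.pCore_normal 2
    have hidx := odd_index_pCore hnr
    have h2 : IsPGroup 2 ↥(Cfsg.pCore 2 G) := CfsgLib.Solvable.Cores.isPGroup_pCore 2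
    refine ⟨isSolvable_of_odd_index hFT _ (by haveI := h2.isNilpotent; infer_instance) hidx,
      CfsgLib.Fusion.Basic.npc_of_isPGroup (h2.to_le ((closure_le _).2 fun z ⟨k, hk⟩ => ?_))⟩
    show z ∈ Cfsg.pCore 2 G
    rw [← QuotientGroup.eq_one_iff, ← orderOf_eq_one_iff]
    refine Nat.eq_one_of_dvd_coprimes ((Nat.coprime_two_left.2 hidx).pow_left k) ?_ ?_
    · exact (orderOf_map_dvd (QuotientGroup.mk' (Cfsg.pCore 2 G)) z).trans (dvd_of_eq hk)
    · rw [index_eq_card]; exact orderOf_dvd_natCard _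

end CfsgLib.FTApps.RealTwoPart
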