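import Cfsg.Agent.Lib.FTApps.KleinFour
import Cfsg.Agent.Lib.Components.Signalizer.Equivariant
import Cfsg.Agent.Lib.Components.Constrained
import Cfsg.Agent.S0502

/-! The odd subgroup generated by the cores of involution centralisers, when 2-locals are
2-constrained and a Sylow 2-subgroup has a normal abelian self-centralising subgroup of rank 3
(given FT). -/

namespace CfsgLib.FTApps

universe u

open Subgroup CfsgLib.Components CfsgLib.Components.Signalizer CfsgLib.Components.SFT

variable {G : Type u} [Group G] [Finite G]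

/-- If `C(t)` is constrained and `b` is a 2-element commuting with `t`, the core of `C(b)` inside
`C(t)` lies in the core of `C(t)`. -/
theorem core_pow_inf_centralizer_le [hp : Fact (Nat.Prime 2)] {a b : G} {k : ℕ} (hab : a * b = b * a)
    (ha : orderOf a = 2 ^ k) (hL : Cfsg.pLayer 2 ↥(centralizer ({b} : Set G)) = ⊥) :
    Cfsg.centralizerPPrimeCore 2 a ⊓ centralizer {b} ≤ Cfsg.centralizerPPrimeCore 2 b := by
  set H := centralizer ({b} : Set G) with hH
  let a' : H := ⟨a, mem_centralizer_singleton_iff.mpr hab⟩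
  have hP : IsPGroup 2 ↥(zpowers a') := IsPGroup.of_card (n := k) (by
    rw [Nat.card_zpowers, ← Subgroup.orderOf_coe]; exact ha)
  set N := normalizer ((zpowers a' : Subgroup H) : Set H) with hN
  let f : N →* G := H.subtype.comp N.subtype
  have hf : Function.Injective f := H.subtype_injective.comp N.subtype_injective
  set D := (Cfsg.centralizerPPrimeCore 2 a).comap f with hD
  have hDcard : (Nat.card D).Coprime 2 := by
    refine ((hp.out.coprime_iff_not_dvd.mpr
      (not_dvd_centralizerPPrimeCore (p := 2) a)).symm).coprime_dvd_left ?_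
    rw [← card_map_of_injective hf]
    exact card_dvd_of_le (map_comap_le _ _)
  haveI hDn : D.Normal := by
    refine ⟨fun d hd n => ?_⟩
    have hn : (f n) ∈ normalizer ((centralizer ({a} : Set G) : Subgroup G) : Set G) := by
      have h1 : f n ∈ normalizer ((zpowers a : Subgroup G) : Set G) := by
        have h2 : (zpowers a').map H.subtype = zpowers a := by
          rw [MonoidHom.map_zpowers]; rfl
        rw [← h2]
        exact le_normalizer_map H.subtype (mem_map_of_mem _ n.2)
      have h3 := normalizer_le_normalizer_centralizer h1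
      rwa [zpowers_eq_closure, centralizer_closure] at h3
    have hnorm : f n ∈ normalizer (Cfsg.centralizerPPrimeCore 2 a : Set G) :=
      map_subtype_normal_of_characteristic hn
    show f (n * d * n⁻¹) ∈ Cfsg.centralizerPPrimeCore 2 a
    rw [map_mul, map_mul, map_inv]
    exact (mem_normalizer_iff.mp hnorm (f d)).mp hd
  intro x hx
  obtain ⟨hxa, hxb⟩ := hx
  have hxN : (⟨x, hxb⟩ : H) ∈ N := centralizer_le_normalizer _ (by
    rw [zpowers_eq_closure, centralizer_closure, mem_centralizer_singleton_iff]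
    exact Subtype.ext (mem_centralizer_singleton_iff.mp (centralizerPPrimeCore_le a hxa)))
  have h1 : (⟨⟨x, hxb⟩, hxN⟩ : N) ∈ Cfsg.pPrimeCore 2 ↥N :=
    Solvable.Cores.le_pPrimeCore hDcard hxa
  have h2 := (normalizer_of_pLayer_eq_bot hL hP).2 (mem_map_of_mem N.subtype h1)
  exact mem_map_of_mem H.subtype h2

/-- 2-constraint of 2-locals gives trivial 2-layers of involution centralisers. -/
theorem pLayer_centralizer_eq_bot [Fact (Nat.Prime 2)]
    (h2c : ∀ T : Subgroup G, IsPGroup 2 T → T ≠ ⊥ →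
      Cfsg.IsPConstrained 2 ↥(Subgroup.normalizer (T : Set G)))
    {t : G} (ht : orderOf t = 2) : Cfsg.pLayer 2 ↥(centralizer ({t} : Set G)) = ⊥ := by
  have e : normalizer ((zpowers t : Subgroup G) : Set G) = centralizer ({t} : Set G) := by
    refine le_antisymm (fun g hg => mem_centralizer_singleton_iff.2 ?_) ?_
    · have h1 : g * t * g⁻¹ ∈ zpowers t := (mem_normalizer_iff.1 hg t).1 (mem_zpowers t)
      obtain ⟨i, hi⟩ := mem_zpowers_iff.1 h1
      rcases Int.even_or_odd i with ⟨j, rfl⟩ | ⟨j, rfl⟩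
      · rw [← two_mul, zpow_mul, zpow_two, ← pow_two,
          orderOf_dvd_iff_pow_eq_one.1 ht.dvd, one_zpow] at hi
        have h2 : t = 1 := by
          rw [eq_comm, mul_inv_eq_one, mul_eq_left] at hi
          exact hi
        rw [h2, orderOf_one] at ht
        exact absurd ht (by norm_num)
      · rw [zpow_add, zpow_mul, zpow_two, ← pow_two, orderOf_dvd_iff_pow_eq_one.1 ht.dvd,
          one_zpow, one_mul, zpow_one] at hi
        exact (mul_inv_eq_iff_eq_mul.1 hi.symm)
    · refine (le_trans ?_ (centralizer_le_normalizer _))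
      rw [zpowers_eq_closure, centralizer_closure]
  have hT : IsPGroup 2 ↥(zpowers t) := IsPGroup.of_card (n := 1) (by rw [Nat.card_zpowers, ht, pow_one])
  have hne : zpowers t ≠ ⊥ := fun h => by
    rw [zpowers_eq_bot] at h
    rw [h, orderOf_one] at ht
    exact absurd ht (by norm_num)
  have := isPConstrained_iff.1 (h2c _ hT hne)
  rwa [e] at this

/-- The statement of S3110, given FT. -/
theorem exists_core_closure (hFT : OddSolvable.{u})
    (h2c : ∀ T : Subgroup G, IsPGroup 2 T → T ≠ ⊥ →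
      Cfsg.IsPConstrained 2 ↥(Subgroup.normalizer (T : Set G)))
    (S : Sylow 2 G) (A : Subgroup ↥(S : Subgroup G)) (hAn : A.Normal) (hAab : IsMulCommutative ↥A)
    (hA3 : ¬ Cfsg.PRankLE 2 2 ↥A) (S' : Sylow 2 G) :
    ∃ W : Subgroup G, Odd (Nat.card ↥W) ∧
      ∀ B : Subgroup G, B ≤ (S' : Subgroup G) → ¬ Cfsg.PRankLE 2 1 ↥B →
        W = (⨆ b : {b : G // b ∈ B ∧ b ≠ 1}, Cfsg.centralizerPPrimeCore 2 (b : G)) ∧
        Subgroup.normalizer (B : Set G) ≤ Subgroup.normalizer (W : Set G) := by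
  classical
  haveI : Fact (Nat.Prime 2) := ⟨Nat.prime_two⟩
  set θ : G → Subgroup G := fun a => Cfsg.centralizerPPrimeCore 2 a with hθdef
  have hodd : ∀ a, ¬ 2 ∣ Nat.card ↥(θ a) := fun a => not_dvd_centralizerPPrimeCore a
  have hC : ∀ a : G, Good 2 a → θ a ≤ centralizer ({a} : Set G) ∧ ¬ 2 ∣ Nat.card ↥(θ a) ∧
      Group.IsSolvable ↥(θ a) := fun a _ =>
    ⟨centralizerPPrimeCore_le a, hodd a, hFT _ (Nat.odd_iff.2 (by have := hodd a; omega))⟩
  have heq : ∀ a g : G, Good 2 a → θ (g * a * g⁻¹) = (θ a).map (MulAut.conj g).toMonoidHom :=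
    fun a g _ => map_conj_core a g
  have hbal : ∀ a b : G, Good 2 a → Good 2 b → a * b = b * a →
      θ a ⊓ centralizer {b} ≤ θ b := fun a b ha hb hab =>
    core_pow_inf_centralizer_le (k := 1) hab (by rw [pow_one]; exact ha.1)
      (pLayer_centralizer_eq_bot h2c hb.1)
  -- a normal elementary subgroup of order at least eight of `S'`
  obtain ⟨E, hEn, hE, hE8⟩ : ∃ E : Subgroup ↥(S' : Subgroup G), E.Normal ∧
      Cfsg.IsElementaryAbelian 2 E ∧ 8 ≤ Nat.card E := by
    let e : ↥(S : Subgroup G) ≃* ↥(S' : Subgroup G) := S.equiv S'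
    let E0 : Subgroup ↥(S : Subgroup G) :=
      { carrier := {x | x ∈ A ∧ x ^ 2 = 1}
        one_mem' := ⟨one_mem _, one_pow _⟩
        mul_mem' := fun {a b} ha hb => ⟨mul_mem ha.1 hb.1, by
          rw [Commute.mul_pow (show Commute a b from setLike_mul_comm ha.1 hb.1), ha.2, hb.2,
            one_mul]⟩
        inv_mem' := fun {a} ha => ⟨inv_mem ha.1, by rw [inv_pow, ha.2, inv_one]⟩ }
    have hE0n : E0.Normal := ⟨fun x hx g => ⟨hAn.conj_mem x hx.1 g, by
      rw [conj_pow, hx.2, mul_one, mul_inv_cancel]⟩⟩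
    have hE0 : Cfsg.IsElementaryAbelian 2 E0 :=
      ⟨⟨⟨fun a b => Subtype.ext (setLike_mul_comm a.2.1 b.2.1)⟩⟩, fun a ha => ha.2⟩
    have h8 : 8 ≤ Nat.card E0 := by
      simp only [Cfsg.PRankLE, not_forall, not_le] at hA3
      obtain ⟨C, hCc, hC2, hC4⟩ := hA3
      have hle : C.map A.subtype ≤ E0 := by
        rintro _ ⟨c, hc, rfl⟩
        exact ⟨c.2, by rw [← map_pow, hC2 c hc, map_one]⟩
      obtain ⟨n, hn⟩ := (isPGroup_of_elementary hE0).exists_card_eq
      have h5 := card_le_of_le hle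
      rw [card_map_of_injective A.subtype_injective, hn] at h5
      have h6 : 2 < n := (Nat.pow_lt_pow_iff_right (le_refl 2)).1 (hC4.trans_le h5)
      rw [hn]
      exact (show 8 = 2 ^ 3 by norm_num) ▸ Nat.pow_le_pow_right (by norm_num) h6
    refine ⟨E0.map e.toMonoidHom, hE0n.map _ e.surjective, ⟨⟨⟨?_⟩⟩, ?_⟩, ?_⟩
    · rintro ⟨_, a, ha, rfl⟩ ⟨_, b, hb, rfl⟩
      refine Subtype.ext ?_
      simp only [Subgroup.coe_mul]
      rw [← map_mul, ← map_mul, setLike_mul_comm ha.1 hb.1]
    · rintro _ ⟨a, ha, rfl⟩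
      rw [← map_pow, ha.2, map_one]
    · rwa [card_map_of_injective (show Function.Injective e.toMonoidHom from e.injective)]
  haveI := hEn
  set E' := E.map (S' : Subgroup G).subtype with hE'
  have hE'S : E' ≤ (S' : Subgroup G) := map_subtype_le _
  have hE'e : Cfsg.IsElementaryAbelian 2 E' := by
    refine ⟨⟨⟨?_⟩⟩, ?_⟩
    · rintro ⟨_, a, ha, rfl⟩ ⟨_, b, hb, rfl⟩
      refine Subtype.ext ?_
      simp only [Subgroup.coe_mul]
      rw [← map_mul, ← map_mul]
      exact congrArg _ (commute_of_mem hE ha hb)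
    · rintro _ ⟨a, ha, rfl⟩
      rw [← map_pow, hE.2 a ha, map_one]
  have hE'8 : 2 ^ 3 ≤ Nat.card E' := by
    rw [hE', card_map_of_injective (subtype_injective _)]; norm_num; exact hE8
  set W := vertexClosure θ E' with hW
  obtain ⟨hWm, -⟩ := solvable_complete hE'e hE'8 (functor_of_big hC heq hbal hE'e hE'8)
  -- four-groups of `S'`
  have hel : ∀ {U : Subgroup G}, IsKleinFour U → Cfsg.IsElementaryAbelian 2 U := fun {U} hU =>
    ⟨IsKleinFour.isMulCommutative, fun a ha => by
      have h := Monoid.pow_exponent_eq_one (⟨a, ha⟩ : U)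
      rw [hU.exponent_two] at h
      exact congrArg Subtype.val h⟩
  have hadj : ∀ U V : Subgroup G, IsKleinFour U → IsKleinFour V →
      (∀ a ∈ U, ∀ b ∈ V, a * b = b * a) → vertexClosure θ U = vertexClosure θ V := by
    intro U V hU hV hc
    by_cases hUV : U = V
    · rw [hUV]
    have hsup := elementary_sup (hel hU) (hel hV)
      (fun f hf => mem_centralizer_iff.2 fun e he => hc e he f hf)
    obtain ⟨n, hn⟩ := (isPGroup_of_elementary hsup).exists_card_eq
    have h8 : 2 ^ 3 ≤ Nat.card ↥(U ⊔ V) := by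
      have hlt : Nat.card U < Nat.card ↥(U ⊔ V) := by
        refine lt_of_le_of_ne (card_le_of_le le_sup_left) fun e => hUV ?_
        have h1 := eq_of_le_of_card_ge le_sup_left e.ge
        refine (eq_of_le_of_card_ge ?_ (by rw [hU.card_four, hV.card_four])).symm
        rw [h1]; exact le_sup_right
      rw [hU.card_four, hn, show 4 = 2 ^ 2 by norm_num] at hlt
      rw [hn]
      exact Nat.pow_le_pow_right (by norm_num) ((Nat.pow_lt_pow_iff_right (le_refl 2)).1 hlt)
    rw [vertexClosure_eq hC heq hbal hsup h8 le_sup_left (by rw [hU.card_four]; norm_num),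
      vertexClosure_eq hC heq hbal hsup h8 le_sup_right (by rw [hV.card_four]; norm_num)]
  have htwo : ∀ {K : Subgroup G}, Cfsg.IsElementaryAbelian 2 K → 4 ≤ Nat.card K →
      ∀ {x : G}, x ∈ K → x ≠ 1 → ∃ U : Subgroup G, U ≤ K ∧ x ∈ U ∧ IsKleinFour U := by
    intro K hK hK4 x hx hx1
    obtain ⟨z, hz, hzx⟩ : ∃ z ∈ K, z ∉ zpowers x := by
      by_contra h
      push Not at h
      have h1 := card_le_of_le (show K ≤ zpowers x from h)
      rw [Nat.card_zpowers, orderOf_eq_prime (hK.2 x hx) hx1] at h1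
      omega
    have hz1 : z ≠ 1 := fun e => hzx (e ▸ one_mem _)
    refine ⟨zpowers x ⊔ zpowers z, sup_le (zpowers_le.2 hx) (zpowers_le.2 hz),
      mem_sup_left (mem_zpowers x), kleinFour_sup (orderOf_eq_prime (hK.2 x hx) hx1)
      (orderOf_eq_prime (hK.2 z hz) hz1) (fun e => hzx (e ▸ mem_zpowers x))
      (commute_of_mem hK hx hz)⟩
  obtain ⟨e₀, he₀, he₀1⟩ : ∃ e ∈ E', e ≠ 1 :=
    E'.bot_or_exists_ne_one.resolve_left fun h => by
      rw [h, card_bot] at hE'8; norm_num at hE'8
  obtain ⟨U₀, hU₀E, -, hU₀⟩ := htwo hE'e (le_trans (by norm_num) hE'8) he₀ he₀1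
  have hU₀W : vertexClosure θ U₀ = W :=
    vertexClosure_eq hC heq hbal hE'e hE'8 hU₀E (by rw [hU₀.card_four]; norm_num)
  have hconn : Cfsg.IsFourConnected ↥(S' : Subgroup G) :=
    Cfsg.Agent.S0502.result S'.isPGroup' E hE.1 hE.2 hE8
  have hfour : ∀ U : Subgroup G, U ≤ (S' : Subgroup G) → IsKleinFour U → vertexClosure θ U = W := by
    intro U hUS hU
    have hin : ∀ {V : Subgroup G}, V ≤ (S' : Subgroup G) → IsKleinFour V →
        IsKleinFour (V.subgroupOf (S' : Subgroup G)) := fun {V} hV hV4 =>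
      ⟨(Nat.card_congr (subgroupOfEquivOfLe hV).toEquiv).trans hV4.card_four,
        (Monoid.exponent_eq_of_mulEquiv (subgroupOfEquivOfLe hV)).trans hV4.exponent_two⟩
    have hout : ∀ {V : Subgroup ↥(S' : Subgroup G)}, IsKleinFour V →
        IsKleinFour (V.map (S' : Subgroup G).subtype) := fun {V} hV =>
      ⟨(card_map_of_injective (subtype_injective _)).trans hV.card_four,
        (Monoid.exponent_eq_of_mulEquiv (V.equivMapOfInjective _ (subtype_injective _))).symm.trans
          hV.exponent_two⟩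
    have hpath := hconn _ _ (hin (hU₀E.trans hE'S) hU₀) (hin hUS hU)
    have key : ∀ V, Relation.ReflTransGen (fun A B : Subgroup ↥(S' : Subgroup G) =>
        IsKleinFour A ∧ IsKleinFour B ∧ ∀ a ∈ A, ∀ b ∈ B, a * b = b * a)
        (U₀.subgroupOf (S' : Subgroup G)) V →
        vertexClosure θ (V.map (S' : Subgroup G).subtype) = W := by
      intro V h
      induction h with
      | refl => rw [map_subgroupOf_eq_of_le (hU₀E.trans hE'S)]; exact hU₀W
      | tail _ h ih =>
        refine (hadj _ _ (hout h.2.1) (hout h.1) ?_).trans ih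
        rintro _ ⟨a, ha, rfl⟩ _ ⟨b, hb, rfl⟩
        rw [← map_mul, ← map_mul, h.2.2 b hb a ha]
    have := key _ hpath
    rwa [map_subgroupOf_eq_of_le hUS] at this
  -- every involution of `S'` lies in a four-group of `S'`
  have hinv : ∀ t ∈ (S' : Subgroup G), orderOf t = 2 → θ t ≤ W := by
    intro t ht hto
    suffices h : ∃ U : Subgroup G, U ≤ (S' : Subgroup G) ∧ t ∈ U ∧ IsKleinFour U by
      obtain ⟨U, hUS, htU, hU⟩ := h
      rw [← hfour U hUS hU]
      exact le_iSup (fun e : {e : G // e ∈ U ∧ e ≠ 1} => θ (e : G))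
        ⟨t, htU, fun e => by rw [e, orderOf_one] at hto; exact absurd hto (by norm_num)⟩
    have ht1 : t ≠ 1 := fun e => by rw [e, orderOf_one] at hto; exact absurd hto (by norm_num)
    by_cases htE : t ∈ E'
    · obtain ⟨U, hU, htU, hU4⟩ := htwo hE'e (le_trans (by norm_num) hE'8) htE ht1
      exact ⟨U, hU.trans hE'S, htU, hU4⟩
    -- `⟨t⟩` fixes a nontrivial element of `E`
    obtain ⟨z, hz, hz1, hcz⟩ : ∃ z ∈ E', z ≠ 1 ∧ t * z = z * t := by
      let w : G → G := fun e => e * (t * e * t⁻¹)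
      have hconjE : ∀ e ∈ E', t * e * t⁻¹ ∈ E' := by
        rintro _ ⟨x, hx, rfl⟩
        exact ⟨⟨t, ht⟩ * x * ⟨t, ht⟩⁻¹, hEn.conj_mem x hx _, rfl⟩
      by_cases hall : ∀ e ∈ E', w e = 1
      · refine ⟨e₀, he₀, he₀1, ?_⟩
        have h1 : t * e₀ * t⁻¹ = e₀⁻¹ := eq_inv_of_mul_eq_one_right (hall e₀ he₀)
        rw [inv_eq_of_mul_eq_one_right (show e₀ * e₀ = 1 by rw [← pow_two]; exact hE'e.2 e₀ he₀)] at h1
        exact mul_inv_eq_iff_eq_mul.1 h1
      · push Not at hall
        obtain ⟨e, he, hwe⟩ := hall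
        refine ⟨w e, mul_mem he (hconjE e he), hwe, ?_⟩
        have htt : t * t = 1 := by rw [← pow_two, ← hto, pow_orderOf_eq_one]
        have hti : t⁻¹ = t := inv_eq_of_mul_eq_one_right htt
        have hc := commute_of_mem hE'e he (hconjE e he)
        show t * (e * (t * e * t⁻¹)) = e * (t * e * t⁻¹) * t
        calc t * (e * (t * e * t⁻¹)) = (t * e * t⁻¹) * (t * t) * e * t⁻¹ := by group
          _ = (t * e * t⁻¹) * e * t := by rw [htt, mul_one, hti]
          _ = e * (t * e * t⁻¹) * t := by rw [← hc]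
    have hne : t ≠ z := fun e => htE (e ▸ hz)
    exact ⟨zpowers t ⊔ zpowers z, sup_le (zpowers_le.2 ht) (zpowers_le.2 (hE'S hz)),
      mem_sup_left (mem_zpowers t),
      kleinFour_sup hto (orderOf_eq_prime (hE'e.2 z hz) hz1) hne hcz⟩
  refine ⟨W, Nat.odd_iff.2 (Nat.two_dvd_ne_zero.1 hWm.2.1), fun B hBS hB2 => ?_⟩
  have hWB : W = ⨆ b : {b : G // b ∈ B ∧ b ≠ 1}, Cfsg.centralizerPPrimeCore 2 (b : G) := by
    refine le_antisymm ?_ (iSup_le fun b => ?_)
    · simp only [Cfsg.PRankLE, not_forall, not_le] at hB2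
      obtain ⟨C, hCc, hC2, hC4⟩ := hB2
      have hC' : Cfsg.IsElementaryAbelian 2 C := ⟨hCc, hC2⟩
      obtain ⟨n, hn⟩ := (isPGroup_of_elementary hC').exists_card_eq
      have hC4' : 4 ≤ Nat.card C := by
        rw [hn] at hC4 ⊢
        exact (show 4 = 2 ^ 2 by norm_num) ▸
          Nat.pow_le_pow_right (by norm_num) ((Nat.pow_lt_pow_iff_right (le_refl 2)).1 hC4)
      set C' := C.map B.subtype
      have hCe : Cfsg.IsElementaryAbelian 2 C' := by
        refine ⟨⟨⟨?_⟩⟩, ?_⟩
        · rintro ⟨_, a, ha, rfl⟩ ⟨_, b, hb, rfl⟩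
          refine Subtype.ext ?_
          simp only [Subgroup.coe_mul]
          rw [← map_mul, ← map_mul]
          exact congrArg _ (commute_of_mem hC' ha hb)
        · rintro _ ⟨a, ha, rfl⟩
          rw [← map_pow, hC2 a ha, map_one]
      have hc4 : 4 ≤ Nat.card C' := by rwa [card_map_of_injective B.subtype_injective]
      obtain ⟨x, hx, hx1⟩ : ∃ x ∈ C', x ≠ 1 :=
        C'.bot_or_exists_ne_one.resolve_left fun h => by rw [h, card_bot] at hc4; omega
      obtain ⟨U, hU, -, hU4⟩ := htwo hCe hc4 hx hx1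
      have hUB : U ≤ B := hU.trans (map_subtype_le _)
      rw [← hfour U (hUB.trans hBS) hU4]
      exact iSup_le fun e => le_iSup (fun b : {b : G // b ∈ B ∧ b ≠ 1} =>
        Cfsg.centralizerPPrimeCore 2 (b : G)) ⟨e, hUB e.2.1, e.2.2⟩
    · obtain ⟨k, hk⟩ := IsPGroup.iff_orderOf.1 S'.isPGroup' ⟨b, hBS b.2.1⟩
      rw [← Subgroup.orderOf_coe] at hk
      have hk0 : k ≠ 0 := by
        rintro rfl
        rw [pow_zero, orderOf_eq_one_iff] at hk
        exact b.2.2 hk
      set t := (b : G) ^ 2 ^ (k - 1) with htdef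
      have hto : orderOf t = 2 := by
        rw [htdef, orderOf_pow_of_dvd (by positivity) (by rw [hk]; exact pow_dvd_pow 2 (Nat.sub_le k 1)),
          hk, Nat.pow_div (Nat.sub_le k 1) two_pos, show k - (k - 1) = 1 by omega, pow_one]
      refine le_trans ?_ (hinv t (pow_mem (hBS b.2.1) _) hto)
      refine le_trans (le_inf le_rfl ?_)
        (core_pow_inf_centralizer_le (Commute.self_pow (b : G) _) hk
          (pLayer_centralizer_eq_bot h2c hto))
      refine (centralizerPPrimeCore_le _).trans fun x hx => ?_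
      rw [mem_centralizer_singleton_iff] at hx ⊢
      exact (Commute.pow_right (show Commute x (b : G) from hx) _).eq
  refine ⟨hWB, fun g hg => ?_⟩
  refine CfsgLib.Coprime.mem_normalizer_of_conj_map_le (CfsgLib.Coprime.conj_map_le_iff.1 ?_)
  rw [hWB, Subgroup.map_iSup]
  refine iSup_le fun b => ?_
  rw [← map_conj_core]
  exact le_iSup (fun b : {b : G // b ∈ B ∧ b ≠ 1} => Cfsg.centralizerPPrimeCore 2 (b : G))
    ⟨g * b * g⁻¹, (mem_normalizer_iff.1 hg _).1 b.2.1, fun h => b.2.2 (by simpa using h)⟩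

end CfsgLib.FTApps
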